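import Cfsg.Agent.Lib.Known.AutPSL.Classify
import Cfsg.Agent.Lib.Classical.LinearOrder

/-!
# The structure of `Aut (PSL n F)`: parameters, order, outer group
-/

set_option autoImplicit false

open Matrix

namespace CfsgLib.Known.AutPSL

variable {n : ℕ} {F : Type*} [Field F]

/-! ### The automorphism group of a finite field -/

section RingAut

variable [Fintype F] {p f : ℕ} [Fact p.Prime]

theorem charP_of_card (hF : Fintype.card F = p ^ f) (hf : 1 ≤ f) : CharP F p := by
  obtain ⟨p', hc⟩ := CharP.exists F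
  haveI := hc
  obtain ⟨k, hp', hq⟩ := FiniteField.card F p'
  have hp : p.Prime := Fact.out
  have : p = p' := (Nat.prime_dvd_prime_iff_eq hp hp').1
    (hp.dvd_of_dvd_pow (by rw [← hq, hF]; exact dvd_pow_self p (by omega)))
  exact this ▸ hc

theorem card_ringAut (hF : Fintype.card F = p ^ f) (hf : 1 ≤ f) :
    Nat.card (F ≃+* F) = f ∧ IsCyclic (F ≃+* F) := by
  haveI := charP_of_card hF hf
  letI : Algebra (ZMod p) F := ZMod.algebra F p
  let e : (F ≃ₐ[ZMod p] F) ≃* (F ≃+* F) :=
    { toFun := fun a => a.toRingEquiv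
      invFun := fun a => AlgEquiv.ofRingEquiv (f := a)
        (fun x => RingHom.congr_fun (Subsingleton.elim (a.toRingHom.comp (algebraMap (ZMod p) F))
          (algebraMap (ZMod p) F)) x)
      left_inv := fun a => AlgEquiv.ext fun x => rfl
      right_inv := fun a => RingEquiv.ext fun x => rfl
      map_mul' := fun a b => RingEquiv.ext fun x => rfl }
  refine ⟨?_, isCyclic_of_surjective e e.surjective⟩
  rw [← Nat.card_congr e.toEquiv, IsGalois.card_aut_eq_finrank]
  have h := FiniteField.pow_finrank_eq_card p F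
  rw [hF] at h
  exact Nat.pow_right_injective (Fact.out : p.Prime).two_le h

end RingAut

/-! ### Parameters -/

/-- `semilin g σ` followed by `iota` if `e`. -/
def mkAut (g : GL (Fin n) F) (σ : F ≃+* F) (e : Bool) : MulAut (PSL n F) :=
  semilin g σ * if e then iota else 1

theorem mkAut_false (g : GL (Fin n) F) (σ : F ≃+* F) : mkAut g σ false = semilin g σ := by
  simp [mkAut]

theorem mkAut_true (g : GL (Fin n) F) (σ : F ≃+* F) : mkAut g σ true = semilin g σ * iota := by
  simp [mkAut]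

theorem mkAut_mul (g h : GL (Fin n) F) (σ τ : F ≃+* F) (e d : Bool) :
    mkAut g σ e * mkAut h τ d =
      mkAut (g * glMap σ (if e then glIota h else h)) (τ.trans σ) (xor e d) := by
  cases e <;> cases d <;>
    simp only [mkAut, Bool.xor_false, Bool.xor_true, Bool.not_false, Bool.not_true, if_true,
      Bool.false_eq_true, if_false, mul_one, mul_assoc]
  · rw [semilin_mul]
  · rw [← mul_assoc, semilin_mul]
  · rw [iota_semilin, ← mul_assoc, semilin_mul]
  · rw [← mul_assoc iota, iota_semilin, mul_assoc, iota_iota, mul_one, semilin_mul]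

theorem mkAut_eq_iff (hn : 2 ≤ n) {g h : GL (Fin n) F} {σ τ : F ≃+* F} {e d : Bool}
    (he : n = 2 → e = false ∧ d = false) :
    mkAut g σ e = mkAut h τ d ↔
      σ = τ ∧ e = d ∧ ∃ c : F, (h : Matrix (Fin n) (Fin n) F) = c • (g : Matrix (Fin n) (Fin n) F) := by
  have key : ∀ (g h : GL (Fin n) F) (σ τ : F ≃+* F), semilin g σ = semilin h τ ↔
      σ = τ ∧ ∃ c : F, (h : Matrix (Fin n) (Fin n) F) = c • (g : Matrix (Fin n) (Fin n) F) := by
    intro g h σ τ
    have h1 : semilin g σ = semilin h τ ↔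
        semilin (glMap σ.symm g⁻¹ * glMap σ.symm h) (τ.trans σ.symm) = 1 := by
      rw [← semilin_mul, ← semilin_inv, inv_mul_eq_one]
    rw [h1, semilin_eq_one_iff hn, ← map_mul]
    refine and_congr ⟨fun h => ?_, ?_⟩ ⟨?_, ?_⟩
    · refine RingEquiv.ext fun x => ?_
      simpa using (congrArg σ (RingEquiv.congr_fun h x)).symm
    · rintro rfl
      exact RingEquiv.self_trans_symm σ
    · rintro ⟨c, hc⟩
      refine ⟨σ c, ?_⟩
      have h2 := congrArg (fun X : Matrix (Fin n) (Fin n) F => X.map σ) hc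
      simp only [coe_glMap, Matrix.map_map, (funext σ.apply_symm_apply : (⇑σ ∘ ⇑σ.symm) = id),
        Matrix.map_id] at h2
      rw [show ((c • (1 : Matrix (Fin n) (Fin n) F)).map σ) = σ c • (1 : Matrix (Fin n) (Fin n) F) by
        ext i j; by_cases hij : i = j <;> simp [hij]] at h2
      have h3 := congrArg (fun X => (g : Matrix (Fin n) (Fin n) F) * X) h2
      simpa [Units.val_mul, ← mul_assoc] using h3
    · rintro ⟨c, hc⟩
      refine ⟨σ.symm c, ?_⟩
      rw [coe_glMap, Units.val_mul, hc, mul_smul_comm, Units.inv_mul]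
      ext i j
      by_cases hij : i = j <;> simp [hij]
  cases e <;> cases d
  · simp [mkAut_false, key]
  · have h3 : 3 ≤ n := Nat.lt_of_le_of_ne hn fun h => by simpa using (he h.symm).2
    simp only [Bool.false_eq_true, false_and, and_false, iff_false, mkAut_false, mkAut_true]
    intro hh
    refine semilin_ne_iota h3 (glMap τ.symm h⁻¹ * glMap τ.symm g) (σ.trans τ.symm) ?_
    rw [← semilin_mul, ← semilin_inv, hh, inv_mul_cancel_left]
  · have h3 : 3 ≤ n := Nat.lt_of_le_of_ne hn fun h => by simpa using (he h.symm).1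
    simp only [Bool.true_eq_false, false_and, and_false, iff_false, mkAut_false, mkAut_true]
    intro hh
    refine semilin_ne_iota h3 (glMap σ.symm g⁻¹ * glMap σ.symm h) (τ.trans σ.symm) ?_
    rw [← semilin_mul, ← semilin_inv, ← hh, inv_mul_cancel_left]
  · simp [mkAut_true, key]

theorem exists_mkAut [Fintype F] (hn : 2 ≤ n) (β : MulAut (PSL n F)) :
    ∃ (g : GL (Fin n) F) (σ : F ≃+* F) (e : Bool), β = mkAut g σ e ∧ (n = 2 → e = false) := by
  obtain ⟨g, σ, h | ⟨h3, h⟩⟩ := exists_eq_semilin hn β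
  · exact ⟨g, σ, false, by rw [mkAut_false, h], fun _ => rfl⟩
  · exact ⟨g, σ, true, by rw [mkAut_true, h], fun h' => by omega⟩

/-- The inner-diagonal automorphisms as a homomorphism on `GL n F`. -/
def innDiag (n : ℕ) (F : Type*) [Field F] : GL (Fin n) F →* MulAut (PSL n F) where
  toFun g := semilin g (RingEquiv.refl F)
  map_one' := semilin_one
  map_mul' g h := by
    rw [semilin_mul]
    congr 1

theorem innDiag_apply (g : GL (Fin n) F) : innDiag n F g = semilin g (RingEquiv.refl F) := rfl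

theorem inndiagPSL_eq : Cfsg.inndiagPSL n F = (innDiag n F).range := by
  refine le_antisymm ((Subgroup.closure_le _).2 fun β hβ => ?_) ?_
  · obtain ⟨g, hg⟩ := (isInnerDiagonalAutPSL_iff β).1 hβ
    exact ⟨g, hg.symm⟩
  · rintro _ ⟨g, rfl⟩
    exact Subgroup.subset_closure ((isInnerDiagonalAutPSL_iff _).2 ⟨g, rfl⟩)

theorem mem_inn_iff (hn : 2 ≤ n) (g : GL (Fin n) F) (σ : F ≃+* F) (e : Bool) (he : n = 2 → e = false) :
    mkAut g σ e ∈ Cfsg.Inn (PSL n F) ↔
      σ = RingEquiv.refl F ∧ e = false ∧ ∃ c : Fˣ, GeneralLinearGroup.det g = c ^ n := by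
  constructor
  · rintro ⟨x, hx⟩
    obtain ⟨s, rfl⟩ := proj_surjective x
    rw [conj_eq_semilin, ← mkAut_false, mkAut_eq_iff hn (fun h => ⟨rfl, he h⟩)] at hx
    obtain ⟨hσ, he', c, hc⟩ := hx
    have hc0 : c ≠ 0 := by
      rintro rfl
      rw [zero_smul] at hc
      haveI : Nonempty (Fin n) := ⟨⟨0, by omega⟩⟩
      exact g.ne_zero hc
    refine ⟨hσ.symm, he'.symm, Units.mk0 c hc0, Units.ext ?_⟩
    rw [Units.val_pow_eq_pow_val, GeneralLinearGroup.val_det_apply, hc, Matrix.det_smul,
      Fintype.card_fin, Units.val_mk0]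
    simp
  · rintro ⟨rfl, rfl, c, hc⟩
    have hd : ((c⁻¹ : Fˣ) : F) ^ n * (g : Matrix (Fin n) (Fin n) F).det = 1 := by
      rw [← GeneralLinearGroup.val_det_apply, hc, ← Units.val_pow_eq_pow_val, ← Units.val_mul,
        ← mul_pow, inv_mul_cancel, one_pow, Units.val_one]
    let s : SL n F := ⟨((c⁻¹ : Fˣ) : F) • (g : Matrix (Fin n) (Fin n) F), by
      rw [Matrix.det_smul, Fintype.card_fin, hd]⟩
    refine ⟨proj n F s, ?_⟩
    rw [conj_eq_semilin, ← mkAut_false, mkAut_eq_iff hn (fun _ => ⟨rfl, rfl⟩)]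
    refine ⟨rfl, rfl, (c : F), ?_⟩
    show (g : Matrix (Fin n) (Fin n) F) =
      (c : F) • (((c⁻¹ : Fˣ) : F) • (g : Matrix (Fin n) (Fin n) F))
    rw [smul_smul, Units.mul_inv, one_smul]

/-- A diagonal matrix of given determinant. -/
theorem exists_diag_det (hn : 1 ≤ n) :
    ∃ δ : Fˣ →* GL (Fin n) F, ∀ u, GeneralLinearGroup.det (δ u) = u := by
  classical
  let i0 : Fin n := ⟨0, hn⟩
  let m : Fˣ →* Matrix (Fin n) (Fin n) F :=
    { toFun := fun u => Matrix.diagonal fun i => if i = i0 then (u : F) else 1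
      map_one' := by simp
      map_mul' := fun u v => by
        rw [diagonal_mul_diagonal]
        congr 1
        funext i
        split_ifs <;> simp }
  refine ⟨m.toHomUnits, fun u => Units.ext ?_⟩
  rw [GeneralLinearGroup.val_det_apply]
  show (Matrix.diagonal fun i => if i = i0 then (u : F) else 1).det = _
  rw [det_diagonal, Finset.prod_ite_eq' Finset.univ i0 (fun _ => (u : F))]
  simp

theorem index_powMonoidHom_range [Fintype F] (k : ℕ) :
    (powMonoidHom k : Fˣ →* Fˣ).range.index = Nat.gcd k (Fintype.card F - 1) := by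
  classical
  rw [Subgroup.index_range, IsCyclic.card_powMonoidHom_ker, CfsgLib.Classical.card_units_field,
    Nat.gcd_comm]

/-- The diagonal part of `Out (PSL n F)`. -/
theorem out_diag [Fintype F] (hn : 2 ≤ n) :
    ∃ D : Subgroup (Cfsg.Out (PSL n F)), IsCyclic D ∧
      Nat.card D = Nat.gcd n (Fintype.card F - 1) ∧
      ∀ (g : GL (Fin n) F) (σ : F ≃+* F) (e : Bool), (n = 2 → e = false) →
        ((QuotientGroup.mk (mkAut g σ e) : Cfsg.Out (PSL n F)) ∈ D ↔
          σ = RingEquiv.refl F ∧ e = false) := by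
  obtain ⟨δ, hδ⟩ := exists_diag_det (n := n) (F := F) (by omega)
  set ψ : Fˣ →* Cfsg.Out (PSL n F) :=
    ((QuotientGroup.mk' (Cfsg.Inn (PSL n F))).comp (innDiag n F)).comp δ with hψ
  have hker : ψ.ker = (powMonoidHom n : Fˣ →* Fˣ).range := by
    ext u
    rw [MonoidHom.mem_ker, MonoidHom.mem_range]
    show (QuotientGroup.mk (semilin (δ u) (RingEquiv.refl F)) : Cfsg.Out (PSL n F)) = 1 ↔ _
    rw [QuotientGroup.eq_one_iff, ← mkAut_false, mem_inn_iff hn _ _ _ (fun _ => rfl), hδ]
    simp [eq_comm]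
  refine ⟨ψ.range, isCyclic_of_surjective ψ.rangeRestrict ψ.rangeRestrict_surjective, ?_, ?_⟩
  · rw [← index_powMonoidHom_range, ← hker, Subgroup.index_ker]
  · intro g σ e he
    constructor
    · rintro ⟨u, hu⟩
      have hu' : (QuotientGroup.mk (semilin (δ u) (RingEquiv.refl F)) : Cfsg.Out (PSL n F)) =
          QuotientGroup.mk (mkAut g σ e) := hu
      rw [QuotientGroup.eq, semilin_inv, ← mkAut_false, mkAut_mul, Bool.false_xor,
        mem_inn_iff hn _ _ _ he] at hu'
      refine ⟨?_, hu'.2.1⟩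
      exact RingEquiv.ext fun x => by simpa using RingEquiv.congr_fun hu'.1 x
    · rintro ⟨rfl, rfl⟩
      refine ⟨GeneralLinearGroup.det g, ?_⟩
      show (QuotientGroup.mk (semilin (δ _) (RingEquiv.refl F)) : Cfsg.Out (PSL n F)) = _
      rw [QuotientGroup.eq, semilin_inv, ← mkAut_false, mkAut_mul, Bool.false_xor,
        mem_inn_iff hn _ _ _ (fun _ => rfl)]
      refine ⟨RingEquiv.ext fun x => rfl, rfl, 1, ?_⟩
      have : glMap (RingEquiv.refl F) = MonoidHom.id (GL (Fin n) F) :=
        MonoidHom.ext fun x => Units.ext (by ext i j; simp)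
      simp [this, hδ]

end CfsgLib.Known.AutPSL

namespace CfsgLib.Known.AutPSL

variable {n : ℕ} {F : Type*} [Field F] [Fintype F]

/-- The field and graph part of an automorphism. -/
theorem exists_fieldGraph_hom (hn : 2 ≤ n) :
    ∃ θ : MulAut (PSL n F) →* (F ≃+* F) × Multiplicative (ZMod 2),
      ∀ (g : GL (Fin n) F) (σ : F ≃+* F) (e : Bool), (n = 2 → e = false) →
        θ (mkAut g σ e) = (σ, Multiplicative.ofAdd (if e then 1 else 0)) := by
  classical
  choose g σ e h he using fun β : MulAut (PSL n F) => exists_mkAut hn β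
  have key : ∀ β g' σ' e', (n = 2 → e' = false) → β = mkAut g' σ' e' → σ β = σ' ∧ e β = e' := by
    intro β g' σ' e' he' hβ
    obtain ⟨h1, h2, -⟩ := (mkAut_eq_iff hn fun hn2 => ⟨he β hn2, he' hn2⟩).1 ((h β).symm.trans hβ)
    exact ⟨h1, h2⟩
  refine ⟨MonoidHom.mk' (fun β => (σ β, Multiplicative.ofAdd (if e β then (1 : ZMod 2) else 0))) ?_, ?_⟩
  · intro a b
    have hab : a * b = mkAut (g a * glMap (σ a) (if e a then glIota (g b) else g b))
        ((σ b).trans (σ a)) (xor (e a) (e b)) := by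
      rw [← mkAut_mul, ← h a, ← h b]
    obtain ⟨h1, h2⟩ := key (a * b) _ _ _ (fun hn2 => by rw [he a hn2, he b hn2]; rfl) hab
    refine Prod.ext h1 (Multiplicative.toAdd.injective ?_)
    simp only [h2, Prod.snd_mul, toAdd_ofAdd, toAdd_mul]
    cases e a <;> cases e b <;> decide
  · intro g' σ' e' he'
    obtain ⟨h1, h2⟩ := key _ g' σ' e' he' rfl
    simp [h1, h2]

/-- The outer automorphism group maps onto field times graph automorphisms with cyclic diagonal kernel. -/
theorem exists_out_hom (hn : 2 ≤ n) {p f : ℕ} [Fact p.Prime] (hF : Fintype.card F = p ^ f) (hf : 1 ≤ f) :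
    ∃ φ : Cfsg.Out (PSL n F) →* Multiplicative (ZMod f) × Multiplicative (ZMod 2),
      (∀ a : Multiplicative (ZMod f), ∀ b : Multiplicative (ZMod 2), (n = 2 → b = 1) →
        (a, b) ∈ φ.range) ∧
      (n = 2 → ∀ x, (φ x).2 = 1) ∧
      IsCyclic φ.ker ∧ Nat.card φ.ker = Nat.gcd n (p ^ f - 1) := by
  obtain ⟨θ, hθ⟩ := exists_fieldGraph_hom (F := F) hn
  obtain ⟨hcard, hcyc⟩ := card_ringAut (F := F) hF hf
  haveI := hcyc
  let ε : (F ≃+* F) ≃* Multiplicative (ZMod f) := (hcard ▸ zmodCyclicMulEquiv hcyc).symm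
  let θ' := ((ε : (F ≃+* F) →* Multiplicative (ZMod f)).prodMap (MonoidHom.id (Multiplicative (ZMod 2)))).comp θ
  have hθ' : ∀ (g : GL (Fin n) F) (σ : F ≃+* F) (e : Bool), (n = 2 → e = false) →
      θ' (mkAut g σ e) = (ε σ, Multiplicative.ofAdd (if e then (1 : ZMod 2) else 0)) := fun g σ e he => by
    show ((ε : (F ≃+* F) →* Multiplicative (ZMod f)).prodMap
      (MonoidHom.id (Multiplicative (ZMod 2)))) (θ (mkAut g σ e)) = _
    rw [hθ g σ e he]
    rfl
  have hinn : Cfsg.Inn (PSL n F) ≤ θ'.ker := by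
    intro β hβ
    obtain ⟨g, σ, e, rfl, he⟩ := exists_mkAut hn β
    obtain ⟨rfl, rfl, -⟩ := (mem_inn_iff hn g σ e he).1 hβ
    rw [MonoidHom.mem_ker, hθ' g _ _ he]
    exact Prod.ext (map_one ε) rfl
  refine ⟨QuotientGroup.lift _ θ' hinn, ?_, ?_, ?_⟩
  · intro a b hb
    obtain ⟨σ, rfl⟩ := ε.surjective a
    obtain ⟨b, rfl⟩ := Multiplicative.ofAdd.surjective b
    refine ⟨QuotientGroup.mk (mkAut 1 σ (decide (b = 1))), ?_⟩
    have he : n = 2 → decide (b = 1) = false := fun h2 => by
      have : b = 0 := Multiplicative.ofAdd.injective (hb h2)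
      subst this
      rfl
    refine (hθ' 1 σ _ he).trans (Prod.ext rfl ?_)
    show Multiplicative.ofAdd (if decide (b = 1) = true then (1 : ZMod 2) else 0) = Multiplicative.ofAdd b
    clear hb he
    revert b
    decide
  · intro h2 x
    induction x using QuotientGroup.induction_on with
    | H β =>
      obtain ⟨g, σ, e, rfl, he⟩ := exists_mkAut hn β
      rw [QuotientGroup.lift_mk, hθ' g σ e he, he h2]
      rfl
  · obtain ⟨D, hD1, hD2, hD3⟩ := out_diag (F := F) hn
    have hker : (QuotientGroup.lift (Cfsg.Inn (PSL n F)) θ' hinn).ker = D := by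
      ext x
      induction x using QuotientGroup.induction_on with
      | H β =>
        obtain ⟨g, σ, e, rfl, he⟩ := exists_mkAut hn β
        rw [hD3 g σ e he, MonoidHom.mem_ker, QuotientGroup.lift_mk, hθ' g σ e he, Prod.ext_iff]
        simp only [Prod.fst_one, Prod.snd_one, EmbeddingLike.map_eq_one_iff]
        refine and_congr Iff.rfl ?_
        cases e <;> simp
    rw [hker, ← hF]
    exact ⟨hD1, hD2⟩

end CfsgLib.Known.AutPSL
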