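import Cfsg.Agent.Lib.Known.AutPSL.GraphForm
import Cfsg.Agent.Lib.Classical.Quad.SemisimpleCentralizer
import Cfsg.Agent.Lib.Known.CharTwoForms

/-!
# Classification of invertible symmetric and skew matrices up to similarity
-/

set_option autoImplicit false
set_option linter.unusedSectionVars false

open Matrix

namespace CfsgLib.Known.AutPSL.Graph

open LinearMap (BilinForm)
open CfsgLib.Classical

variable {n : ℕ} {F : Type*} [Field F]

/-- The form of a matrix vanishes on the diagonal. -/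
def IsAltMat {ι : Type} [Fintype ι] (A : Matrix ι ι F) : Prop := ∀ v : ι → F, v ⬝ᵥ A *ᵥ v = 0

theorem toBilin'_eq_formFun {ι : Type} [Fintype ι] [DecidableEq ι] (A : Matrix ι ι F)
    (u v : ι → F) : Matrix.toBilin' A u v = formFun A u v :=
  Matrix.toBilin'_apply' A u v

theorem formFun_transpose {ι : Type} [Fintype ι] [DecidableEq ι] (A : Matrix ι ι F)
    (u v : ι → F) : formFun Aᵀ u v = formFun A v u := by
  rw [formFun, formFun, dotProduct_mulVec, vecMul_transpose, dotProduct_comm]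

theorem nondeg_of_gl (A : GL (Fin n) F) :
    (Matrix.toBilin' (A : Matrix (Fin n) (Fin n) F)).Nondegenerate :=
  LinearMap.BilinForm.nondegenerate_toBilin'_of_det_ne_zero' _
    (GeneralLinearGroup.det A).ne_zero

theorem congr_of_isometry (A B : Matrix (Fin n) (Fin n) F)
    (e : (Fin n → F) ≃ₗ[F] (Fin n → F))
    (h : ∀ u v, Matrix.toBilin' B (e u) (e v) = Matrix.toBilin' A u v) :
    ∃ g : GL (Fin n) F,
      A = (g : Matrix (Fin n) (Fin n) F) * B * (g : Matrix (Fin n) (Fin n) F)ᵀ := by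
  set M := LinearMap.toMatrix' (e : (Fin n → F) →ₗ[F] (Fin n → F)) with hM
  set N := LinearMap.toMatrix' (e.symm : (Fin n → F) →ₗ[F] (Fin n → F))
  have hMN : M * N = 1 := by
    rw [hM, ← LinearMap.toMatrix'_comp, LinearEquiv.comp_coe, LinearEquiv.symm_trans_self]
    exact LinearMap.toMatrix'_id
  have hMv : ∀ v, M *ᵥ v = e v := fun v => LinearMap.toMatrix'_mulVec _ v
  refine ⟨⟨Mᵀ, Nᵀ, ?_, ?_⟩, ?_⟩
  · rw [← transpose_mul, mul_eq_one_comm.1 hMN, transpose_one]
  · rw [← transpose_mul, hMN, transpose_one]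
  · show A = Mᵀ * B * (Mᵀ)ᵀ
    rw [transpose_transpose, ← formFun_ext]
    intro u v
    rw [← formFun_mulVec, hMv, hMv, ← toBilin'_eq_formFun, ← toBilin'_eq_formFun, h]

theorem SimForm.of_congr {A B : Matrix (Fin n) (Fin n) F} (g : GL (Fin n) F)
    (h : A = (g : Matrix (Fin n) (Fin n) F) * B * (g : Matrix (Fin n) (Fin n) F)ᵀ) :
    SimForm B A :=
  ⟨g, 1, by rw [Units.val_one, one_smul, h]⟩

theorem SimForm.isAlt {A B : Matrix (Fin n) (Fin n) F} (h : SimForm A B) (hA : IsAltMat A) :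
    IsAltMat B := by
  obtain ⟨g, c, rfl⟩ := h
  intro v
  show formFun _ v v = 0
  rw [formFun_smul]
  refine mul_eq_zero_of_right _ ?_
  have := formFun_mulVec A (g : Matrix (Fin n) (Fin n) F)ᵀ v v
  rw [transpose_transpose] at this
  rw [← this]
  exact hA _

theorem SimForm.isSquare_det {A B : Matrix (Fin n) (Fin n) F} (h : SimForm A B) (hn : Even n) :
    IsSquare (B.det * A.det) := by
  obtain ⟨g, c, rfl⟩ := h
  obtain ⟨k, rfl⟩ := hn
  refine ⟨(c : F) ^ k * (g : Matrix (Fin (k + k)) (Fin (k + k)) F).det * A.det, ?_⟩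
  rw [det_smul, det_mul, det_mul, det_transpose, Fintype.card_fin]
  ring

theorem isAlt_of_skew (h2 : (2 : F) ≠ 0) {A : Matrix (Fin n) (Fin n) F} (h : Aᵀ = -A) :
    IsAltMat A := by
  intro v
  have h1 := formFun_transpose A v v
  rw [h, formFun, neg_mulVec, dotProduct_neg] at h1
  exact (mul_eq_zero.1 (show (2 : F) * (v ⬝ᵥ A *ᵥ v) = 0 by
    simp only [formFun] at h1; linear_combination -h1)).resolve_left h2

theorem not_isAlt_of_symm (h2 : (2 : F) ≠ 0) (hn : 1 ≤ n) (A : GL (Fin n) F)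
    (h : (A : Matrix (Fin n) (Fin n) F)ᵀ = (A : Matrix (Fin n) (Fin n) F)) :
    ¬ IsAltMat (A : Matrix (Fin n) (Fin n) F) := by
  intro ha
  haveI : Nonempty (Fin n) := ⟨⟨0, hn⟩⟩
  refine A.ne_zero (formFun_ext.1 fun u v => ?_)
  have h1 : formFun (A : Matrix (Fin n) (Fin n) F) (u + v) (u + v) = 0 := ha _
  have hu : formFun (A : Matrix (Fin n) (Fin n) F) u u = 0 := ha _
  have hv : formFun (A : Matrix (Fin n) (Fin n) F) v v = 0 := ha _
  have hs := formFun_transpose (A : Matrix (Fin n) (Fin n) F) u v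
  rw [h] at hs
  simp only [formFun, mulVec_add, add_dotProduct, dotProduct_add, zero_mulVec, dotProduct_zero]
    at h1 hu hv hs ⊢
  exact (mul_eq_zero.1 (show (2 : F) * (u ⬝ᵥ (A : Matrix (Fin n) (Fin n) F) *ᵥ v) = 0 by
    linear_combination h1 - hu - hv + hs)).resolve_left h2

theorem skew_eq_self_charTwo [CharP F 2] {ι : Type} {A : Matrix ι ι F} (h : Aᵀ = -A) : Aᵀ = A := by
  rw [h]
  ext i j
  exact CharTwo.neg_eq _

theorem even_of_isAlt (A : GL (Fin n) F) (h : IsAltMat (A : Matrix (Fin n) (Fin n) F)) :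
    Even n := by
  have hA : (Matrix.toBilin' (A : Matrix (Fin n) (Fin n) F)).IsAlt := fun v =>
    (toBilin'_eq_formFun _ v v).trans (h v)
  obtain ⟨m, -, -, hm⟩ := Symp.exists_sympSys hA (nondeg_of_gl A)
  rw [Module.finrank_fin_fun] at hm
  exact ⟨m, by omega⟩

theorem congr_alt (A B : GL (Fin n) F) (hA : IsAltMat (A : Matrix (Fin n) (Fin n) F))
    (hB : IsAltMat (B : Matrix (Fin n) (Fin n) F)) :
    ∃ g : GL (Fin n) F, (A : Matrix (Fin n) (Fin n) F) =
      (g : Matrix (Fin n) (Fin n) F) * (B : Matrix (Fin n) (Fin n) F) *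
        (g : Matrix (Fin n) (Fin n) F)ᵀ := by
  obtain ⟨e, he⟩ := Symp.exists_isometry (B := Matrix.toBilin' (A : Matrix (Fin n) (Fin n) F))
    (B' := Matrix.toBilin' (B : Matrix (Fin n) (Fin n) F))
    (fun v => (toBilin'_eq_formFun _ v v).trans (hA v)) (nondeg_of_gl A)
    (fun v => (toBilin'_eq_formFun _ v v).trans (hB v)) (nondeg_of_gl B) rfl
  exact congr_of_isometry _ _ e he

theorem simForm_alt (A B : GL (Fin n) F) (hA : IsAltMat (A : Matrix (Fin n) (Fin n) F))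
    (hB : IsAltMat (B : Matrix (Fin n) (Fin n) F)) :
    SimForm (B : Matrix (Fin n) (Fin n) F) (A : Matrix (Fin n) (Fin n) F) :=
  let ⟨g, hg⟩ := congr_alt A B hA hB
  .of_congr g hg

theorem isSymm_toBilin' {ι : Type} [Fintype ι] [DecidableEq ι] {A : Matrix ι ι F} (h : Aᵀ = A) :
    (Matrix.toBilin' A).IsSymm :=
  ⟨fun u v => by rw [toBilin'_eq_formFun, toBilin'_eq_formFun, ← formFun_transpose, h]⟩

theorem congr_symm_of_det [Finite F] (h2 : (2 : F) ≠ 0) (hn : 1 ≤ n) (A B : GL (Fin n) F)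
    (hA : (A : Matrix (Fin n) (Fin n) F)ᵀ = (A : Matrix (Fin n) (Fin n) F))
    (hB : (B : Matrix (Fin n) (Fin n) F)ᵀ = (B : Matrix (Fin n) (Fin n) F))
    (hd : IsSquare ((A : Matrix (Fin n) (Fin n) F).det * (B : Matrix (Fin n) (Fin n) F).det)) :
    ∃ g : GL (Fin n) F, (A : Matrix (Fin n) (Fin n) F) =
      (g : Matrix (Fin n) (Fin n) F) * (B : Matrix (Fin n) (Fin n) F) *
        (g : Matrix (Fin n) (Fin n) F)ᵀ := by
  obtain ⟨k, rfl⟩ : ∃ k, n = k + 1 := ⟨n - 1, by omega⟩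
  obtain ⟨e, he⟩ := Quad.exists_isometry_of_det h2 (isSymm_toBilin' hA) (nondeg_of_gl A)
    (isSymm_toBilin' hB) (nondeg_of_gl B) (Pi.basisFun F _) (Pi.basisFun F _) (n := k)
    (by simp) (by simp) (by simpa [LinearMap.BilinForm.toMatrix_basisFun] using hd)
  exact congr_of_isometry _ _ e he

theorem simForm_symm_of_det [Finite F] (h2 : (2 : F) ≠ 0) (hn : 1 ≤ n) (A B : GL (Fin n) F)
    (hA : (A : Matrix (Fin n) (Fin n) F)ᵀ = (A : Matrix (Fin n) (Fin n) F))
    (hB : (B : Matrix (Fin n) (Fin n) F)ᵀ = (B : Matrix (Fin n) (Fin n) F))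
    (hd : IsSquare ((A : Matrix (Fin n) (Fin n) F).det * (B : Matrix (Fin n) (Fin n) F).det)) :
    SimForm (B : Matrix (Fin n) (Fin n) F) (A : Matrix (Fin n) (Fin n) F) :=
  let ⟨g, hg⟩ := congr_symm_of_det h2 hn A B hA hB hd
  .of_congr g hg

/-- A multiple of an invertible matrix. -/
noncomputable def glSmul (c : Fˣ) (A : GL (Fin n) F) : GL (Fin n) F :=
  GeneralLinearGroup.scalar (Fin n) c * A

@[simp] theorem coe_glSmul (c : Fˣ) (A : GL (Fin n) F) :
    (glSmul c A : Matrix (Fin n) (Fin n) F) = (c : F) • (A : Matrix (Fin n) (Fin n) F) := by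
  ext i j
  simp [glSmul]

theorem SimForm.of_smul {A B : Matrix (Fin n) (Fin n) F} (c : Fˣ)
    (h : SimForm ((c : F) • B) A) : SimForm B A := by
  obtain ⟨g, d, hd⟩ := h
  refine ⟨g, d * c, ?_⟩
  rw [hd, Matrix.mul_smul, Matrix.smul_mul, smul_smul, Units.val_mul]

theorem simForm_symm_odd [Finite F] (h2 : (2 : F) ≠ 0) (hn : Odd n) (A B : GL (Fin n) F)
    (hA : (A : Matrix (Fin n) (Fin n) F)ᵀ = (A : Matrix (Fin n) (Fin n) F))
    (hB : (B : Matrix (Fin n) (Fin n) F)ᵀ = (B : Matrix (Fin n) (Fin n) F)) :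
    SimForm (B : Matrix (Fin n) (Fin n) F) (A : Matrix (Fin n) (Fin n) F) := by
  obtain ⟨k, rfl⟩ := hn
  set c : Fˣ := GeneralLinearGroup.det A * GeneralLinearGroup.det B
  refine SimForm.of_smul c ?_
  rw [← coe_glSmul]
  refine simForm_symm_of_det h2 (by omega) A (glSmul c B) hA
    (by rw [coe_glSmul, transpose_smul, hB]) ?_
  refine ⟨(c : F) ^ k * c, ?_⟩
  rw [coe_glSmul, det_smul, Fintype.card_fin]
  have hc : (c : F) = (A : Matrix (Fin (2 * k + 1)) (Fin (2 * k + 1)) F).det *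
      (B : Matrix (Fin (2 * k + 1)) (Fin (2 * k + 1)) F).det := rfl
  rw [mul_left_comm, ← hc]
  ring

theorem simForm_one_charTwo [Finite F] [CharP F 2] (A : GL (Fin n) F)
    (hA : (A : Matrix (Fin n) (Fin n) F)ᵀ = (A : Matrix (Fin n) (Fin n) F))
    (hna : ¬ IsAltMat (A : Matrix (Fin n) (Fin n) F)) :
    SimForm (A : Matrix (Fin n) (Fin n) F) (1 : Matrix (Fin n) (Fin n) F) := by
  simp only [IsAltMat, not_forall] at hna
  obtain ⟨v, hv⟩ := hna
  obtain ⟨b, hb⟩ := CharTwoForms.exists_orthonormal (Module.finrank_fin_fun F)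
    (Matrix.toBilin' (A : Matrix (Fin n) (Fin n) F)) (isSymm_toBilin' hA) (nondeg_of_gl A)
    ⟨v, by rwa [toBilin'_eq_formFun]⟩
  obtain ⟨g, hg⟩ := congr_of_isometry (1 : Matrix (Fin n) (Fin n) F)
    (A : Matrix (Fin n) (Fin n) F) ((Pi.basisFun F (Fin n)).equiv b (Equiv.refl _))
    (Quad.equiv_of_gram (Pi.basisFun F (Fin n)) b (Matrix.toBilin' 1) _ fun i j => by
      rw [hb, toBilin'_eq_formFun]
      simp [formFun, Pi.single_apply, Matrix.one_apply, eq_comm])
  exact .of_congr g hg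

variable [Fintype F]

theorem isConjUnder_of_simForm (hn : 3 ≤ n) {S S' : GL (Fin n) F}
    (h : SimForm (S : Matrix (Fin n) (Fin n) F) (S' : Matrix (Fin n) (Fin n) F)) :
    Cfsg.IsConjUnder (Cfsg.inndiagPSL n F) (graphAut S) (graphAut S') :=
  (isConjUnder_graphAut_iff hn S S').2 h

theorem cent_equiv_of_isConjUnder (hn : 2 ≤ n) {x y : MulAut (PSL n F)}
    (h : Cfsg.IsConjUnder (Cfsg.inndiagPSL n F) x y) :
    Nonempty (↥(Cfsg.inndiagPSL n F ⊓ Subgroup.centralizer {x}) ≃*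
      ↥(Cfsg.inndiagPSL n F ⊓ Subgroup.centralizer {y})) := by
  obtain ⟨a, -, rfl⟩ := h
  haveI : (Cfsg.inndiagPSL n F).Normal := by rw [inndiagPSL_eq]; exact inndiag_normal hn
  exact ClassSplit.nonempty_centralizer_conj _ a x

end CfsgLib.Known.AutPSL.Graph
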