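import Cfsg.Agent.Lib.Known.AutPSL.FieldCent

/-!
# Involutory graph-field automorphisms of `PSL n F`
-/

set_option autoImplicit false

open Matrix

namespace CfsgLib.Known.AutPSL

variable {n : ℕ} {F : Type*} [Field F] [Fintype F]

/-- The involutory automorphism of a finite field is a power map. -/
theorem involution_eq_pow {p f : ℕ} [Fact p.Prime] (hF : Fintype.card F = p ^ f) (hf : 1 ≤ f)
    (σ : F ≃+* F) (hσ : orderOf σ = 2) : Even f ∧ ∀ a : F, σ a = a ^ p ^ (f / 2) := by
  classical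
  obtain ⟨hdvd, -⟩ := exists_fixed_field hF hf σ hσ
  refine ⟨even_iff_two_dvd.2 hdvd, ?_⟩
  haveI := charP_of_card hF hf
  haveI : ExpChar F p := ExpChar.prime Fact.out
  haveI : Finite (F ≃+* F) := Finite.of_injective (fun τ => (τ : F → F)) DFunLike.coe_injective
  haveI := (card_ringAut hF hf).2
  haveI := Fintype.ofFinite (F ≃+* F)
  let τ : F ≃+* F := iterateFrobeniusEquiv F p (f / 2)
  have hτ : ∀ a : F, τ a = a ^ p ^ (f / 2) := fun a => iterateFrobeniusEquiv_def F p (f / 2) a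
  suffices h : σ = τ from fun a => h ▸ hτ a
  have hp1 : 1 < p := (Fact.out : p.Prime).one_lt
  have hmul : f / 2 + f / 2 = f := by omega
  have hτ2 : τ ^ 2 = 1 := RingEquiv.ext fun a => by
    show τ (τ a) = a
    rw [hτ, hτ, ← pow_mul, ← pow_add, hmul, ← hF, FiniteField.pow_card]
  have hτ1 : τ ≠ 1 := by
    intro h
    obtain ⟨u, hu⟩ := IsCyclic.exists_ofOrder_eq_natCard (α := Fˣ)
    have hu1 : u ^ (p ^ (f / 2) - 1) = 1 := by
      have h2 : (u : F) ^ p ^ (f / 2) = u := (hτ u).symm.trans (RingEquiv.congr_fun h (u : F))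
      have h3 : u ^ p ^ (f / 2) = u := Units.ext (by simpa using h2)
      have hpos : 1 ≤ p ^ (f / 2) := Nat.one_le_pow _ _ (by omega)
      rwa [← Nat.sub_add_cancel hpos, pow_succ, mul_eq_right] at h3
    have hd := orderOf_dvd_of_pow_eq_one hu1
    rw [hu, CfsgLib.Classical.card_units_field, hF] at hd
    have hlt : p ^ (f / 2) < p ^ f := Nat.pow_lt_pow_right hp1 (by omega)
    have h2 : 1 < p ^ (f / 2) := Nat.one_lt_pow (by omega) hp1
    exact absurd (Nat.le_of_dvd (by omega) hd) (by omega)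
  by_contra hne
  have hσ1 : σ ≠ 1 := fun h => by rw [h, orderOf_one] at hσ; omega
  have h2 : σ ^ 2 = 1 := by rw [← hσ, pow_orderOf_eq_one]
  have hle := IsCyclic.card_pow_eq_one_le (α := F ≃+* F) two_pos
  have hsub : ({1, σ, τ} : Finset (F ≃+* F)) ⊆ Finset.univ.filter fun a => a ^ 2 = 1 := by
    intro a ha
    simp only [Finset.mem_insert, Finset.mem_singleton] at ha
    simp only [Finset.mem_filter, Finset.mem_univ, true_and]
    rcases ha with rfl | rfl | rfl
    · exact one_pow 2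
    · exact h2
    · exact hτ2
  have hc : ({1, σ, τ} : Finset (F ≃+* F)).card = 3 :=
    Finset.card_eq_three.2 ⟨1, σ, τ, hσ1.symm, hτ1.symm, hne, rfl⟩
  have := Finset.card_le_card hsub
  omega

theorem mem_GU_iff' {q : ℕ} (σ : F ≃+* F) (hσq : ∀ a, σ a = a ^ q) (g : GL (Fin n) F) :
    g ∈ Cfsg.GU n F q ↔
      (g : Matrix (Fin n) (Fin n) F) * ((g : Matrix (Fin n) (Fin n) F).map σ)ᵀ = 1 := by
  classical
  set G := (g : Matrix (Fin n) (Fin n) F) with hG
  have hinv : G * (G.map σ)ᵀ = 1 → (G.map σ)ᵀ * G = 1 := fun h => mul_eq_one_comm.1 h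
  have key : ∀ u v, Cfsg.hermForm n F q (G *ᵥ u) (G *ᵥ v) =
      u ⬝ᵥ ((Gᵀ * G.map σ) *ᵥ (σ ∘ v)) := by
    intro u v
    have e : Cfsg.hermForm n F q (G *ᵥ u) (G *ᵥ v) = (G *ᵥ u) ⬝ᵥ (σ ∘ (G *ᵥ v)) :=
      Finset.sum_congr rfl fun i _ => by rw [Function.comp_apply, hσq]
    have e2 : σ ∘ (G *ᵥ v) = G.map σ *ᵥ (σ ∘ v) := funext fun i => RingHom.map_mulVec σ.toRingHom G v i
    rw [e, e2, Matrix.dotProduct_mulVec, Matrix.dotProduct_mulVec, ← Matrix.vecMul_vecMul,
      Matrix.vecMul_transpose]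
  have key1 : ∀ u v, Cfsg.hermForm n F q u v = u ⬝ᵥ (σ ∘ v) := fun u v =>
    Finset.sum_congr rfl fun i _ => by rw [Function.comp_apply, hσq]
  have step : g ∈ Cfsg.GU n F q ↔ Gᵀ * G.map σ = 1 := by
    constructor
    · intro h
      ext i k
      have h1 := h (Pi.single i 1) (Pi.single k 1)
      rw [show (Units.coeHom (Matrix (Fin n) (Fin n) F)) g = G from rfl, key, key1] at h1
      have hs : σ ∘ (Pi.single k (1 : F) : Fin n → F) = Pi.single k 1 := by
        funext l
        by_cases hl : l = k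
        · subst hl; simp
        · simp [hl]
      rw [hs, single_dotProduct, one_mul, single_dotProduct, one_mul, Matrix.mulVec_single_one] at h1
      simpa [Matrix.one_apply, Pi.single_apply] using h1
    · intro h u v
      show Cfsg.hermForm n F q (G *ᵥ u) (G *ᵥ v) = Cfsg.hermForm n F q u v
      rw [key, key1, h, Matrix.one_mulVec]
  rw [step]
  constructor
  · intro h
    have := congrArg Matrix.transpose h
    rw [Matrix.transpose_mul, Matrix.transpose_transpose, Matrix.transpose_one] at this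
    exact mul_eq_one_comm.1 this
  · intro h
    have := congrArg Matrix.transpose (hinv h)
    rwa [Matrix.transpose_mul, Matrix.transpose_transpose, Matrix.transpose_one] at this

theorem graphField_centralizer (hn : 3 ≤ n) {p f : ℕ} [Fact p.Prime] (hF : Fintype.card F = p ^ f)
    (hf : 1 ≤ f) (σ : F ≃+* F) (hσ : orderOf σ = 2) :
    Nonempty (↥(Cfsg.inndiagPSL n F ⊓ Subgroup.centralizer {fieldHom n F σ * iota}) ≃*
      Cfsg.PGU n F (p ^ (f / 2))) ∧
    Cfsg.splitClassCount (Cfsg.inndiagPSL n F) (Cfsg.Inn (PSL n F)) (fieldHom n F σ * iota) =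
      Nat.gcd n (p ^ (f / 2) - 1) := by
  classical
  haveI : Nonempty (Fin n) := ⟨⟨0, by omega⟩⟩
  obtain ⟨heven, hpow⟩ := involution_eq_pow hF hf σ hσ
  set q := p ^ (f / 2) with hq
  have hσσ : σ * σ = 1 := by rw [← sq, ← hσ, pow_orderOf_eq_one]
  have hinv : ∀ a, σ (σ a) = a := fun a => RingEquiv.congr_fun hσσ a
  have hmem : ∀ g : GL (Fin n) F, g ∈ Cfsg.GU n F q →
      innDiag n F g * (fieldHom n F σ * iota) = fieldHom n F σ * iota * innDiag n F g := fun g hg =>
    (innDiag_comm_graphField hn σ g).2 ⟨1, by rw [one_smul, (mem_GU_iff' σ hpow g).1 hg]⟩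
  have hnorm : ∀ c : F, c ≠ 0 → σ c = c → ∃ a : Fˣ, (a : F) * σ a = c := by
    intro c hc hfix
    obtain ⟨a, ha, hn'⟩ := Descent.exists_fieldNorm_eq σ hσ two_pos hc hfix
    refine ⟨Units.mk0 a ha, ?_⟩
    rw [← hn']
    simp [Descent.fieldNorm, Finset.prod_range_succ]
  have hdec : ∀ g : GL (Fin n) F,
      innDiag n F g * (fieldHom n F σ * iota) = fieldHom n F σ * iota * innDiag n F g →
      ∃ (h : GL (Fin n) F) (a : Fˣ), h ∈ Cfsg.GU n F q ∧ g = GeneralLinearGroup.scalar (Fin n) a * h := by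
    intro g hg
    obtain ⟨c, hc⟩ := (innDiag_comm_graphField hn σ g).1 hg
    set G := (g : Matrix (Fin n) (Fin n) F) with hG
    have i0 : Fin n := ⟨0, by omega⟩
    have hfix : σ c = c := by
      have h1 := congrArg (fun A : Matrix (Fin n) (Fin n) F => (A.map σ)ᵀ) hc
      have e2 : (G.map σ).map σ = G := Matrix.ext fun u v => hinv _
      simp only [Matrix.map_mul, Matrix.transpose_mul, ← Matrix.transpose_map,
        Matrix.transpose_transpose, e2] at h1
      rw [Matrix.transpose_map, hc] at h1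
      have h2 := congrFun₂ h1 i0 i0
      simpa using h2.symm
    have hc0 : c ≠ 0 := by
      rintro rfl
      rw [zero_smul] at hc
      have hunit : IsUnit (G * (G.map σ)ᵀ).det := by
        rw [Matrix.det_mul, Matrix.det_transpose, IsUnit.mul_iff]
        exact ⟨(GeneralLinearGroup.det g).isUnit, (GeneralLinearGroup.det (glMap σ g)).isUnit⟩
      rw [hc, Matrix.det_zero] at hunit
      exact not_isUnit_zero hunit
    obtain ⟨a, ha⟩ := hnorm c hc0 hfix
    refine ⟨GeneralLinearGroup.scalar (Fin n) (Units.mk0 (a : F)⁻¹ (inv_ne_zero a.ne_zero)) * g, a, ?_, by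
      rw [← mul_assoc, ← map_mul, show a * Units.mk0 (a : F)⁻¹ (inv_ne_zero a.ne_zero) = 1 from
        Units.ext (mul_inv_cancel₀ a.ne_zero), map_one, one_mul]⟩
    have hval : ((GeneralLinearGroup.scalar (Fin n) (Units.mk0 (a : F)⁻¹ (inv_ne_zero a.ne_zero)) * g : GL (Fin n) F) : Matrix (Fin n) (Fin n) F) =
        (a : F)⁻¹ • G := by ext u v; simp [hG]
    have hsc : ((a : F)⁻¹ • G).map σ = σ (a : F)⁻¹ • G.map σ := Matrix.ext fun u v => map_mul σ _ _
    rw [mem_GU_iff' σ hpow, hval, hsc, Matrix.transpose_smul, Matrix.smul_mul, Matrix.mul_smul, hc, smul_smul, smul_smul,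
      map_inv₀, ← ha]
    have hσa : σ (a : F) ≠ 0 := by simp
    rw [show (a : F)⁻¹ * (σ (a : F))⁻¹ * ((a : F) * σ a) = 1 by field_simp, one_smul]
  refine ⟨?_, ?_⟩
  · refine cent_equiv_of_param _ ((Cfsg.Geo.scalars (Fin n) F).subgroupOf (Cfsg.GU n F q))
      (Cfsg.GU n F q).subtype (fun h => hmem h h.2) (fun h => ?_) fun g hg => ?_
    · rw [innDiag_eq_one_iff (by omega), Subgroup.mem_subgroupOf, Cfsg.Geo.mem_scalars_iff]
      constructor
      · rintro ⟨c, hc⟩
        refine ⟨Units.mk0 c ?_, hc⟩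
        rintro rfl
        exact (h : GL (Fin n) F).ne_zero (by simpa using hc)
      · rintro ⟨c, hc⟩
        exact ⟨c, hc⟩
    · obtain ⟨h, a, hh, rfl⟩ := hdec g hg
      refine ⟨⟨h, hh⟩, ?_⟩
      rw [map_mul, (innDiag_eq_one_iff (by omega) (GeneralLinearGroup.scalar (Fin n) a)).2
        ⟨a, by ext u v; by_cases huv : u = v <;> simp [huv]⟩, one_mul]
      rfl
  · have hcard : Fintype.card F = q ^ 2 := by
      rw [hF, hq, ← pow_mul, Nat.div_mul_cancel (even_iff_two_dvd.1 heven)]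
    have hq1 : 1 < q := Nat.one_lt_pow (by obtain ⟨k, rfl⟩ := heven; omega) (Fact.out : p.Prime).one_lt
    have hprod : (q + 1) * (q - 1) = Fintype.card F - 1 := by
      rw [hcard, ← Nat.sq_sub_sq, one_pow]
    have hset : ((powMonoidHom (q + 1) : Fˣ →* Fˣ).ker) = (powMonoidHom (q - 1) : Fˣ →* Fˣ).range :=
      ClassSplit.ker_pow_eq_range_pow (CfsgLib.Classical.card_units_field (F := F) ▸ hprod)
    have hu : ∀ u : Fˣ, (u : F) * σ u = 1 ↔ u ∈ (powMonoidHom (q + 1) : Fˣ →* Fˣ).ker := fun u => by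
      rw [hpow, ← pow_succ', MonoidHom.mem_ker, powMonoidHom_apply, ← Units.val_pow_eq_pow_val,
        Units.val_eq_one]
    have hdet : ((Subgroup.centralizer {fieldHom n F σ * iota}).comap (innDiag n F)).map
        GeneralLinearGroup.det ⊔ (powMonoidHom n : Fˣ →* Fˣ).range =
        (powMonoidHom (q - 1) : Fˣ →* Fˣ).range ⊔ (powMonoidHom n : Fˣ →* Fˣ).range := by
      rw [← hset]
      apply le_antisymm
      · refine sup_le ?_ le_sup_right
        rintro _ ⟨g, hg, rfl⟩
        obtain ⟨h, a, hh, rfl⟩ := hdec g ((mem_cent_iff _ g).1 hg)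
        rw [map_mul]
        refine Subgroup.mul_mem _ (Subgroup.mem_sup_right ⟨a, Units.ext (by simp)⟩)
          (Subgroup.mem_sup_left ((hu _).1 ?_))
        have h1 := congrArg Matrix.det ((mem_GU_iff' σ hpow h).1 hh)
        rw [Matrix.det_mul, Matrix.det_transpose, Matrix.det_one] at h1
        rw [show (h : Matrix (Fin n) (Fin n) F).map σ = σ.toRingHom.mapMatrix (h : Matrix (Fin n) (Fin n) F) from rfl,
          ← RingHom.map_det] at h1
        exact h1
      · refine sup_le ?_ le_sup_right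
        intro u hu'
        have h1 := (hu u).2 hu'
        let i0 : Fin n := ⟨0, by omega⟩
        let d : Fin n → F := Function.update 1 i0 (u : F)
        have hd : IsUnit (Matrix.diagonal d).det := by
          rw [Matrix.det_diagonal, isUnit_iff_ne_zero, Finset.prod_ne_zero_iff]
          intro i _
          by_cases hi : i = i0 <;> simp [d, hi]
        refine Subgroup.mem_sup_left ⟨GeneralLinearGroup.mk'' _ hd, ?_, Units.ext ?_⟩
        · refine (mem_cent_iff _ _).2 (hmem _ ((mem_GU_iff' σ hpow _).2 ?_))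
          show Matrix.diagonal d * ((Matrix.diagonal d).map σ)ᵀ = 1
          rw [Matrix.diagonal_map (map_zero σ), Matrix.diagonal_transpose, Matrix.diagonal_mul_diagonal,
            ← Matrix.diagonal_one]
          congr 1
          funext i
          by_cases hi : i = i0 <;> simp [d, hi, h1]
        · show (Matrix.diagonal d).det = u
          rw [Matrix.det_diagonal, Finset.prod_update_of_mem (Finset.mem_univ _)]
          simp
    rw [splitClassCount_eq (by omega) _ _ hdet]
    exact index_sup_range_pow ⟨q + 1, by rw [← hprod, mul_comm]⟩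

theorem graphField_full (hn : 3 ≤ n) {p f : ℕ} [Fact p.Prime] (hF : Fintype.card F = p ^ f) (hf : 1 ≤ f)
    (x : MulAut (PSL n F)) (hx : Cfsg.IsGraphFieldAutClassPSL x) (hx2 : orderOf x = 2) :
    Even f ∧
    (∀ y : MulAut (PSL n F), Cfsg.IsGraphFieldAutClassPSL y → orderOf y = 2 →
      Cfsg.IsConjUnder (Cfsg.inndiagPSL n F) x y) ∧
    Nonempty (↥(Cfsg.inndiagPSL n F ⊓ Subgroup.centralizer {x}) ≃* Cfsg.PGU n F (p ^ (f / 2))) ∧
    Cfsg.splitClassCount (Cfsg.inndiagPSL n F) (Cfsg.Inn (PSL n F)) x = Nat.gcd n (p ^ (f / 2) - 1) := by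
  have hn' : 2 ≤ n := by omega
  have norm : ∀ y : MulAut (PSL n F), Cfsg.IsGraphFieldAutClassPSL y → orderOf y = 2 →
      ∃ (a : MulAut (PSL n F)) (σ : F ≃+* F), orderOf σ = 2 ∧ a * y * a⁻¹ = fieldHom n F σ * iota := by
    intro y hy hy2
    obtain ⟨-, a, σ, hσ, hz⟩ := (isConj_fieldGraph (hn := hn') y).2 hy
    refine ⟨a, σ, (orderOf_graphField hn hσ Nat.prime_two ?_).2, hz⟩
    rw [← hz]
    exact ((MulAut.conj a).orderOf_eq y).trans hy2
  obtain ⟨a, σ, hσ, hz⟩ := norm x hx hx2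
  obtain ⟨heven, hpow⟩ := involution_eq_pow hF hf σ hσ
  obtain ⟨⟨e⟩, hcount⟩ := graphField_centralizer hn hF hf σ hσ
  haveI : (Cfsg.inndiagPSL n F).Normal := by rw [inndiagPSL_eq]; exact inndiag_normal hn'
  refine ⟨heven, fun y hy hy2 => ?_, ?_, ?_⟩
  · obtain ⟨b, τ, hτ, hzy⟩ := norm y hy hy2
    obtain rfl : τ = σ := RingEquiv.ext fun t =>
      ((involution_eq_pow hF hf τ hτ).2 t).trans (hpow t).symm
    obtain ⟨θ, hker, -⟩ := exists_theta (F := F) hn'
    have hθ : θ y = θ x := by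
      have h := congrArg θ (hzy.trans hz.symm)
      haveI := (card_ringAut hF hf).2
      letI : CommGroup (F ≃+* F) := IsCyclic.commGroup
      have hcomm : ∀ u v : (F ≃+* F) × Multiplicative (ZMod 2), u * v * u⁻¹ = v := fun u v =>
        Prod.ext (mul_inv_cancel_comm u.1 v.1) (mul_inv_cancel_comm u.2 v.2)
      rwa [map_mul, map_mul, map_inv, map_mul, map_mul, map_inv, hcomm, hcomm] at h
    have hδ : y * x⁻¹ ∈ (innDiag n F).range := by
      rw [← hker, MonoidHom.mem_ker, map_mul, map_inv, hθ, mul_inv_cancel]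
    have h := (orderOf_coset_iff hn' (Or.inr hx) Nat.prime_two hx2 hδ).1 (by rwa [inv_mul_cancel_right])
    rwa [inv_mul_cancel_right, ← inndiagPSL_eq] at h
  · obtain ⟨c⟩ := ClassSplit.nonempty_centralizer_conj (Cfsg.inndiagPSL n F) a x
    rw [hz] at c
    exact ⟨c.trans e⟩
  · rw [← ClassSplit.splitClassCount_conj _ _ a, hz, hcount]

end CfsgLib.Known.AutPSL
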