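import Cfsg.Agent.Lib.Known.AutPSL.Semilin
import Cfsg.Agent.Lib.Classical.SylowGL

/-!
# Automorphisms of `PSL n F` map root groups to root groups

The centre of a Sylow `p`-subgroup, `p` the characteristic, is a root group.
-/

set_option autoImplicit false

open Matrix

namespace CfsgLib.Known.AutPSL

variable {n : ℕ} {F : Type*} [Field F] [Fintype F]

/-- The upper unitriangular subgroup of `SL n F`. -/
def upperUni (n : ℕ) (F : Type*) [Field F] [Fintype F] : Subgroup (SL n F) :=
  let M : Submonoid (SL n F) :=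
    { carrier := {A | (∀ i j, j < i → (A : Matrix (Fin n) (Fin n) F) i j = 0) ∧
        ∀ i, (A : Matrix (Fin n) (Fin n) F) i i = 1}
      one_mem' := ⟨fun i j h => by simp [Matrix.one_apply, h.ne'], fun i => by simp⟩
      mul_mem' := fun {A B} hA hB => by
        constructor
        · intro i j hij
          rw [Matrix.SpecialLinearGroup.coe_mul, Matrix.mul_apply]
          refine Finset.sum_eq_zero fun k _ => ?_
          rcases lt_or_ge k i with hk | hk
          · rw [hA.1 i k hk, zero_mul]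
          · rw [hB.1 k j (lt_of_lt_of_le hij hk), mul_zero]
        · intro i
          rw [Matrix.SpecialLinearGroup.coe_mul, Matrix.mul_apply, Finset.sum_eq_single i]
          · rw [hA.2, hB.2, one_mul]
          · intro k _ hk
            rcases lt_or_gt_of_ne hk with hk | hk
            · rw [hA.1 i k hk, zero_mul]
            · rw [hB.1 k i hk, mul_zero]
          · simp }
  { M with
    inv_mem' := fun {A} hA => by
      have h : A⁻¹ = A ^ (orderOf A - 1) := by
        rw [inv_eq_iff_mul_eq_one, ← pow_succ', Nat.sub_add_cancel (orderOf_pos A),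
          pow_orderOf_eq_one]
      show A⁻¹ ∈ M
      rw [h]
      exact M.pow_mem hA _ }

theorem mem_upperUni {A : SL n F} :
    A ∈ upperUni n F ↔ (∀ i j, j < i → (A : Matrix (Fin n) (Fin n) F) i j = 0) ∧
      ∀ i, (A : Matrix (Fin n) (Fin n) F) i i = 1 := Iff.rfl

theorem card_upperUni : Nat.card (upperUni n F) = Fintype.card F ^ (n * (n - 1) / 2) := by
  classical
  let e : upperUni n F ≃ ({p : Fin n × Fin n // p.1 < p.2} → F) :=
    { toFun := fun A p => ((A : SL n F) : Matrix (Fin n) (Fin n) F) p.1.1 p.1.2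
      invFun := fun f =>
        let M : Matrix (Fin n) (Fin n) F := Matrix.of fun i j =>
          if h : i < j then f ⟨(i, j), h⟩ else if i = j then 1 else 0
        have hlow : ∀ i j, j < i → M i j = 0 := fun i j h => by simp [M, not_lt.2 h.le, h.ne']
        have hdiag : ∀ i, M i i = 1 := fun i => by simp [M]
        ⟨⟨M, by rw [Matrix.det_of_upperTriangular (fun i j h => hlow i j h)]; simp [hdiag]⟩,
          hlow, hdiag⟩
      left_inv := fun A => by
        refine Subtype.ext (Subtype.ext ?_)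
        ext i j
        rcases lt_trichotomy i j with h | rfl | h
        · simp [h]
        · simp [A.2.2 i]
        · simp [not_lt.2 h.le, h.ne', A.2.1 i j h]
      right_inv := fun f => by
        funext p
        simp [p.2] }
  rw [Nat.card_congr e, Nat.card_eq_fintype_card, Fintype.card_fun]
  congr 1
  rw [Fintype.card_congr (show {p : Fin n × Fin n // p.1 < p.2} ≃ (Σ j : Fin n, Fin (j : ℕ)) from
    { toFun := fun p => ⟨p.1.2, ⟨(p.1.1 : ℕ), p.2⟩⟩
      invFun := fun s => ⟨(⟨(s.2 : ℕ), s.2.isLt.trans s.1.isLt⟩, s.1), s.2.isLt⟩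
      left_inv := fun p => rfl
      right_inv := fun s => rfl }), Fintype.card_sigma]
  simp only [Fintype.card_fin]
  rw [Fin.sum_univ_eq_sum_range (fun i => i) n, Finset.sum_range_id]

theorem proj_injOn_upperUni (hn : 1 ≤ n) {A B : SL n F} (hA : A ∈ upperUni n F)
    (hB : B ∈ upperUni n F) (h : proj n F A = proj n F B) : A = B := by
  obtain ⟨c, -, hc⟩ := (proj_eq_iff _ _).1 h
  have h0 := congrFun (congrFun hc ⟨0, hn⟩) ⟨0, hn⟩
  rw [Matrix.smul_apply, hA.2, hB.2, smul_eq_mul, mul_one] at h0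
  exact Subtype.ext (by rw [hc, ← h0, one_smul])

/-- The image of `upperUni` as a Sylow subgroup of `PSL n F`. -/
theorem exists_sylow_eq (hn : 1 ≤ n) (p : ℕ) [Fact p.Prime] [CharP F p] :
    ∃ S : Sylow p (PSL n F), (S : Subgroup (PSL n F)) = (upperUni n F).map (proj n F) := by
  haveI : Nonempty (Fin n) := ⟨⟨0, hn⟩⟩
  have hp : p.Prime := Fact.out
  have hcard : Nat.card ((upperUni n F).map (proj n F)) = Fintype.card F ^ (n * (n - 1) / 2) := by
    rw [← card_upperUni]
    refine (Nat.card_congr (Equiv.ofBijective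
      (fun A : upperUni n F => (⟨proj n F A, A.1, A.2, rfl⟩ : ↥((upperUni n F).map (proj n F))))
      ⟨fun A B h => Subtype.ext (proj_injOn_upperUni hn A.2 B.2 (congrArg Subtype.val h)), ?_⟩)).symm
    rintro ⟨_, A, hA, rfl⟩
    exact ⟨⟨A, hA⟩, rfl⟩
  refine ⟨Sylow.ofCard ((upperUni n F).map (proj n F)) ?_, rfl⟩
  rw [hcard]
  obtain ⟨f, hf, hq⟩ := CfsgLib.Classical.exists_card_eq_prime_pow (F := F) p
  have h1 := CfsgLib.Classical.card_SL_mul (ι := Fin n) (F := F)
  rw [CfsgLib.Classical.card_GL_eq, CfsgLib.Classical.card_SL_eq_gcd_mul_card_PSL, Fintype.card_fin,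
    hq] at h1
  have hfpos : 1 < p ^ f := Nat.one_lt_pow (by omega) hp.one_lt
  have hd1 : ¬ p ∣ p ^ f - 1 := by
    simpa using CfsgLib.Classical.not_dvd_pow_sub_one hp (dvd_pow_self p (by omega : f ≠ 0))
      hfpos.le one_ne_zero
  have hd2 : ¬ p ∣ Nat.gcd n (p ^ f - 1) := fun h => hd1 (h.trans (Nat.gcd_dvd_right _ _))
  have hd3 : ¬ p ∣ ∏ i ∈ Finset.range n, ((p ^ f) ^ (i + 1) - 1) :=
    CfsgLib.Classical.not_dvd_prod hp fun i _ =>
      CfsgLib.Classical.not_dvd_pow_sub_one hp (dvd_pow_self p (by omega)) hfpos.le (by omega)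
  have h2 := congrArg (fun m => m.factorization p) h1
  rw [Nat.factorization_mul (by omega) (Nat.mul_ne_zero (fun h => hd2 (by rw [h]; exact dvd_zero p))
      Nat.card_pos.ne'),
    Nat.factorization_mul (fun h => hd2 (by rw [h]; exact dvd_zero p)) Nat.card_pos.ne',
    Nat.factorization_mul (pow_ne_zero _ (by omega)) (fun h => hd3 (by rw [h]; exact dvd_zero p)),
    Finsupp.add_apply, Finsupp.add_apply, Finsupp.add_apply,
    Nat.factorization_eq_zero_of_not_dvd hd1, Nat.factorization_eq_zero_of_not_dvd hd2,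
    Nat.factorization_eq_zero_of_not_dvd hd3, zero_add, zero_add, add_zero, ← pow_mul,
    hp.factorization_pow, Finsupp.single_eq_same] at h2
  rw [hq, h2, ← pow_mul]

omit [Fintype F] in
theorem vecMulVec_single (i j : Fin n) (c : F) :
    vecMulVec (Pi.single i (1 : F)) (c • Pi.single j (1 : F)) = Matrix.single i j c := by
  ext x y
  simp only [vecMulVec_apply, Pi.single_apply, Matrix.single_apply, Pi.smul_apply, smul_eq_mul]
  split_ifs <;> simp_all

/-- The centre of the image of `upperUni`. -/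
theorem upperUni_center (hn : 2 ≤ n) (u : SL n F) (hu : u ∈ upperUni n F)
    (hc : ∀ v ∈ upperUni n F, proj n F u * proj n F v = proj n F v * proj n F u) :
    ∃ c : F, proj n F u = P (Pi.single ⟨0, by omega⟩ 1) (c • Pi.single ⟨n - 1, by omega⟩ 1) := by
  classical
  set i0 : Fin n := ⟨0, by omega⟩
  set il : Fin n := ⟨n - 1, by omega⟩
  have hil : i0 ≠ il := fun h => by simp [i0, il] at h; omega
  have key : ∀ a b : Fin n, a < b → (∀ i, i ≠ a → (u : Matrix (Fin n) (Fin n) F) i a = 0) ∧
      ∀ j, j ≠ b → (u : Matrix (Fin n) (Fin n) F) b j = 0 := by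
    intro a b hab
    have hv0 : ((1 : F) • Pi.single b (1 : F) : Fin n → F) ⬝ᵥ Pi.single a 1 = 0 := by
      simp [hab.ne', Ne.symm hab.ne']
    have hv : tvSL (Pi.single a 1) ((1 : F) • Pi.single b 1) hv0 ∈ upperUni n F := by
      constructor
      · intro i j hij
        rw [coe_tvSL, vecMulVec_single, Matrix.add_apply, Matrix.one_apply, if_neg hij.ne',
          Matrix.single_apply, if_neg, add_zero]
        rintro ⟨rfl, rfl⟩
        exact lt_asymm hab hij
      · intro i
        rw [coe_tvSL, vecMulVec_single, Matrix.add_apply, Matrix.one_apply_eq, Matrix.single_apply,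
          if_neg, add_zero]
        rintro ⟨rfl, rfl⟩
        exact lt_irrefl _ hab
    have h := hc _ hv
    rw [← map_mul, ← map_mul] at h
    have h' := congrArg (fun x : SL n F => (x : Matrix (Fin n) (Fin n) F))
      (proj_injOn_upperUni (by omega) ((upperUni n F).mul_mem hu hv)
        ((upperUni n F).mul_mem hv hu) h)
    simp only [Matrix.SpecialLinearGroup.coe_mul, coe_tvSL, vecMulVec_single, mul_add, add_mul,
      mul_one, one_mul, add_right_inj] at h'
    constructor
    · intro i hi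
      have := congrFun (congrFun h' i) b
      rwa [Matrix.mul_single_apply_same, mul_one, Matrix.single_mul_apply_of_ne _ _ _ _ _ hi] at this
    · intro j hj
      have := congrFun (congrFun h' a) j
      rw [Matrix.mul_single_apply_of_ne _ _ _ _ _ hj, Matrix.single_mul_apply_same, one_mul] at this
      exact this.symm
  refine ⟨(u : Matrix (Fin n) (Fin n) F) i0 il, ?_⟩
  have h0 : ((u : Matrix (Fin n) (Fin n) F) i0 il • Pi.single il (1 : F) : Fin n → F) ⬝ᵥ
      Pi.single i0 1 = 0 := by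
    simp [hil, hil.symm]
  rw [P_of h0]
  congr 1
  refine Subtype.ext ?_
  rw [coe_tvSL, vecMulVec_single]
  ext i j
  rw [Matrix.add_apply, Matrix.one_apply, Matrix.single_apply]
  rcases eq_or_ne i j with rfl | hij
  · rw [if_pos rfl, if_neg, hu.2, add_zero]
    rintro ⟨rfl, h⟩
    exact hil h.symm
  rw [if_neg hij, zero_add]
  split_ifs with h
  · rw [← h.1, ← h.2]
  · rcases eq_or_ne i i0 with rfl | hi
    · have hjl : j < il := by
        rcases lt_or_ge j il with hj | hj
        · exact hj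
        · exact absurd ⟨rfl, le_antisymm hj (by simp [il, Fin.le_def]; omega)⟩ h
      exact (key j il hjl).1 i0 hij
    · have hi0 : i0 < i := lt_of_le_of_ne (by simp [i0, Fin.le_def]) (Ne.symm hi)
      exact (key i0 i hi0).2 j hij.symm

theorem P_mem_center (hn : 2 ≤ n) (c : F) :
    P (Pi.single ⟨0, by omega⟩ 1) (c • Pi.single ⟨n - 1, by omega⟩ 1) ∈ (upperUni n F).map (proj n F) ∧
    ∀ y ∈ (upperUni n F).map (proj n F),
      P (Pi.single ⟨0, by omega⟩ 1) (c • Pi.single ⟨n - 1, by omega⟩ 1) * y =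
        y * P (Pi.single (⟨0, by omega⟩ : Fin n) 1) (c • Pi.single ⟨n - 1, by omega⟩ 1) := by
  set i0 : Fin n := ⟨0, by omega⟩
  set il : Fin n := ⟨n - 1, by omega⟩
  have hil : i0 ≠ il := fun h => by simp [i0, il] at h; omega
  have h0 : (c • Pi.single il (1 : F) : Fin n → F) ⬝ᵥ Pi.single i0 1 = 0 := by
    simp [hil, hil.symm]
  rw [P_of h0]
  constructor
  · refine ⟨_, ⟨fun i j hij => ?_, fun i => ?_⟩, rfl⟩
    · rw [coe_tvSL, vecMulVec_single, Matrix.add_apply, Matrix.one_apply, if_neg hij.ne',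
        Matrix.single_apply, if_neg, add_zero]
      rintro ⟨rfl, rfl⟩
      simp [i0, il, Fin.lt_def] at hij
    · rw [coe_tvSL, vecMulVec_single, Matrix.add_apply, Matrix.one_apply_eq, Matrix.single_apply,
        if_neg, add_zero]
      rintro ⟨rfl, h⟩
      exact hil h.symm
  · rintro _ ⟨v, hv, rfl⟩
    rw [← map_mul, ← map_mul]
    congr 1
    refine Subtype.ext ?_
    simp only [Matrix.SpecialLinearGroup.coe_mul, coe_tvSL, vecMulVec_single, mul_add, add_mul,
      mul_one, one_mul, add_right_inj]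
    ext i j
    rcases eq_or_ne i i0 with rfl | hi <;> rcases eq_or_ne j il with rfl | hj
    · rw [Matrix.mul_single_apply_same, Matrix.single_mul_apply_same, hv.2, hv.2]; ring
    · rw [Matrix.mul_single_apply_of_ne _ _ _ _ _ hj, Matrix.single_mul_apply_same, hv.1 il j
        (lt_of_le_of_ne (by simp [il, Fin.le_def]; omega) hj), mul_zero]
    · rw [Matrix.mul_single_apply_same, Matrix.single_mul_apply_of_ne _ _ _ _ _ hi, hv.1 i i0
        (lt_of_le_of_ne (by simp [i0, Fin.le_def]) (Ne.symm hi)), zero_mul]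
    · rw [Matrix.mul_single_apply_of_ne _ _ _ _ _ hj, Matrix.single_mul_apply_of_ne _ _ _ _ _ hi]

omit [Fintype F] in
theorem exists_GL_frame {a φ : Fin n → F} (hn : 2 ≤ n) (ha : a ≠ 0) (hφ : φ ≠ 0) (h : φ ⬝ᵥ a = 0) :
    ∃ g : GL (Fin n) F, (g : Matrix (Fin n) (Fin n) F) *ᵥ Pi.single ⟨0, by omega⟩ 1 = a ∧
      (Pi.single ⟨n - 1, by omega⟩ (1 : F) : Fin n → F) ᵥ* ((g⁻¹ : GL (Fin n) F) : Matrix (Fin n) (Fin n) F)
        = φ := by
  classical
  set i0 : Fin n := ⟨0, by omega⟩
  set il : Fin n := ⟨n - 1, by omega⟩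
  have hil : i0 ≠ il := fun h => by simp [i0, il] at h; omega
  obtain ⟨k, hk⟩ := Function.ne_iff.1 ha
  set M : Matrix (Fin n) (Fin n) F :=
    ((1 : Matrix (Fin n) (Fin n) F).updateCol k a).submatrix id (Equiv.swap k i0) with hM
  have hcol : M *ᵥ Pi.single i0 1 = a := by
    rw [mulVec_single_one]
    funext i
    simp [hM, updateCol_self]
  have hdetM : M.det ≠ 0 := by
    rw [hM, det_permute', ← Matrix.cramer_apply, Matrix.cramer_one]
    exact mul_ne_zero (by rcases Int.units_eq_one_or (Equiv.Perm.sign (Equiv.swap k i0)) with h | h <;> rw [h] <;> simp) hk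
  set g0 : GL (Fin n) F := GeneralLinearGroup.mkOfDetNeZero M hdetM
  set φ' : Fin n → F := φ ᵥ* M with hφ'
  have hφ'0 : φ' i0 = 0 := by
    rw [← h, ← hcol, dotProduct_mulVec, hφ', dotProduct_single, mul_one]
  obtain ⟨m, hm⟩ : ∃ m, φ' m ≠ 0 := Function.ne_iff.1 (fun h0 : φ' = 0 => hφ (by
    have := congrArg (fun v => v ᵥ* ((g0⁻¹ : GL (Fin n) F) : Matrix (Fin n) (Fin n) F)) h0
    simp only [hφ', vecMul_vecMul, zero_vecMul] at this
    rwa [show M * ((g0⁻¹ : GL (Fin n) F) : Matrix (Fin n) (Fin n) F) = 1 from Units.mul_inv g0,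
      vecMul_one] at this))
  have hm0 : m ≠ i0 := fun h => hm (h ▸ hφ'0)
  set N : Matrix (Fin n) (Fin n) F :=
    ((1 : Matrix (Fin n) (Fin n) F).updateRow m φ').submatrix (Equiv.swap m il) id with hN
  have hrow : (Pi.single il (1 : F) : Fin n → F) ᵥ* N = φ' := by
    rw [single_one_vecMul]
    funext i
    simp [hN, updateRow_self]
  have hN0 : N *ᵥ Pi.single i0 1 = Pi.single i0 1 := by
    rw [mulVec_single_one]
    funext i
    rcases eq_or_ne i i0 with rfl | hi
    · simp [hN, Equiv.swap_apply_of_ne_of_ne hm0.symm hil, updateRow_ne hm0.symm]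
    · have hi' : Equiv.swap m il i ≠ i0 := by
        intro h'
        apply hi
        rw [← Equiv.swap_apply_self m il i, h', Equiv.swap_apply_of_ne_of_ne hm0.symm hil]
      rcases eq_or_ne (Equiv.swap m il i) m with h' | h'
      · simp [hN, h', hφ'0, hi]
      · simp [hN, updateRow_ne h', hi', hi]
  have hdetN : N.det ≠ 0 := by
    rw [hN, det_permute, ← det_transpose, ← updateCol_transpose, transpose_one, ← Matrix.cramer_apply,
      Matrix.cramer_one]
    exact mul_ne_zero (by rcases Int.units_eq_one_or (Equiv.Perm.sign (Equiv.swap m il)) with h | h <;> rw [h] <;> simp) hm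
  set h0 : GL (Fin n) F := GeneralLinearGroup.mkOfDetNeZero N hdetN
  refine ⟨g0 * h0⁻¹, ?_, ?_⟩
  · have : ((h0⁻¹ : GL (Fin n) F) : Matrix (Fin n) (Fin n) F) *ᵥ Pi.single i0 1 = Pi.single i0 1 := by
      conv_lhs => rw [← hN0]
      rw [mulVec_mulVec, show ((h0⁻¹ : GL (Fin n) F) : Matrix (Fin n) (Fin n) F) * N = 1 from
        Units.inv_mul h0, one_mulVec]
    rw [Units.val_mul, ← mulVec_mulVec, this]
    exact hcol
  · rw [_root_.mul_inv_rev, inv_inv, Units.val_mul, ← vecMul_vecMul]
    show ((Pi.single il (1 : F) : Fin n → F) ᵥ* N) ᵥ* _ = φ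
    rw [hrow, hφ', vecMul_vecMul,
      show M * ((g0⁻¹ : GL (Fin n) F) : Matrix (Fin n) (Fin n) F) = 1 from Units.mul_inv g0,
      vecMul_one]

/-- Every automorphism maps a root group into a root group. -/
theorem root_image (hn : 2 ≤ n) (β : MulAut (PSL n F)) {a φ : Fin n → F} (ha : a ≠ 0) (hφ : φ ≠ 0)
    (h : φ ⬝ᵥ a = 0) :
    ∃ b ψ : Fin n → F, b ≠ 0 ∧ ψ ≠ 0 ∧ ψ ⬝ᵥ b = 0 ∧
      ∀ c : F, ∃ d : F, β (P a (c • φ)) = P b (d • ψ) := by
  classical
  set i0 : Fin n := ⟨0, by omega⟩
  set il : Fin n := ⟨n - 1, by omega⟩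
  have hil : i0 ≠ il := fun h => by simp [i0, il] at h; omega
  obtain ⟨p, hp⟩ := CharP.exists F
  haveI := hp
  haveI : Fact p.Prime := ⟨(FiniteField.card F p).choose_spec.1⟩
  obtain ⟨g, hg1, hg2⟩ := exists_GL_frame hn ha hφ h
  set γ := β * semilin g (RingEquiv.refl F) with hγ
  obtain ⟨S, hS⟩ := exists_sylow_eq (n := n) (F := F) (by omega) p
  obtain ⟨y, hy⟩ := MulAction.exists_smul_eq (PSL n F) S
    (S.mapSurjective (f := (γ : PSL n F →* PSL n F)) γ.surjective)
  obtain ⟨s, rfl⟩ := proj_surjective y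
  set t : GL (Fin n) F := Matrix.SpecialLinearGroup.toGL s
  refine ⟨(t : Matrix (Fin n) (Fin n) F) *ᵥ Pi.single i0 1,
    (Pi.single il (1 : F) : Fin n → F) ᵥ* ((t⁻¹ : GL (Fin n) F) : Matrix (Fin n) (Fin n) F),
    ?_, ?_, ?_, fun c => ?_⟩
  · intro h0
    have := congrArg (fun v => ((t⁻¹ : GL (Fin n) F) : Matrix (Fin n) (Fin n) F) *ᵥ v) h0
    simp only [mulVec_mulVec, Units.inv_mul, one_mulVec, mulVec_zero] at this
    simpa using congrFun this i0
  · intro h0
    have := congrArg (fun v => v ᵥ* (t : Matrix (Fin n) (Fin n) F)) h0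
    simp only [vecMul_vecMul, Units.inv_mul, vecMul_one, zero_vecMul] at this
    simpa using congrFun this il
  · rw [← dotProduct_mulVec, mulVec_mulVec, Units.inv_mul, one_mulVec]
    simp [hil, hil.symm]
  have hmap : ((proj n F s • S : Sylow p (PSL n F)) : Subgroup (PSL n F)) =
      ((upperUni n F).map (proj n F)).map (γ : PSL n F →* PSL n F) := by
    rw [hy, ← hS]
    rfl
  have hsrc : β (P a (c • φ)) = γ (P (Pi.single i0 1) (c • Pi.single il 1)) := by
    rw [hγ, MulAut.mul_apply, semilin_P]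
    congr 2
    · rw [← hg1]; congr 1
    · rw [← hg2, ← smul_vecMul]; congr 1
  rw [hsrc]
  obtain ⟨hz1, hz2⟩ := P_mem_center (F := F) hn c
  set z := γ (P (Pi.single i0 1) (c • Pi.single il 1)) with hz
  have hzV : z ∈ ((proj n F s • S : Sylow p (PSL n F)) : Subgroup (PSL n F)) := by
    rw [hmap]; exact ⟨_, hz1, rfl⟩
  obtain ⟨w, hw, hwz⟩ := hzV
  have hwz' : proj n F s * w * (proj n F s)⁻¹ = z := hwz
  rw [hS] at hw
  obtain ⟨u, hu, rfl⟩ := hw
  obtain ⟨d, hd⟩ := upperUni_center hn u hu fun v hv => by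
    have hvS : proj n F s * proj n F v * (proj n F s)⁻¹ ∈
        ((proj n F s • S : Sylow p (PSL n F)) : Subgroup (PSL n F)) :=
      ⟨proj n F v, by rw [hS]; exact ⟨v, hv, rfl⟩, rfl⟩
    rw [hmap] at hvS
    obtain ⟨x, hx, hxe⟩ := hvS
    have hxe' : γ x = proj n F s * proj n F v * (proj n F s)⁻¹ := hxe
    have h1 := congrArg γ (hz2 x hx)
    rw [map_mul, map_mul, ← hz, ← hwz', hxe'] at h1
    apply mul_left_cancel (a := proj n F s)
    apply mul_right_cancel (b := (proj n F s)⁻¹)
    calc proj n F s * (proj n F u * proj n F v) * (proj n F s)⁻¹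
        = proj n F s * proj n F u * (proj n F s)⁻¹ *
            (proj n F s * proj n F v * (proj n F s)⁻¹) := by group
      _ = proj n F s * proj n F v * (proj n F s)⁻¹ *
            (proj n F s * proj n F u * (proj n F s)⁻¹) := h1
      _ = _ := by group
  refine ⟨d, ?_⟩
  rw [← hwz', ← MulAut.conj_apply, conj_eq_semilin, hd, semilin_P]
  congr 1
  rw [← smul_vecMul]
  rfl

end CfsgLib.Known.AutPSL
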