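import Cfsg.Agent.Lib.Known.AutPSL.Field

/-!
# Prime order field and graph-field automorphisms of `PSL n F`: classes and centralizers
-/

set_option autoImplicit false

open Matrix

namespace CfsgLib.Known.AutPSL

variable {n : ℕ} {F : Type*} [Field F] [Fintype F]

instance inn_normal (G : Type*) [Group G] : (Cfsg.Inn G).Normal := by
  refine ⟨?_⟩
  rintro _ ⟨x, rfl⟩ a
  refine ⟨a x, MulEquiv.ext fun y => ?_⟩
  simp [MulAut.conj_apply]

theorem exists_theta (hn : 2 ≤ n) :
    ∃ θ : MulAut (PSL n F) →* (F ≃+* F) × Multiplicative (ZMod 2),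
      θ.ker = (innDiag n F).range ∧
      ∀ (g : GL (Fin n) F) (σ : F ≃+* F) (e : Bool), (n = 2 → e = false) →
        θ (mkAut g σ e) = (σ, Multiplicative.ofAdd (if e then 1 else 0)) := by
  obtain ⟨θ, hθ⟩ := exists_fieldGraph_hom (F := F) hn
  refine ⟨θ, ?_, hθ⟩
  ext β
  constructor
  · intro hβ
    obtain ⟨g, σ, e, rfl, he⟩ := exists_mkAut hn β
    rw [MonoidHom.mem_ker, hθ g σ e he, Prod.mk_eq_one] at hβ
    obtain ⟨hσ, he'⟩ := hβ
    have : e = false := by
      cases e
      · rfl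
      · exact absurd he' (by decide)
    subst this hσ
    exact ⟨g, (mkAut_false g _).symm⟩
  · rintro ⟨g, rfl⟩
    rw [MonoidHom.mem_ker, innDiag_apply, ← mkAut_false, hθ g _ _ (fun _ => rfl)]
    rfl

theorem innDiag_eq_one_iff (hn : 2 ≤ n) (g : GL (Fin n) F) :
    innDiag n F g = 1 ↔ ∃ c : F, (g : Matrix (Fin n) (Fin n) F) = c • 1 := by
  rw [innDiag_apply, semilin_eq_one_iff hn]
  simp

theorem orderOf_fieldHom (hn : 2 ≤ n) (σ : F ≃+* F) : orderOf (fieldHom n F σ) = orderOf σ :=
  orderOf_injective _ (fieldHom_injective hn) σ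

theorem graphField_eq_mkAut (σ : F ≃+* F) :
    fieldHom n F σ * iota = mkAut (1 : GL (Fin n) F) σ true := (mkAut_true _ _).symm

/-- A graph-field automorphism of prime order is an involution. -/
theorem orderOf_graphField (hn : 3 ≤ n) {σ : F ≃+* F} (hσ : σ ≠ RingEquiv.refl F) {r : ℕ} (hr : r.Prime)
    (h : orderOf (fieldHom n F σ * iota) = r) : r = 2 ∧ orderOf σ = 2 := by
  have hn2 : n = 2 → False := fun h' => by omega
  have hpow : (fieldHom n F σ * iota) ^ r = fieldHom n F (σ ^ r) * iota ^ r := by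
    rw [(fieldHom_iota σ).mul_pow, map_pow]
  have h1 : (fieldHom n F σ * iota) ^ r = 1 := by rw [← h, pow_orderOf_eq_one]
  have hr2 : r = 2 := by
    rcases hr.eq_two_or_odd' with h2 | hodd
    · exact h2
    · exfalso
      obtain ⟨k, rfl⟩ := hodd
      have hi : (iota : MulAut (PSL n F)) ^ (2 * k + 1) = iota := by
        rw [pow_succ, pow_mul, sq, iota_iota, one_pow, one_mul]
      rw [hpow, hi, graphField_eq_mkAut, ← semilin_one, ← mkAut_false] at h1
      exact absurd ((mkAut_eq_iff (by omega) fun h' => (hn2 h').elim).1 h1).2.1 (by decide)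
  refine ⟨hr2, ?_⟩
  subst hr2
  rw [hpow, sq iota, iota_iota, mul_one] at h1
  rw [← orderOf_fieldHom (n := n) (by omega) σ]
  refine orderOf_eq_prime (by rw [← map_pow]; exact h1) fun h' => hσ ?_
  exact fieldHom_injective (n := n) (by omega) (h'.trans (map_one _).symm)

/-- Elements of prime order in the coset of a standard field automorphism. -/
theorem field_coset (hn : 2 ≤ n) (σ : F ≃+* F) {r : ℕ} (hr : r.Prime)
    (hord : orderOf (fieldHom n F σ) = r) (g : GL (Fin n) F)
    (h : orderOf (innDiag n F g * fieldHom n F σ) = r) :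
    Cfsg.IsConjUnder (innDiag n F).range (fieldHom n F σ) (innDiag n F g * fieldHom n F σ) := by
  haveI : Nonempty (Fin n) := ⟨⟨0, by omega⟩⟩
  have hσ : orderOf σ = r := (orderOf_fieldHom hn σ).symm.trans hord
  obtain ⟨N, hN, hp⟩ := semilin_pow g σ r
  have h1 : (innDiag n F g * fieldHom n F σ) ^ r = 1 := by rw [← h, pow_orderOf_eq_one]
  rw [fieldHom_apply, ← semilin_split, hp, semilin_eq_one_iff hn] at h1
  obtain ⟨-, c, hc⟩ := h1
  obtain ⟨k, t, hk⟩ := Descent.exists_conj_of_norm_scalar σ hσ hr.pos g (c := c) (by rw [← hN, hc])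
  refine ⟨innDiag n F k, ⟨k, rfl⟩, ?_⟩
  rw [eq_mul_inv_iff_mul_eq, fieldHom_apply, ← semilin_split, ← semilin_split, innDiag_apply,
    semilin_mul, show (RingEquiv.refl F).trans σ = σ from RingEquiv.ext fun _ => rfl, ← mkAut_false, ← mkAut_false,
    mkAut_eq_iff hn fun _ => ⟨rfl, rfl⟩]
  refine ⟨rfl, rfl, (t : F)⁻¹, ?_⟩
  rw [Units.val_mul, coe_glMap, hk, inv_smul_smul₀ t.ne_zero]

/-- Involutions in the coset of a standard graph-field automorphism. -/
theorem graphField_coset (hn : 3 ≤ n) {σ : F ≃+* F} (hσ : orderOf σ = 2) (g : GL (Fin n) F)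
    (h : (innDiag n F g * (fieldHom n F σ * iota)) ^ 2 = 1) :
    Cfsg.IsConjUnder (innDiag n F).range (fieldHom n F σ * iota)
      (innDiag n F g * (fieldHom n F σ * iota)) := by
  haveI : Nonempty (Fin n) := ⟨⟨0, by omega⟩⟩
  have hn2 : n = 2 → False := fun h' => by omega
  have hne : σ ≠ RingEquiv.refl F := fun he => by
    rw [he, show RingEquiv.refl F = (1 : F ≃+* F) from rfl, orderOf_one] at hσ; omega
  have hσσ : σ * σ = 1 := by rw [← sq, ← hσ, pow_orderOf_eq_one]
  have hinv : ∀ a, σ (σ a) = a := fun a => RingEquiv.congr_fun hσσ a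
  have hy : ∀ k : GL (Fin n) F, innDiag n F k * (fieldHom n F σ * iota) = mkAut k σ true := fun k => by
    rw [mkAut_true, ← mul_assoc, fieldHom_apply, ← semilin_split]
  rw [hy, sq, mkAut_mul, if_pos rfl, Bool.xor_self, mkAut_false, semilin_eq_one_iff (by omega)] at h
  obtain ⟨-, c, hc⟩ := h
  set M := (g : Matrix (Fin n) (Fin n) F) with hM
  set M' := ((g⁻¹ : GL (Fin n) F) : Matrix (Fin n) (Fin n) F)
  rw [Units.val_mul, coe_glMap] at hc
  change M * M'ᵀ.map σ = c • 1 at hc
  have hcancel : M'ᵀ.map σ * Mᵀ.map σ = 1 := by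
    rw [← Matrix.map_mul, ← Matrix.transpose_mul, hM, Units.mul_inv, Matrix.transpose_one,
      Matrix.map_one _ (map_zero σ) (map_one σ)]
  have hg : M = c • (M.map σ)ᵀ := by
    have := congrArg (· * Mᵀ.map σ) hc
    simp only [mul_assoc, hcancel, mul_one, smul_mul, one_mul] at this
    exact this.trans (by rw [Matrix.transpose_map])
  have hsc : ∀ (a : F) (A : Matrix (Fin n) (Fin n) F), (a • A).map σ = σ a • A.map σ := fun a A =>
    Matrix.ext fun i j => map_mul σ a (A i j)
  have hcc : c * σ c = 1 := by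
    have h2 : (M.map σ)ᵀ = σ c • M := by
      have : (M.map σ).map σ = M := Matrix.ext fun i j => hinv _
      conv_lhs => rw [hg]
      rw [hsc, Matrix.transpose_smul, ← Matrix.transpose_map, Matrix.transpose_transpose, this]
    have h3 : M = (c * σ c) • M := by rw [← smul_smul, ← h2, ← hg]
    obtain ⟨i, j, hij⟩ : ∃ i j, M i j ≠ 0 := by
      by_contra hcon
      push Not at hcon
      exact g.ne_zero (Matrix.ext hcon)
    have h4 := congrFun₂ h3 i j
    rw [Matrix.smul_apply, smul_eq_mul] at h4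
    exact mul_right_cancel₀ hij (h4.symm.trans (one_mul _).symm)
  obtain ⟨L, hL, hLeq⟩ := Descent.exists_fixed_basis σ hσ two_pos (c • (1 : Matrix (Fin 1) (Fin 1) F)) (by
    rw [Descent.normMat_smul, Descent.normMat_one]
    simp [Descent.fieldNorm, Finset.prod_range_succ, hcc])
  set l := L 0 0
  have hl0 : l ≠ 0 := by
    have := (Matrix.isUnit_iff_isUnit_det L).1 hL
    rw [Matrix.det_fin_one] at this
    exact this.ne_zero
  have hleq : c * σ l = l := by
    simpa [Matrix.mul_apply] using congrFun₂ hLeq 0 0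
  have hσl : σ l ≠ 0 := by simpa using hl0
  let H : GL (Fin n) F := g * GeneralLinearGroup.scalar (Fin n) (Units.mk0 l⁻¹ (inv_ne_zero hl0))
  have hH : (H : Matrix (Fin n) (Fin n) F) = l⁻¹ • M := by
    ext i j
    simp [H, hM, mul_comm]
  have hherm : ((H : Matrix (Fin n) (Fin n) F).map σ)ᵀ = (H : Matrix (Fin n) (Fin n) F) := by
    rw [hH, hsc, map_inv₀, Matrix.transpose_smul]
    conv_rhs => rw [hg, smul_smul]
    congr 1
    field_simp
    linear_combination -hleq
  obtain ⟨k, hk⟩ := Descent.exists_hermitian_factor σ hne hinv H hherm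
  refine ⟨innDiag n F k, ⟨k, rfl⟩, ?_⟩
  rw [eq_mul_inv_iff_mul_eq, hy, hy, innDiag_apply, ← mkAut_false, mkAut_mul, if_pos rfl,
    Bool.xor_false, show (RingEquiv.refl F).trans σ = σ from RingEquiv.ext fun _ => rfl, mkAut_eq_iff (by omega) fun h' => (hn2 h').elim]
  refine ⟨rfl, rfl, l⁻¹, ?_⟩
  rw [Units.val_mul, coe_glMap]
  set K := (k : Matrix (Fin n) (Fin n) F) with hK
  change K = l⁻¹ • (M * ((k⁻¹ : GL (Fin n) F) : Matrix (Fin n) (Fin n) F)ᵀ.map σ)
  rw [← smul_mul, ← hH, hk, mul_assoc, ← Matrix.transpose_map, ← Matrix.map_mul, ← Matrix.transpose_mul,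
    hK, Units.inv_mul, Matrix.transpose_one, Matrix.map_one _ (map_zero σ) (map_one σ), mul_one]

/-- An element of the coset of a field or graph-field automorphism of prime order `r` has order `r`
exactly when it is conjugate to it. -/
theorem orderOf_coset_iff (hn : 2 ≤ n) {x δ : MulAut (PSL n F)}
    (hx : Cfsg.IsFieldAutClassPSL x ∨ Cfsg.IsGraphFieldAutClassPSL x) {r : ℕ} (hr : r.Prime)
    (hxr : orderOf x = r) (hδ : δ ∈ (innDiag n F).range) :
    orderOf (δ * x) = r ↔ Cfsg.IsConjUnder (innDiag n F).range x (δ * x) := by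
  constructor
  · intro ho
    haveI := inndiag_normal (F := F) hn
    have main : ∀ a z : MulAut (PSL n F), a * x * a⁻¹ = z →
        (∀ g : GL (Fin n) F, orderOf (innDiag n F g * z) = r →
          Cfsg.IsConjUnder (innDiag n F).range z (innDiag n F g * z)) →
        Cfsg.IsConjUnder (innDiag n F).range x (δ * x) := by
      intro a z hz hg
      obtain ⟨g, hgeq⟩ := (inndiag_normal (F := F) hn).conj_mem δ hδ a
      have he : a * (δ * x) * a⁻¹ = innDiag n F g * z := by rw [hgeq, ← hz]; group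
      rw [← ClassSplit.isConjUnder_conj_iff _ a, he, hz]
      refine hg g ?_
      rw [← he]
      exact ((MulAut.conj a).orderOf_eq (δ * x)).trans ho
    have conjOrd : ∀ a : MulAut (PSL n F), orderOf (a * x * a⁻¹) = r := fun a =>
      ((MulAut.conj a).orderOf_eq x).trans hxr
    rcases hx with hx | hx
    · obtain ⟨a, σ, -, hz⟩ := (isConj_fieldGraph (hn := hn) x).1 hx
      exact main a _ hz (field_coset hn σ hr (hz ▸ conjOrd a))
    · obtain ⟨h3, a, σ, hσ, hz⟩ := (isConj_fieldGraph (hn := hn) x).2 hx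
      obtain ⟨rfl, hσ2⟩ := orderOf_graphField h3 hσ hr (hz ▸ conjOrd a)
      exact main a _ hz fun g hg => graphField_coset h3 hσ2 g (hg ▸ pow_orderOf_eq_one _)
  · rintro ⟨k, -, hk⟩
    rw [hk, ← hxr]
    exact (MulAut.conj k).orderOf_eq x

end CfsgLib.Known.AutPSL
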