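import Cfsg.Agent.Lib.Known.AutPSL.GraphCharTwo
import Cfsg.Agent.Lib.Classical.OddCharTwo

/-!
# Classes and centralizers of involutory graph automorphisms of `PSL n F`
-/

set_option autoImplicit false
set_option linter.unusedSectionVars false

open Matrix

namespace CfsgLib.Known.AutPSL.Graph

open QuadraticMap (polar polarBilin)
open CfsgLib.Classical

variable {n : ℕ} {F : Type*} [Field F]

theorem two_ne_zero_of_odd_card [Fintype F] (hodd : Odd (Fintype.card F)) : (2 : F) ≠ 0 := by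
  intro h
  haveI : CharP F 2 := CharTwo.of_one_ne_zero_of_two_eq_zero one_ne_zero h
  have := FiniteField.even_card_of_char_two (ringChar.eq F 2)
  rw [Nat.odd_iff] at hodd
  omega

theorem pow_mod_four_iff {q : ℕ} (hodd : Odd q) (n : ℕ) :
    q ^ n % 4 = 1 ↔ Even n ∨ q % 4 = 1 := by
  have hq : q % 4 = 1 ∨ q % 4 = 3 := by obtain ⟨k, rfl⟩ := hodd; omega
  rcases Nat.even_or_odd n with ⟨j, rfl⟩ | ⟨j, rfl⟩
  · rw [← two_mul, pow_mul, Nat.pow_mod, Nat.pow_mod q 2 4]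
    rcases hq with h | h <;> simp [h]
  · rw [pow_succ, pow_mul, Nat.mul_mod, Nat.pow_mod, Nat.pow_mod q 2 4]
    rcases hq with h | h <;> simp [h]

theorem classify_symm_even [Fintype F] (h2 : (2 : F) ≠ 0) (hn : 1 ≤ n) (S A B : GL (Fin n) F)
    (hS : (S : Matrix (Fin n) (Fin n) F)ᵀ = (S : Matrix (Fin n) (Fin n) F))
    (hA : (A : Matrix (Fin n) (Fin n) F)ᵀ = (A : Matrix (Fin n) (Fin n) F))
    (hB : (B : Matrix (Fin n) (Fin n) F)ᵀ = (B : Matrix (Fin n) (Fin n) F))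
    (hAB : ¬ IsSquare ((A : Matrix (Fin n) (Fin n) F).det * (B : Matrix (Fin n) (Fin n) F).det)) :
    SimForm (A : Matrix (Fin n) (Fin n) F) (S : Matrix (Fin n) (Fin n) F) ∨
      SimForm (B : Matrix (Fin n) (Fin n) F) (S : Matrix (Fin n) (Fin n) F) := by
  by_cases h : IsSquare ((S : Matrix (Fin n) (Fin n) F).det * (A : Matrix (Fin n) (Fin n) F).det)
  · exact Or.inl (simForm_symm_of_det h2 hn S A hS hA h)
  · refine Or.inr (simForm_symm_of_det h2 hn S B hS hB ?_)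
    have hd : ∀ X : GL (Fin n) F, (X : Matrix (Fin n) (Fin n) F).det ≠ 0 := fun X =>
      (GeneralLinearGroup.det X).ne_zero
    obtain ⟨r, hr⟩ := (Quad.isSquare_mul_iff_not h2
      (mul_ne_zero (hd S) (hd A)) hAB).2 h
    refine ⟨r / (A : Matrix (Fin n) (Fin n) F).det, ?_⟩
    rw [div_mul_div_comm, ← hr, eq_div_iff (mul_ne_zero (hd A) (hd A))]
    ring

theorem det_qPlus_qMinus (k : ℕ) (a b : F) :
    (qGram (Quad.qPlus (k + 1) F)).det * (qGram (Quad.qMinus k F a b)).det = a ^ 2 - 4 * b := by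
  rw [qGram, qGram, Quad.det_gram_qPlus, Quad.det_gram_qMinus, ← mul_assoc, ← pow_add,
    show k + 1 + k = 2 * k + 1 by omega, pow_succ, pow_mul, neg_one_sq, one_pow, one_mul]
  ring

theorem discr_nonsquare (h2 : (2 : F) ≠ 0) {a b : F}
    (hab : ∀ z₁ z₂ : F, z₁ ^ 2 + a * z₁ * z₂ + b * z₂ ^ 2 = 0 → z₁ = 0 ∧ z₂ = 0) :
    ¬ IsSquare (a ^ 2 - 4 * b) := by
  rintro ⟨r, hr⟩
  exact h2 (hab (r - a) 2 (by linear_combination -hr)).2

theorem reindexed_symm {ι : Type} [Fintype ι] [DecidableEq ι] (e : ι ≃ Fin n) {A : Matrix ι ι F}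
    (hA : Aᵀ = A) {S : GL (Fin n) F}
    (hS : (S : Matrix (Fin n) (Fin n) F) = A.submatrix e.symm e.symm) :
    (S : Matrix (Fin n) (Fin n) F)ᵀ = (S : Matrix (Fin n) (Fin n) F) := by
  rw [hS, transpose_submatrix, hA]

theorem odd_dim [Fintype F] (hn : 3 ≤ n) {m : ℕ} (hnm : n = 2 * m + 1)
    (γ γ' : MulAut (PSL n F)) (hγ : Cfsg.IsGraphAutClassPSL γ) (hγ2 : orderOf γ = 2)
    (hγ' : Cfsg.IsGraphAutClassPSL γ') (hγ'2 : orderOf γ' = 2) :
    Nonempty (↥(Cfsg.inndiagPSL n F ⊓ Subgroup.centralizer {γ}) ≃*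
      Cfsg.PGO F (Cfsg.quadFormOdd m F)) ∧ Cfsg.IsConjUnder (Cfsg.inndiagPSL n F) γ γ' := by
  obtain ⟨-, S, rfl, hS⟩ := exists_graphAut hγ hγ2
  obtain ⟨-, S', rfl, hS'⟩ := exists_graphAut hγ' hγ'2
  have hodd : ¬ Even n := by rw [hnm, Nat.not_even_iff_odd]; exact odd_two_mul_add_one m
  by_cases h2 : (2 : F) = 0
  · haveI : CharP F 2 := CharTwo.of_one_ne_zero_of_two_eq_zero one_ne_zero h2
    have key : ∀ X : GL (Fin n) F, ((X : Matrix (Fin n) (Fin n) F)ᵀ = (X : Matrix (Fin n) (Fin n) F) ∨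
        (X : Matrix (Fin n) (Fin n) F)ᵀ = -(X : Matrix (Fin n) (Fin n) F)) →
        SimForm (X : Matrix (Fin n) (Fin n) F) ((1 : GL (Fin n) F) : Matrix (Fin n) (Fin n) F) :=
      fun X hX => by
        rw [Units.val_one]
        exact simForm_one_charTwo X (hX.elim id skew_eq_self_charTwo)
          fun h => hodd (even_of_isAlt X h)
    refine ⟨?_, ClassSplit.isConjUnder_trans (isConjUnder_of_simForm hn (key S hS))
      (ClassSplit.isConjUnder_symm (isConjUnder_of_simForm hn (key S' hS')))⟩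
    obtain ⟨a⟩ := cent_equiv_of_isConjUnder (by omega) (isConjUnder_of_simForm hn (key S hS))
    obtain ⟨b⟩ := graph_cent_equiv hn (Equiv.refl (Fin n)) (1 : Matrix (Fin n) (Fin n) F) 1
      (by simp) _ rfl
    haveI : Nonempty (Fin n) := ⟨⟨0, by omega⟩⟩
    obtain ⟨c⟩ := projQuot_formSim_charTwo (A := (1 : Matrix (Fin n) (Fin n) F)) one_ne_zero
    obtain ⟨d⟩ := formStab_one_odd (F := F) hnm
    obtain ⟨x⟩ := projQuot_quad_charTwo (Q := Quad.qOdd m F) (v₀ := Sum.elim (fun _ => 1) 0)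
      (by simp [Quad.coe_qOdd, Cfsg.quadFormOdd])
    obtain ⟨y⟩ := OddTwo.isometryGroup_odd_equiv_symplectic (F := F) (m := m)
    rw [Quad.coe_qOdd] at x
    exact ⟨((((a.trans b).trans c).trans d).trans y.symm).trans x.symm⟩
  · let e : (Unit ⊕ (Fin m ⊕ Fin m)) ≃ Fin n := Fintype.equivFinOfCardEq (by simp; omega)
    obtain ⟨T, hT⟩ := exists_reindexed e (det_qGram_ne_zero (Quad.qOdd_nondeg (F := F) h2 m))
    have hTs := reindexed_symm e (transpose_qGram _) hT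
    have key : ∀ X : GL (Fin n) F, ((X : Matrix (Fin n) (Fin n) F)ᵀ = (X : Matrix (Fin n) (Fin n) F) ∨
        (X : Matrix (Fin n) (Fin n) F)ᵀ = -(X : Matrix (Fin n) (Fin n) F)) →
        SimForm (T : Matrix (Fin n) (Fin n) F) (X : Matrix (Fin n) (Fin n) F) := fun X hX => by
      rcases hX with hX | hX
      · exact simForm_symm_odd h2 (Nat.not_even_iff_odd.1 hodd) X T hX hTs
      · exact absurd (even_of_isAlt X (isAlt_of_skew h2 hX)) hodd
    refine ⟨cent_equiv_of_simForm hn e hT (key S hS) ?_,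
      ClassSplit.isConjUnder_trans (ClassSplit.isConjUnder_symm (isConjUnder_of_simForm hn (key S hS)))
        (isConjUnder_of_simForm hn (key S' hS'))⟩
    rw [← formSim_qGram h2, Quad.coe_qOdd]

theorem even_dim_odd_q [Fintype F] (hodd : Odd (Fintype.card F)) {m : ℕ} (hm : 2 ≤ m)
    (hnm : n = 2 * m) :
    ∃ (γ₁ γ₂ γ₃ : MulAut (PSL n F)) (a b : F),
      (∀ z₁ z₂ : F, z₁ ^ 2 + a * z₁ * z₂ + b * z₂ ^ 2 = 0 → z₁ = 0 ∧ z₂ = 0) ∧
      Cfsg.IsGraphAutClassPSL γ₁ ∧ orderOf γ₁ = 2 ∧ Cfsg.IsGraphAutClassPSL γ₂ ∧ orderOf γ₂ = 2 ∧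
      Cfsg.IsGraphAutClassPSL γ₃ ∧ orderOf γ₃ = 2 ∧
      ¬ Cfsg.IsConjUnder (Cfsg.inndiagPSL n F) γ₁ γ₂ ∧
      ¬ Cfsg.IsConjUnder (Cfsg.inndiagPSL n F) γ₁ γ₃ ∧
      ¬ Cfsg.IsConjUnder (Cfsg.inndiagPSL n F) γ₂ γ₃ ∧
      (∀ γ : MulAut (PSL n F), Cfsg.IsGraphAutClassPSL γ → orderOf γ = 2 →
        Cfsg.IsConjUnder (Cfsg.inndiagPSL n F) γ₁ γ ∨ Cfsg.IsConjUnder (Cfsg.inndiagPSL n F) γ₂ γ ∨
          Cfsg.IsConjUnder (Cfsg.inndiagPSL n F) γ₃ γ) ∧
      Nonempty (↥(Cfsg.inndiagPSL n F ⊓ Subgroup.centralizer {γ₁}) ≃* Cfsg.PGSp m F) ∧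
      Nonempty (↥(Cfsg.inndiagPSL n F ⊓ Subgroup.centralizer {γ₂}) ≃*
        Cfsg.PGO F (Cfsg.quadFormPlus m F)) ∧
      Nonempty (↥(Cfsg.inndiagPSL n F ⊓ Subgroup.centralizer {γ₃}) ≃*
        Cfsg.PGO F (Cfsg.quadFormMinus (m - 1) F a b)) := by
  have hn : 3 ≤ n := by omega
  have h2 := two_ne_zero_of_odd_card hodd
  obtain ⟨k, rfl⟩ : ∃ k, m = k + 1 := ⟨m - 1, by omega⟩
  obtain ⟨a, b, hab⟩ := Quad.exists_anisotropic_binary (F := F) h2
  let eJ : (Fin (k + 1) ⊕ Fin (k + 1)) ≃ Fin n := Fintype.equivFinOfCardEq (by simp; omega)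
  let eM : ((Fin k ⊕ Fin k) ⊕ Fin 2) ≃ Fin n := Fintype.equivFinOfCardEq (by simp; omega)
  obtain ⟨J, hJ⟩ := exists_reindexed eJ (Symp.det_J_ne_zero (k + 1) F)
  obtain ⟨P, hP⟩ := exists_reindexed eJ (det_qGram_ne_zero (Quad.qPlus_nondeg (F := F) (k + 1)))
  obtain ⟨M, hM⟩ := exists_reindexed eM (det_qGram_ne_zero (Quad.qMinus_nondeg hab k))
  have hJa : IsAltMat (J : Matrix (Fin n) (Fin n) F) := by
    rw [hJ]; exact isAltMat_submatrix _ (isAltMat_J _)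
  have hJs : (J : Matrix (Fin n) (Fin n) F)ᵀ = -(J : Matrix (Fin n) (Fin n) F) := by
    rw [hJ, transpose_submatrix, Matrix.J_transpose]; rfl
  have hPs := reindexed_symm eJ (transpose_qGram _) hP
  have hMs := reindexed_symm eM (transpose_qGram _) hM
  have hPM : ¬ IsSquare ((P : Matrix (Fin n) (Fin n) F).det * (M : Matrix (Fin n) (Fin n) F).det) := by
    rw [hP, hM, det_submatrix_equiv_self, det_submatrix_equiv_self, det_qPlus_qMinus]
    exact discr_nonsquare h2 hab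
  refine ⟨graphAut J, graphAut P, graphAut M, a, b, hab, (graphAut_class hn J (.inr hJs)).1,
    (graphAut_class hn J (.inr hJs)).2, (graphAut_class hn P (.inl hPs)).1,
    (graphAut_class hn P (.inl hPs)).2, (graphAut_class hn M (.inl hMs)).1,
    (graphAut_class hn M (.inl hMs)).2, ?_, ?_, ?_, ?_, ?_, ?_, ?_⟩
  · rw [isConjUnder_graphAut_iff hn]
    exact fun h => not_isAlt_of_symm h2 (by omega) P hPs (h.isAlt hJa)
  · rw [isConjUnder_graphAut_iff hn]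
    exact fun h => not_isAlt_of_symm h2 (by omega) M hMs (h.isAlt hJa)
  · rw [isConjUnder_graphAut_iff hn]
    intro h
    refine hPM ?_
    rw [mul_comm]
    exact h.isSquare_det ⟨k + 1, by omega⟩
  · intro γ hγ hγ2
    obtain ⟨-, S, rfl, hS | hS⟩ := exists_graphAut hγ hγ2
    · rcases classify_symm_even h2 (by omega) S P M hS hPs hMs hPM with h | h
      · exact Or.inr (Or.inl (isConjUnder_of_simForm hn h))
      · exact Or.inr (Or.inr (isConjUnder_of_simForm hn h))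
    · exact Or.inl (isConjUnder_of_simForm hn (simForm_alt S J (isAlt_of_skew h2 hS) hJa))
  · exact graph_cent_equiv hn eJ _ J hJ _ (formSim_J _)
  · refine graph_cent_equiv hn eJ _ P hP _ ?_
    rw [← formSim_qGram h2, Quad.coe_qPlus]
  · refine graph_cent_equiv hn eM _ M hM _ ?_
    rw [← formSim_qGram h2, Quad.coe_qMinus]
    rfl

theorem even_dim_even_q [Fintype F] [CharP F 2] {m : ℕ} (hm : 2 ≤ m) (hnm : n = 2 * m) :
    ∃ (γ₁ γ₃ : MulAut (PSL n F)) (t : ↥(Matrix.symplecticGroup (Fin m) F)),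
      Cfsg.IsTransvection (t : Matrix (Fin m ⊕ Fin m) (Fin m ⊕ Fin m) F) ∧
      Cfsg.IsGraphAutClassPSL γ₁ ∧ orderOf γ₁ = 2 ∧ Cfsg.IsGraphAutClassPSL γ₃ ∧ orderOf γ₃ = 2 ∧
      ¬ Cfsg.IsConjUnder (Cfsg.inndiagPSL n F) γ₁ γ₃ ∧
      (∀ γ : MulAut (PSL n F), Cfsg.IsGraphAutClassPSL γ → orderOf γ = 2 →
        Cfsg.IsConjUnder (Cfsg.inndiagPSL n F) γ₁ γ ∨ Cfsg.IsConjUnder (Cfsg.inndiagPSL n F) γ₃ γ) ∧
      Nonempty (↥(Cfsg.inndiagPSL n F ⊓ Subgroup.centralizer {γ₁}) ≃*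
        ↥(Matrix.symplecticGroup (Fin m) F)) ∧
      Nonempty (↥(Cfsg.inndiagPSL n F ⊓ Subgroup.centralizer {γ₃}) ≃*
        ↥(Subgroup.centralizer ({t} : Set ↥(Matrix.symplecticGroup (Fin m) F)))) := by
  have hn : 3 ≤ n := by omega
  haveI : Nonempty (Fin n) := ⟨⟨0, by omega⟩⟩
  haveI : Nonempty (Fin m) := ⟨⟨0, by omega⟩⟩
  let eJ : (Fin m ⊕ Fin m) ≃ Fin n := Fintype.equivFinOfCardEq (by simp; omega)
  obtain ⟨J, hJ⟩ := exists_reindexed eJ (Symp.det_J_ne_zero m F)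
  have hJa : IsAltMat (J : Matrix (Fin n) (Fin n) F) := by
    rw [hJ]; exact isAltMat_submatrix _ (isAltMat_J _)
  have hJs : (J : Matrix (Fin n) (Fin n) F)ᵀ = -(J : Matrix (Fin n) (Fin n) F) := by
    rw [hJ, transpose_submatrix, Matrix.J_transpose]; rfl
  have h1s : ((1 : GL (Fin n) F) : Matrix (Fin n) (Fin n) F)ᵀ =
      ((1 : GL (Fin n) F) : Matrix (Fin n) (Fin n) F) := by simp
  have h1a : ¬ IsAltMat ((1 : GL (Fin n) F) : Matrix (Fin n) (Fin n) F) := fun h => by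
    simpa using h (Pi.single ⟨0, by omega⟩ 1)
  obtain ⟨t, ht, ⟨d⟩⟩ := formStab_one_even (n := n) (F := F) (m := m) (by omega) hnm
  refine ⟨graphAut J, graphAut 1, t, ht, (graphAut_class hn J (.inr hJs)).1,
    (graphAut_class hn J (.inr hJs)).2, (graphAut_class hn 1 (.inl h1s)).1,
    (graphAut_class hn 1 (.inl h1s)).2, ?_, ?_, ?_, ?_⟩
  · rw [isConjUnder_graphAut_iff hn]
    exact fun h => h1a (h.isAlt hJa)
  · intro γ hγ hγ2
    obtain ⟨-, S, rfl, hS⟩ := exists_graphAut hγ hγ2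
    by_cases ha : IsAltMat (S : Matrix (Fin n) (Fin n) F)
    · exact Or.inl (isConjUnder_of_simForm hn (simForm_alt S J ha hJa))
    · refine Or.inr (ClassSplit.isConjUnder_symm (isConjUnder_of_simForm hn ?_))
      rw [Units.val_one]
      exact simForm_one_charTwo S (hS.elim id skew_eq_self_charTwo) ha
  · obtain ⟨b⟩ := graph_cent_equiv hn eJ _ J hJ _ rfl
    obtain ⟨c⟩ := projQuot_formSim_charTwo (A := Matrix.J (Fin m) F) (fun h =>
      Symp.det_J_ne_zero m F (by rw [h]; exact Matrix.det_zero))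
    obtain ⟨x⟩ := formStab_J_equiv (F := F) m
    exact ⟨(b.trans c).trans x⟩
  · obtain ⟨b⟩ := graph_cent_equiv hn (Equiv.refl (Fin n)) (1 : Matrix (Fin n) (Fin n) F) 1
      (by simp) _ rfl
    obtain ⟨c⟩ := projQuot_formSim_charTwo (A := (1 : Matrix (Fin n) (Fin n) F)) one_ne_zero
    exact ⟨(b.trans c).trans d⟩

theorem inverse_transpose [Fintype F] (hodd : Odd (Fintype.card F)) {m : ℕ} (hm : 2 ≤ m)
    (hnm : n = 2 * m) (γ : MulAut (PSL n F)) (hγ : Cfsg.IsInverseTransposeAutPSL γ) :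
    (Even (n * (Fintype.card F - 1) / 4) →
      Nonempty (↥(Cfsg.inndiagPSL n F ⊓ Subgroup.centralizer {γ}) ≃*
        Cfsg.PGO F (Cfsg.quadFormPlus m F))) ∧
    (¬ Even (n * (Fintype.card F - 1) / 4) → ∃ a b : F,
      (∀ z₁ z₂ : F, z₁ ^ 2 + a * z₁ * z₂ + b * z₂ ^ 2 = 0 → z₁ = 0 ∧ z₂ = 0) ∧
      Nonempty (↥(Cfsg.inndiagPSL n F ⊓ Subgroup.centralizer {γ}) ≃*
        Cfsg.PGO F (Cfsg.quadFormMinus (m - 1) F a b))) := by
  have hn : 3 ≤ n := by omega
  have h2 := two_ne_zero_of_odd_card hodd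
  have hγ1 : γ = graphAut (1 : GL (Fin n) F) := by
    rw [(isInverseTransposeAutPSL_iff _).1 hγ, graphAut, map_one, one_mul]
  subst hγ1
  have h1s : ((1 : GL (Fin n) F) : Matrix (Fin n) (Fin n) F)ᵀ =
      ((1 : GL (Fin n) F) : Matrix (Fin n) (Fin n) F) := by simp
  have h1d : ((1 : GL (Fin n) F) : Matrix (Fin n) (Fin n) F).det = 1 := by simp
  have hpar : Even (n * (Fintype.card F - 1) / 4) ↔ IsSquare ((-1 : F) ^ m) := by
    rw [Quad.isSquare_neg_one_pow rfl hodd, (pow_mod_four_iff hodd m)]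
    obtain ⟨j, hj⟩ := hodd
    rw [hnm, hj, Nat.add_sub_cancel, show 2 * m * (2 * j) = m * j * 4 by ring,
      Nat.mul_div_cancel _ (by norm_num), Nat.even_mul,
      show (2 * j + 1) % 4 = 1 ↔ Even j by rw [Nat.even_iff]; omega]
  obtain ⟨k, rfl⟩ : ∃ k, m = k + 1 := ⟨m - 1, by omega⟩
  obtain ⟨a, b, hab⟩ := Quad.exists_anisotropic_binary (F := F) h2
  let eJ : (Fin (k + 1) ⊕ Fin (k + 1)) ≃ Fin n := Fintype.equivFinOfCardEq (by simp; omega)
  let eM : ((Fin k ⊕ Fin k) ⊕ Fin 2) ≃ Fin n := Fintype.equivFinOfCardEq (by simp; omega)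
  obtain ⟨P, hP⟩ := exists_reindexed eJ (det_qGram_ne_zero (Quad.qPlus_nondeg (F := F) (k + 1)))
  obtain ⟨M, hM⟩ := exists_reindexed eM (det_qGram_ne_zero (Quad.qMinus_nondeg hab k))
  have hdP : (P : Matrix (Fin n) (Fin n) F).det = (-1) ^ (k + 1) := by
    rw [hP, det_submatrix_equiv_self, qGram, Quad.det_gram_qPlus]
  constructor
  · intro h
    refine cent_equiv_of_simForm hn eJ hP (simForm_symm_of_det h2 (by omega) 1 P h1s
      (reindexed_symm eJ (transpose_qGram _) hP) ?_) ?_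
    · rw [h1d, one_mul, hdP]; exact hpar.1 h
    · rw [← formSim_qGram h2, Quad.coe_qPlus]
  · intro h
    refine ⟨a, b, hab, cent_equiv_of_simForm hn eM hM (simForm_symm_of_det h2 (by omega) 1 M h1s
      (reindexed_symm eM (transpose_qGram _) hM) ?_) ?_⟩
    · rw [h1d, one_mul, hM, det_submatrix_equiv_self]
      by_contra hns
      have hns' := (Quad.isSquare_mul_iff_not h2 (x := ((-1 : F) ^ (k + 1))) (by simp) hns).2
        (mt hpar.2 h)
      rw [qGram, Quad.det_gram_qMinus] at hns'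
      exact discr_nonsquare h2 hab (by
        rw [← det_qPlus_qMinus k, qGram, qGram, Quad.det_gram_qPlus, Quad.det_gram_qMinus]
        exact hns')
    · rw [← formSim_qGram h2, Quad.coe_qMinus]
      rfl

end CfsgLib.Known.AutPSL.Graph
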