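import Cfsg.Agent.Lib.Known.AutPSL.Main

/-!
# Classification and uniqueness of automorphisms of `PSL n F`
-/

set_option autoImplicit false

open Matrix

namespace CfsgLib.Known.AutPSL

variable {n : ℕ} {F : Type*} [Field F]

theorem P_bv_inj (hn : 2 ≤ n) {i j : Fin n} (hij : i ≠ j) {c d : F}
    (h : P (F := F) (bv i) (c • bv j) = P (bv i) (d • bv j)) : c = d := by
  rw [P_eq_iff hn (smul_bv_dot hij c) (smul_bv_dot hij d)] at h
  simpa [bv, vecMulVec_apply] using congrFun (congrFun h i) j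

theorem P_bv_commutator {i j k : Fin n} (hij : i ≠ j) (hjk : j ≠ k) (hik : i ≠ k) (c d : F) :
    P (F := F) (bv i) (c • bv j) * P (bv j) (d • bv k) * (P (bv i) (c • bv j))⁻¹ *
      (P (bv j) (d • bv k))⁻¹ = P (bv i) ((c * d) • bv k) := by
  rw [P_commutator (smul_bv_dot hij c) (smul_bv_dot hjk d) (smul_bv_dot hik d), smul_smul]
  simp [bv]

variable [Fintype F]

/-- The diagonal matrix with entries `d`. -/
noncomputable def diagGL (d : Fin n → F) (hd : ∀ i, d i ≠ 0) : GL (Fin n) F :=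
  GeneralLinearGroup.mkOfDetNeZero (Matrix.diagonal d)
    (by rw [Matrix.det_diagonal]; exact Finset.prod_ne_zero_iff.2 fun i _ => hd i)

omit [Fintype F] in
theorem diag_semilin_P (d : Fin n → F) (hd : ∀ i, d i ≠ 0) (h : GL (Fin n) F)
    (hh : (h : Matrix (Fin n) (Fin n) F) = Matrix.diagonal d) (σ : F ≃+* F) {i j : Fin n}
    (hij : i ≠ j) (c : F) :
    semilin h σ (P (bv i) (c • bv j)) = P (bv i) ((d i / d j * σ c) • bv j) := by
  have hinv : ((h⁻¹ : GL (Fin n) F) : Matrix (Fin n) (Fin n) F) = Matrix.diagonal fun k => (d k)⁻¹ := by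
    refine (left_inv_eq_right_inv (a := (h : Matrix (Fin n) (Fin n) F)) ?_ (Units.mul_inv h)).symm
    rw [hh, diagonal_mul_diagonal, ← diagonal_one]
    congr 1
    funext k
    exact inv_mul_cancel₀ (hd k)
  rw [semilin_P, hh, hinv]
  have h1 : Matrix.diagonal d *ᵥ (⇑σ ∘ bv i) = d i • bv i := by
    funext k
    rw [mulVec_diagonal]
    rcases eq_or_ne k i with rfl | hk
    · simp [bv]
    · simp [bv, hk]
  have h2 : (⇑σ ∘ (c • bv j)) ᵥ* (Matrix.diagonal fun k => (d k)⁻¹) = ((d j)⁻¹ * σ c) • bv j := by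
    funext k
    rw [vecMul_diagonal]
    rcases eq_or_ne k j with rfl | hk
    · simp [bv]; ring
    · simp [bv, hk]
  rw [h1, h2, P_smul_left _ _ _ (smul_bv_dot hij _), smul_smul, div_eq_mul_inv, mul_assoc]

theorem framed_eq_of_three (hn : 3 ≤ n) (β : MulAut (PSL n F)) (hβ : Framed β) :
    ∃ (g : GL (Fin n) F) (σ : F ≃+* F), β = semilin g σ := by
  classical
  have hn2 : 2 ≤ n := by omega
  haveI : Nonempty (Fin n) := ⟨⟨0, by omega⟩⟩
  choose! f hf using hβ
  have hinj : ∀ i j, i ≠ j → Function.Injective (f i j) := fun i j hij c d h => by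
    apply P_bv_inj hn2 hij
    apply β.injective
    rw [hf i j c hij, hf i j d hij, h]
  have hadd : ∀ i j c d, i ≠ j → f i j (c + d) = f i j c + f i j d := fun i j c d hij => by
    apply P_bv_inj hn2 hij
    rw [← hf i j _ hij, add_smul, ← P_mul_right (smul_bv_dot hij c) (smul_bv_dot hij d), map_mul,
      hf i j c hij, hf i j d hij, P_mul_right (smul_bv_dot hij _) (smul_bv_dot hij _), ← add_smul]
  have hmul : ∀ i j k c d, i ≠ j → j ≠ k → i ≠ k → f i k (c * d) = f i j c * f j k d :=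
    fun i j k c d hij hjk hik => by
      apply P_bv_inj hn2 hik
      rw [← hf i k _ hik, ← P_bv_commutator hij hjk hik c d, ← P_bv_commutator hij hjk hik,
        map_mul, map_mul, map_mul, map_inv, map_inv, hf i j c hij, hf j k d hjk]
  have hf0 : ∀ i j, i ≠ j → f i j 0 = 0 := fun i j hij => by
    have := hadd i j 0 0 hij
    rw [add_zero] at this
    linear_combination -this
  set lam : Fin n → Fin n → F := fun i j => f i j 1 with hlamdef
  have hlam0 : ∀ i j, i ≠ j → lam i j ≠ 0 := fun i j hij h =>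
    one_ne_zero (hinj i j hij (h.trans (hf0 i j hij).symm))
  have hlam : ∀ i j k, i ≠ j → j ≠ k → i ≠ k → lam i k = lam i j * lam j k :=
    fun i j k hij hjk hik => by
      have := hmul i j k 1 1 hij hjk hik
      rwa [mul_one] at this
  have hs1 : ∀ i j k c, i ≠ j → j ≠ k → i ≠ k → f i k c / lam i k = f i j c / lam i j :=
    fun i j k c hij hjk hik => by
      have := hmul i j k c 1 hij hjk hik
      rw [mul_one] at this
      rw [this, hlam i j k hij hjk hik, mul_div_mul_right _ _ (hlam0 j k hjk)]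
  have hs2 : ∀ i j k c, i ≠ j → j ≠ k → i ≠ k → f i k c / lam i k = f j k c / lam j k :=
    fun i j k c hij hjk hik => by
      have := hmul i j k 1 c hij hjk hik
      rw [one_mul] at this
      rw [this, hlam i j k hij hjk hik, mul_div_mul_left _ _ (hlam0 i j hij)]
  have hs : ∀ c i j k l, i ≠ j → k ≠ l → f i j c / lam i j = f k l c / lam k l := fun c =>
    pair_const hn (fun i j => f i j c / lam i j)
      (fun i j k hij hik hjk => (hs1 i j k c hij hjk hik).symm)
      (fun i j k hij hkj hik => hs2 i k j c hik hkj hij)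
  obtain ⟨i₀, i₁, h01⟩ : ∃ a b : Fin n, a ≠ b :=
    ⟨⟨0, by omega⟩, ⟨1, by omega⟩, fun h => by simp at h⟩
  let σ0 : F →+* F :=
    { toFun := fun c => f i₀ i₁ c / lam i₀ i₁
      map_one' := div_self (hlam0 _ _ h01)
      map_zero' := by simp only [hf0 _ _ h01, zero_div]
      map_add' := fun c d => by simp only [hadd _ _ c d h01, add_div]
      map_mul' := fun c d => by
        obtain ⟨k, hk0, hk1⟩ := exists_ne_ne hn i₀ i₁
        show f i₀ i₁ (c * d) / lam i₀ i₁ = f i₀ i₁ c / lam i₀ i₁ * (f i₀ i₁ d / lam i₀ i₁)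
        conv_lhs => rw [hmul i₀ k i₁ c d hk0.symm hk1 h01, hlam i₀ k i₁ hk0.symm hk1 h01,
          ← div_mul_div_comm]
        rw [hs c i₀ k i₀ i₁ hk0.symm h01, hs d k i₁ i₀ i₁ hk1 h01] }
  let σ : F ≃+* F := RingEquiv.ofBijective σ0 (Finite.injective_iff_bijective.1 σ0.injective)
  have hfσ : ∀ i j c, i ≠ j → f i j c = lam i j * σ c := fun i j c hij => by
    show f i j c = lam i j * (f i₀ i₁ c / lam i₀ i₁)
    rw [← hs c i j i₀ i₁ hij h01, mul_div_cancel₀ _ (hlam0 i j hij)]
  -- the diagonal entries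
  have hback : ∀ i j, i ≠ j → lam i j * lam j i = 1 := fun i j hij => by
    obtain ⟨k, hki, hkj⟩ := exists_ne_ne hn i j
    have h1 := hlam k i j hki hij hkj
    have h2 := hlam k j i hkj hij.symm hki
    apply mul_left_cancel₀ (hlam0 k i hki)
    rw [mul_one, ← mul_assoc, ← h1, ← h2]
  set d : Fin n → F := fun i => if i = i₀ then 1 else lam i i₀ with hd
  have hd0 : ∀ i, d i ≠ 0 := fun i => by
    simp only [hd]; split_ifs with h
    · exact one_ne_zero
    · exact hlam0 i i₀ h
  refine ⟨diagGL d hd0, σ, aut_ext hn2 fun i j c hij => ?_⟩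
  rw [hf i j c hij, diag_semilin_P d hd0 _ rfl σ hij c, hfσ i j c hij]
  congr 3
  simp only [hd]
  split_ifs with h1 h2 h2
  · exact absurd (h1.trans h2.symm) hij
  · subst h1
    rw [eq_div_iff (hlam0 j i h2), hback i j hij]
  · subst h2
    rw [div_one]
  · rw [eq_div_iff (hlam0 j i₀ h2), ← hlam i j i₀ hij h2 h1]

theorem two_core (β : MulAut (PSL 2 F)) (f h : F → F)
    (hf : ∀ c, β (P (bv 0) (c • bv 1)) = P (bv 0) (f c • bv 1))
    (hh : ∀ c, β (P (bv 1) (c • bv 0)) = P (bv 1) (h c • bv 0)) (hf1 : f 1 = 1) :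
    ∃ σ : F ≃+* F, (∀ c, f c = σ c) ∧ ∀ c, h c = σ c := by
  classical
  have h01 : (0 : Fin 2) ≠ 1 := zero_ne_one
  -- the product `x₁₂(a) x₂₁(b) x₁₂(a)` and its action
  let M : F → F → GL (Fin 2) F := fun a b =>
    Matrix.SpecialLinearGroup.toGL
      (tvSL (bv 0) (a • bv 1) (smul_bv_dot h01 a) * tvSL (bv 1) (b • bv 0) (smul_bv_dot h01.symm b) *
        tvSL (bv 0) (a • bv 1) (smul_bv_dot h01 a))
  have hconj : ∀ a b x : F, P (n := 2) (bv 0) (a • bv 1) * P (bv 1) (b • bv 0) * P (bv 0) (a • bv 1) *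
      P (bv 0) (x • bv 1) * (P (bv 0) (a • bv 1) * P (bv 1) (b • bv 0) * P (bv 0) (a • bv 1))⁻¹ =
      P (((M a b : GL (Fin 2) F) : Matrix (Fin 2) (Fin 2) F) *ᵥ bv 0)
        ((x • bv 1) ᵥ* (((M a b)⁻¹ : GL (Fin 2) F) : Matrix (Fin 2) (Fin 2) F)) := by
    intro a b x
    rw [P_of (smul_bv_dot h01 a), P_of (smul_bv_dot h01.symm b), ← map_mul, ← map_mul,
      ← MulAut.conj_apply, conj_eq_semilin, semilin_P]
    rfl
  have hMv : ∀ a b, ((M a b : GL (Fin 2) F) : Matrix (Fin 2) (Fin 2) F) *ᵥ bv 0 = ![1 + a * b, b] := by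
    intro a b
    show ((1 + vecMulVec (bv 0) (a • bv 1)) * (1 + vecMulVec (bv 1) (b • bv 0)) *
      (1 + vecMulVec (bv 0) (a • bv 1))) *ᵥ bv 0 = _
    ext i
    fin_cases i <;>
      simp [bv, Matrix.mul_apply, Fin.sum_univ_two, Matrix.mulVec, dotProduct, vecMulVec_apply,
        Matrix.one_apply]
  -- for `1 + a b = 0` the conjugate is in the opposite root group
  have hswap : ∀ a b x, 1 + a * b = 0 →
      P (((M a b : GL (Fin 2) F) : Matrix (Fin 2) (Fin 2) F) *ᵥ bv 0)
        ((x • bv 1) ᵥ* (((M a b)⁻¹ : GL (Fin 2) F) : Matrix (Fin 2) (Fin 2) F)) =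
        P (bv 1) ((-(x * b ^ 2)) • bv 0) := by
    intro a b x hab
    have hinv : (((M a b)⁻¹ : GL (Fin 2) F) : Matrix (Fin 2) (Fin 2) F) = !![0, -a; -b, 0] := by
      refine Units.inv_eq_of_mul_eq_one_right ?_
      show ((1 + vecMulVec (bv 0) (a • bv 1)) * (1 + vecMulVec (bv 1) (b • bv 0)) *
        (1 + vecMulVec (bv 0) (a • bv 1))) * !![0, -a; -b, 0] = 1
      have hba : b * a = -1 := by linear_combination hab
      have e0 : (1 + vecMulVec (bv 0 : Fin 2 → F) (a • bv 1)) = !![1, a; 0, 1] := by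
        ext i j; fin_cases i <;> fin_cases j <;> simp [bv, vecMulVec_apply]
      have e1 : (1 + vecMulVec (bv 1 : Fin 2 → F) (b • bv 0)) = !![1, 0; b, 1] := by
        ext i j; fin_cases i <;> fin_cases j <;> simp [bv, vecMulVec_apply]
      rw [e0, e1, Matrix.mul_fin_two, Matrix.mul_fin_two, Matrix.mul_fin_two]
      ext i j
      fin_cases i <;> fin_cases j <;> simp <;> grind
    rw [hMv, hinv, hab, show (![0, b] : Fin 2 → F) = b • bv 1 from by
      funext i; fin_cases i <;> simp [bv]]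
    rw [show (x • bv 1 : Fin 2 → F) ᵥ* !![0, -a; -b, 0] = (-(x * b)) • bv 0 from by
      funext i; fin_cases i <;> simp [bv, vecMul, dotProduct, Fin.sum_univ_two]]
    rw [P_smul_left _ _ _ (smul_bv_dot h01.symm _), smul_smul]
    congr 2
    ring
  have hinjf : Function.Injective f := fun c d hcd => by
    apply P_bv_inj le_rfl h01
    apply β.injective
    rw [hf, hf, hcd]
  have hadd : ∀ c d, f (c + d) = f c + f d := fun c d => by
    apply P_bv_inj le_rfl h01
    rw [← hf, add_smul, ← P_mul_right (smul_bv_dot h01 c) (smul_bv_dot h01 d), map_mul, hf, hf,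
      P_mul_right (smul_bv_dot h01 _) (smul_bv_dot h01 _), ← add_smul]
  have hf0 : f 0 = 0 := by
    have := hadd 0 0
    rw [add_zero] at this
    linear_combination -this
  have hneg : ∀ c, f (-c) = -f c := fun c => by
    rw [← add_eq_zero_iff_eq_neg, ← hadd, neg_add_cancel, hf0]
  have main : ∀ a b, 1 + a * b = 0 → (1 + f a * h b = 0) ∧ ∀ x, h (-(x * b ^ 2)) = -(f x * (h b) ^ 2) := by
    intro a b hab
    have key : ∀ x, P (((M (f a) (h b) : GL (Fin 2) F) : Matrix (Fin 2) (Fin 2) F) *ᵥ bv 0)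
        ((f x • bv 1) ᵥ* (((M (f a) (h b))⁻¹ : GL (Fin 2) F) : Matrix (Fin 2) (Fin 2) F)) =
        P (bv 1) (h (-(x * b ^ 2)) • bv 0) := by
      intro x
      rw [← hh, ← hswap a b x hab, ← hconj, ← hconj]
      simp only [map_mul, map_inv, hf, hh]
    have h0 : 1 + f a * h b = 0 := by
      have hb : b ≠ 0 := fun h' => by simp [h'] at hab
      have hk := key 1
      have hd : ((f 1 • bv 1) ᵥ* (((M (f a) (h b))⁻¹ : GL (Fin 2) F) : Matrix (Fin 2) (Fin 2) F)) ⬝ᵥ
          (((M (f a) (h b) : GL (Fin 2) F) : Matrix (Fin 2) (Fin 2) F) *ᵥ bv 0) = 0 := by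
        rw [← dotProduct_mulVec, mulVec_mulVec, Units.inv_mul, one_mulVec]
        exact smul_bv_dot h01 _
      rw [P_eq_iff le_rfl hd (smul_bv_dot h01.symm _)] at hk
      have hne : (f 1 • bv 1) ᵥ* (((M (f a) (h b))⁻¹ : GL (Fin 2) F) : Matrix (Fin 2) (Fin 2) F) ≠ 0 := by
        intro h'
        have := congrArg (fun v => v ᵥ* ((M (f a) (h b) : GL (Fin 2) F) : Matrix (Fin 2) (Fin 2) F)) h'
        simp only [vecMul_vecMul, Units.inv_mul, vecMul_one, zero_vecMul, hf1, one_smul] at this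
        exact bv_ne_zero _ this
      have hne' : ((M (f a) (h b) : GL (Fin 2) F) : Matrix (Fin 2) (Fin 2) F) *ᵥ bv 0 ≠ 0 := by
        intro h'
        have := congrArg (fun v => (((M (f a) (h b))⁻¹ : GL (Fin 2) F) : Matrix (Fin 2) (Fin 2) F) *ᵥ v) h'
        simp only [mulVec_mulVec, Units.inv_mul, one_mulVec, mulVec_zero] at this
        exact bv_ne_zero _ this
      obtain ⟨⟨z, hz⟩, -⟩ := vecMulVec_eq_iff_par hne' hne hk
      have hz0 := congrFun hz 0
      rw [hMv] at hz0
      simp [bv] at hz0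
      rcases hz0 with hz0 | hz0
      · subst hz0
        exact absurd (by rw [hz, zero_smul]) (bv_ne_zero (F := F) (1 : Fin 2))
      · exact hz0
    refine ⟨h0, fun x => P_bv_inj le_rfl h01.symm ?_⟩
    rw [← key x, hswap _ _ _ h0]
  -- `h = f`
  have hhf : ∀ c, h c = f c := by
    intro c
    obtain ⟨h0, hx⟩ := main 1 (-1) (by ring)
    rw [hf1, one_mul, add_eq_zero_iff_eq_neg] at h0
    have hb : h (-1) = -1 := by linear_combination h0
    have := hx (-c)
    simpa [hb, hneg] using this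
  have hinv : ∀ a, a ≠ 0 → f a⁻¹ = (f a)⁻¹ := fun a ha => by
    obtain ⟨h0, -⟩ := main a (-a⁻¹) (by field_simp; ring)
    rw [hhf, hneg] at h0
    exact eq_inv_of_mul_eq_one_right (by linear_combination -h0)
  have hsq : ∀ b t, b ≠ 0 → f (t * b ^ 2) = f t * f b ^ 2 := fun b t hb => by
    obtain ⟨-, hx⟩ := main (-b⁻¹) b (by field_simp; ring)
    have := hx t
    rw [hhf, hhf, hneg] at this
    linear_combination -this
  have hsq' : ∀ b t, f (t * b ^ 2) = f t * f b ^ 2 := fun b t => by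
    rcases eq_or_ne b 0 with rfl | hb
    · simp [hf0]
    · exact hsq b t hb
  have hmul : ∀ s t, f (s * t) = f s * f t := by
    intro s t
    by_cases h2 : (2 : F) = 0
    · haveI : CharP F 2 := CharTwo.of_one_ne_zero_of_two_eq_zero one_ne_zero h2
      haveI : PerfectRing F 2 := PerfectField.toPerfectRing 2
      obtain ⟨u, hu⟩ := surjective_frobenius F 2 t
      rw [frobenius_def] at hu
      have e := hsq' u s
      have e' := hsq' u 1
      rw [one_mul, hu, hf1, one_mul] at e'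
      rw [hu] at e
      rw [e, e']
    · have e1 := hsq' (s + t) 1
      have e2 := hsq' s 1
      have e3 := hsq' t 1
      rw [one_mul, hf1, one_mul] at e1 e2 e3
      rw [show (s + t) ^ 2 = (s * t + s * t) + (s ^ 2 + t ^ 2) by ring, hadd, hadd, hadd, hadd,
        e2, e3] at e1
      exact mul_left_cancel₀ h2 (by linear_combination e1)
  let σ0 : F →+* F :=
    { toFun := f, map_one' := hf1, map_mul' := hmul, map_zero' := hf0, map_add' := hadd }
  exact ⟨RingEquiv.ofBijective σ0 (Finite.injective_iff_bijective.1 hinjf), fun c => rfl, hhf⟩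

theorem framed_eq_of_two (β : MulAut (PSL 2 F)) (hβ : Framed β) :
    ∃ (g : GL (Fin 2) F) (σ : F ≃+* F), β = semilin g σ := by
  classical
  have h01 : (0 : Fin 2) ≠ 1 := zero_ne_one
  choose f hf using fun c => hβ 0 1 c h01
  choose h hh using fun c => hβ 1 0 c h01.symm
  have hl : f 1 ≠ 0 := by
    intro h0
    have := hf 1
    rw [h0, zero_smul, P_zero_right, EmbeddingLike.map_eq_one_iff, one_smul,
      P_eq_one_iff le_rfl (bv_dot_bv h01)] at this
    exact this.elim (bv_ne_zero _) (bv_ne_zero _)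
  set l := f 1 with hlf
  have hd : ∀ i : Fin 2, (![l⁻¹, 1] : Fin 2 → F) i ≠ 0 := fun i => by fin_cases i <;> simp [hl]
  set D := diagGL ![l⁻¹, 1] hd
  obtain ⟨σ, hσf, hσh⟩ := two_core (semilin D (RingEquiv.refl F) * β) (fun c => l⁻¹ * f c)
    (fun c => l * h c)
    (fun c => by rw [MulAut.mul_apply, hf, diag_semilin_P _ hd D rfl _ h01]; simp)
    (fun c => by rw [MulAut.mul_apply, hh, diag_semilin_P _ hd D rfl _ h01.symm]; simp)
    (inv_mul_cancel₀ hl)
  have hd' : ∀ i : Fin 2, (![l, 1] : Fin 2 → F) i ≠ 0 := fun i => by fin_cases i <;> simp [hl]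
  refine ⟨diagGL ![l, 1] hd', σ, aut_ext le_rfl fun i j c hij => ?_⟩
  rw [diag_semilin_P _ hd' _ rfl σ hij c]
  fin_cases i <;> fin_cases j
  · exact absurd rfl hij
  · show β (P (bv 0) (c • bv 1)) = _
    rw [hf, ← hσf c]
    simp [mul_inv_cancel_left₀ hl]
  · show β (P (bv 1) (c • bv 0)) = _
    rw [hh, ← hσh c]
    simp [inv_mul_cancel_left₀ hl]
  · exact absurd rfl hij

theorem semilin_mul_inv_left (h : GL (Fin n) F) (β : MulAut (PSL n F)) (g : GL (Fin n) F)
    (σ : F ≃+* F) (hβ : semilin h (RingEquiv.refl F) * β = semilin g σ) :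
    ∃ g' : GL (Fin n) F, β = semilin g' σ := by
  refine ⟨glMap (RingEquiv.refl F).symm h⁻¹ * glMap (RingEquiv.refl F).symm g, ?_⟩
  rw [eq_inv_mul_of_mul_eq hβ, semilin_inv, semilin_mul]
  rfl

/-- **The automorphisms of `PSL n F`.** -/
theorem exists_eq_semilin (hn : 2 ≤ n) (β : MulAut (PSL n F)) :
    ∃ (g : GL (Fin n) F) (σ : F ≃+* F),
      β = semilin g σ ∨ (3 ≤ n ∧ β = semilin g σ * iota) := by
  rcases Nat.lt_or_ge n 3 with h3 | h3
  · obtain rfl : n = 2 := by omega
    obtain ⟨h, hh⟩ := exists_framed_two β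
    obtain ⟨g, σ, hg⟩ := framed_eq_of_two _ hh
    obtain ⟨g', hg'⟩ := semilin_mul_inv_left h β g σ hg
    exact ⟨g', σ, Or.inl hg'⟩
  · obtain ⟨h, hh | hh⟩ := exists_framed_three h3 β
    · obtain ⟨g, σ, hg⟩ := framed_eq_of_three h3 _ hh
      obtain ⟨g', hg'⟩ := semilin_mul_inv_left h β g σ hg
      exact ⟨g', σ, Or.inl hg'⟩
    · obtain ⟨g, σ, hg⟩ := framed_eq_of_three h3 _ hh
      obtain ⟨g', hg'⟩ := semilin_mul_inv_left h (iota * β) g σ hg
      refine ⟨glIota g', σ, Or.inr ⟨h3, ?_⟩⟩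
      rw [← iota_semilin, ← hg', ← mul_assoc, iota_iota, one_mul]

omit [Fintype F] in
/-- A semilinear automorphism is trivial only for a scalar. -/
theorem semilin_eq_one_iff (hn : 2 ≤ n) (g : GL (Fin n) F) (σ : F ≃+* F) :
    semilin g σ = 1 ↔ σ = RingEquiv.refl F ∧
      ∃ c : F, (g : Matrix (Fin n) (Fin n) F) = c • 1 := by
  classical
  constructor
  · intro h
    have hP : ∀ i j c, i ≠ j → P ((g : Matrix (Fin n) (Fin n) F) *ᵥ bv i)
        ((σ c • bv j) ᵥ* ((g⁻¹ : GL (Fin n) F) : Matrix (Fin n) (Fin n) F)) = P (bv i) (c • bv j) := by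
      intro i j c hij
      have := DFunLike.congr_fun h (P (bv i) (c • bv j))
      rw [semilin_P] at this
      rw [MulAut.one_apply] at this
      convert this using 2
      · congr 1
        funext k
        rcases eq_or_ne k i with rfl | hk <;> simp [bv, *]
      · congr 1
        funext k
        rcases eq_or_ne k j with rfl | hk <;> simp [bv, *]
    have hent : ∀ i j : Fin n, ∀ c : F, i ≠ j → ∀ x y : Fin n,
        (g : Matrix (Fin n) (Fin n) F) x i * (σ c * ((g⁻¹ : GL (Fin n) F) : Matrix (Fin n) (Fin n) F) j y) =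
          (if x = i then 1 else 0) * (if y = j then c else 0) := by
      intro i j c hij x y
      have hd : ((σ c • bv j) ᵥ* ((g⁻¹ : GL (Fin n) F) : Matrix (Fin n) (Fin n) F)) ⬝ᵥ
          ((g : Matrix (Fin n) (Fin n) F) *ᵥ bv i) = 0 := by
        rw [← dotProduct_mulVec, mulVec_mulVec, Units.inv_mul, one_mulVec, smul_bv_dot hij]
      have h' := congrFun (congrFun ((P_eq_iff hn hd (smul_bv_dot hij c)).1 (hP i j c hij)) x) y
      rw [vecMulVec_apply, vecMulVec_apply, smul_vecMul] at h'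
      simpa [bv, Pi.single_apply, mulVec_single_one, single_one_vecMul] using h'
    have hne : ∀ i : Fin n, ∃ j, i ≠ j := fun i => by
      haveI : Nontrivial (Fin n) := Fin.nontrivial_iff_two_le.2 hn
      obtain ⟨j, hj⟩ := exists_ne i
      exact ⟨j, hj.symm⟩
    have hoff : ∀ x i, x ≠ i → (g : Matrix (Fin n) (Fin n) F) x i = 0 := by
      intro x i hxi
      obtain ⟨j, hij⟩ := hne i
      by_contra hgx
      have h1 := hent i j 1 hij i j
      have h2 := hent i j 1 hij x j
      simp only [if_true, if_neg hxi, map_one, one_mul, zero_mul, mul_eq_zero] at h1 h2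
      rcases h2 with h2 | h2
      · exact hgx h2
      · rw [h2, mul_zero] at h1
        exact zero_ne_one h1
    have hpair : ∀ i j c, i ≠ j →
        (g : Matrix (Fin n) (Fin n) F) i i * σ c = c * (g : Matrix (Fin n) (Fin n) F) j j := by
      intro i j c hij
      have h1 := hent i j c hij i j
      simp only [if_true, one_mul] at h1
      have h2 : ((g⁻¹ : GL (Fin n) F) : Matrix (Fin n) (Fin n) F) j j * (g : Matrix (Fin n) (Fin n) F) j j = 1 := by
        have h3 := congrFun (congrFun (Units.inv_mul g) j) j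
        rw [Matrix.mul_apply, Matrix.one_apply_eq, Finset.sum_eq_single j
          (fun k _ hk => by rw [hoff k j hk, mul_zero]) (by simp)] at h3
        exact h3
      calc (g : Matrix (Fin n) (Fin n) F) i i * σ c
          = (g : Matrix (Fin n) (Fin n) F) i i * (σ c * ((g⁻¹ : GL (Fin n) F) : Matrix (Fin n) (Fin n) F) j j) *
              (g : Matrix (Fin n) (Fin n) F) j j := by rw [mul_assoc, mul_assoc, h2, mul_one]
        _ = _ := by rw [h1]
    have heq : ∀ i j, (g : Matrix (Fin n) (Fin n) F) i i = (g : Matrix (Fin n) (Fin n) F) j j := by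
      intro i j
      rcases eq_or_ne i j with rfl | hij
      · rfl
      · simpa using hpair i j 1 hij
    obtain ⟨j, hj⟩ := hne ⟨0, by omega⟩
    refine ⟨RingEquiv.ext fun c => ?_, (g : Matrix (Fin n) (Fin n) F) j j, ?_⟩
    · have hjj : (g : Matrix (Fin n) (Fin n) F) j j ≠ 0 := by
        intro h0
        have := hent j ⟨0, by omega⟩ 1 hj.symm j ⟨0, by omega⟩
        simp [h0] at this
      have := hpair _ j c hj
      rw [heq ⟨0, by omega⟩ j, mul_comm c] at this
      exact mul_left_cancel₀ hjj this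
    · ext x y
      rcases eq_or_ne x y with rfl | hxy
      · simp [heq x j]
      · simp [hoff x y hxy, hxy]
  · rintro ⟨rfl, c, hc⟩
    refine mulAut_ext fun s => ?_
    rw [semilin_proj, MulAut.one_apply]
    congr 1
    refine Subtype.ext ?_
    rw [coe_slConjHom, hc]
    have := congrArg (fun X => (s : Matrix (Fin n) (Fin n) F) * X) (Units.mul_inv g)
    simp only [hc, mul_one] at this
    simpa [smul_mul_assoc, mul_smul_comm] using this

omit [Fintype F] in
theorem semilin_ne_iota (hn : 3 ≤ n) (g : GL (Fin n) F) (σ : F ≃+* F) : semilin g σ ≠ iota := by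
  intro h
  obtain ⟨i, j, k, hij, hik, hjk⟩ : ∃ i j k : Fin n, i ≠ j ∧ i ≠ k ∧ j ≠ k :=
    ⟨⟨0, by omega⟩, ⟨1, by omega⟩, ⟨2, by omega⟩, by simp, by simp, by simp⟩
  have hv : ⇑σ ∘ bv i = (bv i : Fin n → F) := by
    funext k
    rcases eq_or_ne k i with rfl | hk <;> simp [bv, *]
  have key : ∀ l, i ≠ l → Par ((g : Matrix (Fin n) (Fin n) F) *ᵥ bv i) (bv l) := by
    intro l hl
    have hl' : ⇑σ ∘ bv l = (bv l : Fin n → F) := by
      funext k
      rcases eq_or_ne k l with rfl | hk <;> simp [bv, *]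
    have h1 := DFunLike.congr_fun h (P (bv i) (bv l))
    rw [semilin_P, iota_P, hv, hl'] at h1
    have hd : ((bv l : Fin n → F) ᵥ* ((g⁻¹ : GL (Fin n) F) : Matrix (Fin n) (Fin n) F)) ⬝ᵥ
        ((g : Matrix (Fin n) (Fin n) F) *ᵥ bv i) = 0 := by
      rw [← dotProduct_mulVec, mulVec_mulVec, Units.inv_mul, one_mulVec, bv_dot_bv hl]
    rw [P_eq_iff (by omega) hd (by rw [neg_dotProduct, bv_dot_bv hl.symm, neg_zero])] at h1
    refine (vecMulVec_eq_iff_par ?_ ?_ h1).1
    · intro h'
      have := congrArg (fun v => ((g⁻¹ : GL (Fin n) F) : Matrix (Fin n) (Fin n) F) *ᵥ v) h'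
      simp only [mulVec_mulVec, Units.inv_mul, one_mulVec, mulVec_zero] at this
      exact bv_ne_zero _ this
    · intro h'
      have := congrArg (fun v => v ᵥ* (g : Matrix (Fin n) (Fin n) F)) h'
      simp only [vecMul_vecMul, Units.inv_mul, vecMul_one, zero_vecMul] at this
      exact bv_ne_zero _ this
  exact not_par_bv hjk (((key j hij).symm (bv_ne_zero j)).trans (key k hik))

end CfsgLib.Known.AutPSL
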