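import Cfsg.Agent.Lib.Known.AutPSL.FieldClass

/-!
# Centralizers of prime order field and involutory graph-field automorphisms of `PSL n F`
-/

set_option autoImplicit false

open Matrix

namespace CfsgLib.Known.AutPSL

variable {n : ℕ} {F : Type*} [Field F] [Fintype F]

theorem innDiag_comm_graphField (hn : 3 ≤ n) (σ : F ≃+* F) (g : GL (Fin n) F) :
    innDiag n F g * (fieldHom n F σ * iota) = fieldHom n F σ * iota * innDiag n F g ↔
      ∃ c : F, (g : Matrix (Fin n) (Fin n) F) * ((g : Matrix (Fin n) (Fin n) F).map σ)ᵀ = c • 1 := by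
  haveI : Nonempty (Fin n) := ⟨⟨0, by omega⟩⟩
  have hl : innDiag n F g * (fieldHom n F σ * iota) = mkAut g σ true := by
    rw [mkAut_true, ← mul_assoc, fieldHom_apply, ← semilin_split]
  have hr : fieldHom n F σ * iota * innDiag n F g = mkAut (glMap σ (glIota g)) σ true := by
    rw [graphField_eq_mkAut, innDiag_apply, ← mkAut_false, mkAut_mul, if_pos rfl, one_mul,
      Bool.xor_false, show (RingEquiv.refl F).trans σ = σ from RingEquiv.ext fun _ => rfl]
  rw [hl, hr, mkAut_eq_iff (by omega) fun h => absurd h (by omega), coe_glMap]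
  set G := (g : Matrix (Fin n) (Fin n) F) with hG
  set G' := ((g⁻¹ : GL (Fin n) F) : Matrix (Fin n) (Fin n) F)
  change (σ = σ ∧ true = true ∧ ∃ c : F, G'ᵀ.map σ = c • G) ↔ _
  have hcan : G'ᵀ.map σ * (G.map σ)ᵀ = 1 := by
    rw [← Matrix.transpose_map, ← Matrix.map_mul, ← Matrix.transpose_mul, hG, Units.mul_inv,
      Matrix.transpose_one, Matrix.map_one _ (map_zero σ) (map_one σ)]
  have hcan' : (G.map σ)ᵀ * G'ᵀ.map σ = 1 := mul_eq_one_comm.1 hcan
  constructor
  · rintro ⟨-, -, c, hc⟩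
    have hc0 : c ≠ 0 := by
      rintro rfl
      rw [zero_smul] at hc
      rw [hc, zero_mul] at hcan
      exact zero_ne_one hcan
    refine ⟨c⁻¹, ?_⟩
    rw [← hcan, hc, smul_mul, inv_smul_smul₀ hc0]
  · rintro ⟨c, hc⟩
    have hc0 : c ≠ 0 := by
      rintro rfl
      rw [zero_smul] at hc
      have := congrArg (· * G'ᵀ.map σ) hc
      simp only [mul_assoc, hcan', mul_one, zero_mul] at this
      exact g.ne_zero this
    have := congrArg (· * G'ᵀ.map σ) hc
    simp only [mul_assoc, hcan', mul_one, smul_mul, one_mul] at this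
    exact ⟨rfl, rfl, c⁻¹, by rw [this, inv_smul_smul₀ hc0]⟩

theorem mem_cent_iff (z : MulAut (PSL n F)) (g : GL (Fin n) F) :
    g ∈ (Subgroup.centralizer {z}).comap (innDiag n F) ↔ innDiag n F g * z = z * innDiag n F g := by
  rw [Subgroup.mem_comap, Subgroup.mem_centralizer_singleton_iff]

/-- A projective group maps isomorphically onto a centralizer. -/
theorem cent_equiv_of_param {H : Type*} [Group H] (z : MulAut (PSL n F)) (Z : Subgroup H) [Z.Normal]
    (ψ : H →* GL (Fin n) F) (hmem : ∀ h, innDiag n F (ψ h) * z = z * innDiag n F (ψ h))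
    (hker : ∀ h, innDiag n F (ψ h) = 1 ↔ h ∈ Z)
    (hsurj : ∀ g, innDiag n F g * z = z * innDiag n F g → ∃ h, innDiag n F (ψ h) = innDiag n F g) :
    Nonempty (↥(Cfsg.inndiagPSL n F ⊓ Subgroup.centralizer {z}) ≃* H ⧸ Z) := by
  rw [inndiagPSL_eq]
  let Φ : H →* ↥((innDiag n F).range ⊓ Subgroup.centralizer {z}) :=
    ((innDiag n F).comp ψ).codRestrict _ fun h =>
      ⟨⟨ψ h, rfl⟩, Subgroup.mem_centralizer_singleton_iff.2 (hmem h)⟩
  have hΦ : Function.Surjective Φ := by
    rintro ⟨β, hβ, hc⟩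
    obtain ⟨g, rfl⟩ := hβ
    obtain ⟨h, hh⟩ := hsurj g (Subgroup.mem_centralizer_singleton_iff.1 hc)
    exact ⟨h, Subtype.ext hh⟩
  have hk : Φ.ker = Z := by
    ext h
    rw [MonoidHom.mem_ker, ← Subtype.coe_inj]
    exact hker h
  exact ⟨((QuotientGroup.quotientMulEquivOfEq hk.symm).trans
    (QuotientGroup.quotientKerEquivOfSurjective Φ hΦ)).symm⟩

/-- The data of the fixed field as an embedding. -/
theorem exists_fixed_embedding {p f r : ℕ} [Fact p.Prime] (hF : Fintype.card F = p ^ f) (hf : 1 ≤ f)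
    (σ : F ≃+* F) (hord : orderOf σ = r) (F₀ : Type*) [Field F₀] [Fintype F₀]
    (hF₀ : Fintype.card F₀ = p ^ (f / r)) :
    ∃ j : F₀ →+* F, ∀ a : F, σ a = a ↔ a ∈ j.range := by
  classical
  obtain ⟨-, hL⟩ := exists_fixed_field hF hf σ hord
  set L := σ.toRingHom.eqLocusField (RingHom.id F)
  haveI : Fintype L := Fintype.ofFinite L
  let e : F₀ ≃+* L := FiniteField.ringEquivOfCardEq (by rw [hF₀, ← hL, Nat.card_eq_fintype_card])
  refine ⟨L.subtype.comp e.toRingHom, fun a => ⟨fun ha => ⟨e.symm ⟨a, ha⟩, ?_⟩, ?_⟩⟩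
  · show (e (e.symm ⟨a, ha⟩) : F) = a
    rw [e.apply_symm_apply]
  · rintro ⟨b, rfl⟩
    exact (e b).2

/-- The centralizer of a standard field automorphism, and the determinants occurring in it. -/
theorem field_centralizer (hn : 2 ≤ n) (σ : F ≃+* F) {F₀ : Type*} [Field F₀] (j : F₀ →+* F)
    (hj : ∀ a : F, σ a = a ↔ a ∈ j.range) :
    Nonempty (↥(Cfsg.inndiagPSL n F ⊓ Subgroup.centralizer {fieldHom n F σ}) ≃*
      Matrix.ProjGenLinGroup (Fin n) F₀) ∧
    ((Subgroup.centralizer {fieldHom n F σ}).comap (innDiag n F)).map GeneralLinearGroup.det ⊔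
      (powMonoidHom n : Fˣ →* Fˣ).range =
        (Units.map (j : F₀ →* F)).range ⊔ (powMonoidHom n : Fˣ →* Fˣ).range := by
  classical
  haveI : Nonempty (Fin n) := ⟨⟨0, by omega⟩⟩
  let ψ : GL (Fin n) F₀ →* GL (Fin n) F := Units.map (RingHom.mapMatrix j).toMonoidHom
  have hψ : ∀ h, (ψ h : Matrix (Fin n) (Fin n) F) = (h : Matrix (Fin n) (Fin n) F₀).map j := fun _ => rfl
  have hmem : ∀ h, innDiag n F (ψ h) * fieldHom n F σ = fieldHom n F σ * innDiag n F (ψ h) := fun h =>
    (innDiag_comm_fieldHom _ σ hn).2 ⟨1, by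
      rw [one_smul, hψ]
      exact Matrix.ext fun a b => (hj _).2 ⟨_, rfl⟩⟩
  have hdec : ∀ g : GL (Fin n) F, innDiag n F g * fieldHom n F σ = fieldHom n F σ * innDiag n F g →
      ∃ (h : GL (Fin n) F₀) (a : Fˣ), g = GeneralLinearGroup.scalar (Fin n) a * ψ h := by
    intro g hg
    obtain ⟨c, hc⟩ := (innDiag_comm_fieldHom g σ hn).1 hg
    obtain ⟨i, k, hik⟩ : ∃ i k, (g : Matrix (Fin n) (Fin n) F) i k ≠ 0 := by
      by_contra hcon
      push Not at hcon
      exact g.ne_zero (Matrix.ext hcon)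
    set a := (g : Matrix (Fin n) (Fin n) F) i k with ha
    have hca : σ a = c * a := congrFun₂ hc i k
    have hfix : ∀ u v, (g : Matrix (Fin n) (Fin n) F) u v / a ∈ j.range := fun u v => by
      rw [← hj, map_div₀, hca, show σ ((g : Matrix (Fin n) (Fin n) F) u v) = _ from congrFun₂ hc u v]
      have hc0 : c ≠ 0 := fun h => by rw [h, zero_mul, map_eq_zero] at hca; exact hik hca
      rw [Matrix.smul_apply, smul_eq_mul, mul_div_mul_left _ _ hc0]
    choose m hm using hfix
    have hmap : (Matrix.of m).map j = a⁻¹ • (g : Matrix (Fin n) (Fin n) F) := by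
      ext u v
      simp [hm, div_eq_inv_mul]
    have hdet : IsUnit (Matrix.of m).det := by
      rw [isUnit_iff_ne_zero, ← map_ne_zero j, RingHom.map_det]
      show ((Matrix.of m).map j).det ≠ 0
      rw [hmap, Matrix.det_smul]
      exact mul_ne_zero (pow_ne_zero _ (inv_ne_zero hik)) (GeneralLinearGroup.det g).ne_zero
    refine ⟨GeneralLinearGroup.mk'' _ hdet, Units.mk0 a hik, Units.ext ?_⟩
    rw [Units.val_mul, hψ]
    show _ = _ * (Matrix.of m).map j
    rw [hmap]
    ext u v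
    simp [← mul_assoc, hik]
  refine ⟨?_, ?_⟩
  · refine cent_equiv_of_param _ (Subgroup.center (GL (Fin n) F₀)) ψ hmem (fun h => ?_) fun g hg => ?_
    · rw [innDiag_eq_one_iff hn, GeneralLinearGroup.center_eq_range_scalar, hψ]
      constructor
      · rintro ⟨c, hc⟩
        have i0 : Fin n := ⟨0, by omega⟩
        refine ⟨Units.mk0 ((h : Matrix (Fin n) (Fin n) F₀) i0 i0) ?_, Units.ext ?_⟩
        · intro h0
          have := congrFun₂ hc i0 i0
          simp [h0] at this
          apply h.ne_zero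
          ext u v
          have := congrFun₂ hc u v
          simp [← ‹0 = c›] at this ⊢
          exact this
        · ext u v
          apply j.injective
          have h1 := congrFun₂ hc u v
          have h2 := congrFun₂ hc i0 i0
          simp only [Matrix.map_apply, Matrix.smul_apply, Matrix.one_apply_eq, smul_eq_mul, mul_one] at h1 h2
          rw [h1]
          by_cases huv : u = v <;> simp [huv, h2, Matrix.one_apply]
      · rintro ⟨c, rfl⟩
        exact ⟨j c, by ext u v; by_cases huv : u = v <;> simp [huv]⟩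
    · obtain ⟨h, a, rfl⟩ := hdec g hg
      refine ⟨h, ?_⟩
      rw [map_mul (innDiag n F), (innDiag_eq_one_iff hn (GeneralLinearGroup.scalar (Fin n) a)).2
        ⟨a, by ext u v; by_cases huv : u = v <;> simp [huv]⟩, one_mul]
  · apply le_antisymm
    · refine sup_le ?_ le_sup_right
      rintro _ ⟨g, hg, rfl⟩
      obtain ⟨h, a, rfl⟩ := hdec g ((mem_cent_iff _ g).1 hg)
      rw [map_mul]
      refine Subgroup.mul_mem _ (Subgroup.mem_sup_right ⟨a, ?_⟩)
        (Subgroup.mem_sup_left ⟨GeneralLinearGroup.det h, Units.ext ?_⟩)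
      · exact Units.ext (by simp)
      · show j (h : Matrix (Fin n) (Fin n) F₀).det = ((h : Matrix (Fin n) (Fin n) F₀).map j).det
        exact RingHom.map_det j _
    · refine sup_le ?_ le_sup_right
      rintro _ ⟨u, rfl⟩
      obtain ⟨δ, hδ⟩ := exists_diag_det (F := F₀) (n := n) (by omega)
      refine Subgroup.mem_sup_left ⟨ψ (δ u), (mem_cent_iff _ _).2 (hmem _), Units.ext ?_⟩
      show ((δ u : Matrix (Fin n) (Fin n) F₀).map j).det = j u
      rw [show ((δ u : Matrix (Fin n) (Fin n) F₀).map j) = j.mapMatrix (δ u : Matrix (Fin n) (Fin n) F₀) from rfl,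
        ← RingHom.map_det]
      exact congrArg j (congrArg Units.val (hδ u))

/-- The units of a subfield as a range of powers. -/
theorem units_range_eq (F₀ : Type*) [Field F₀] [Fintype F₀] (j : F₀ →+* F) {E : ℕ}
    (hE : (Fintype.card F₀ - 1) * E = Fintype.card F - 1) :
    (Units.map (j : F₀ →* F)).range = (powMonoidHom E : Fˣ →* Fˣ).range := by
  classical
  have hcard : Nat.card Fˣ = Fintype.card F - 1 := CfsgLib.Classical.card_units_field
  rw [← ClassSplit.ker_pow_eq_range_pow (hcard ▸ hE)]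
  refine Subgroup.eq_of_le_of_card_ge ?_ ?_
  · rintro _ ⟨u, rfl⟩
    show Units.map (j : F₀ →* F) u ^ (Fintype.card F₀ - 1) = 1
    rw [← map_pow, show u ^ (Fintype.card F₀ - 1) = 1 from by
      rw [← CfsgLib.Classical.card_units_field (F := F₀)]; exact pow_card_eq_one', map_one]
  · rw [IsCyclic.card_powMonoidHom_ker, hcard, Nat.gcd_eq_right ⟨E, hE.symm⟩,
      ← Nat.card_congr (MonoidHom.ofInjective (Units.map_injective (f := (j : F₀ →* F)) j.injective)).toEquiv,
      CfsgLib.Classical.card_units_field]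

theorem index_sup_range_pow {E : ℕ} (hE : E ∣ Fintype.card F - 1) :
    ((powMonoidHom E : Fˣ →* Fˣ).range ⊔ (powMonoidHom n : Fˣ →* Fˣ).range).index = Nat.gcd n E := by
  rw [ClassSplit.range_pow_sup_range_pow, ClassSplit.index_range_pow,
    CfsgLib.Classical.card_units_field, Nat.gcd_comm E n]
  exact Nat.gcd_eq_right ((Nat.gcd_dvd_right n E).trans hE)

theorem field_full (hn : 2 ≤ n) {p f : ℕ} [Fact p.Prime] (hF : Fintype.card F = p ^ f) (hf : 1 ≤ f)
    (x : MulAut (PSL n F)) (hx : Cfsg.IsFieldAutClassPSL x) {r : ℕ} (hr : r.Prime) (hxr : orderOf x = r)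
    (F₀ : Type*) [Field F₀] [Fintype F₀] (hF₀ : Fintype.card F₀ = p ^ (f / r)) :
    r ∣ f ∧
    Nonempty (↥(Cfsg.inndiagPSL n F ⊓ Subgroup.centralizer {x}) ≃* Matrix.ProjGenLinGroup (Fin n) F₀) ∧
    Cfsg.splitClassCount (Cfsg.inndiagPSL n F) (Cfsg.Inn (PSL n F)) x =
      Nat.gcd n ((p ^ f - 1) / (p ^ (f / r) - 1)) := by
  obtain ⟨a, σ, hσ, hz⟩ := (isConj_fieldGraph (hn := hn) x).1 hx
  have hord : orderOf σ = r := by
    rw [← orderOf_fieldHom (n := n) hn, ← hz]
    exact ((MulAut.conj a).orderOf_eq x).trans hxr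
  obtain ⟨hdvd, -⟩ := exists_fixed_field hF hf σ hord
  obtain ⟨j, hj⟩ := exists_fixed_embedding hF hf σ hord F₀ hF₀
  obtain ⟨⟨e⟩, hdet⟩ := field_centralizer hn σ j hj
  haveI : (Cfsg.inndiagPSL n F).Normal := by rw [inndiagPSL_eq]; exact inndiag_normal hn
  refine ⟨hdvd, ?_, ?_⟩
  · obtain ⟨c⟩ := ClassSplit.nonempty_centralizer_conj (Cfsg.inndiagPSL n F) a x
    rw [hz] at c
    exact ⟨c.trans e⟩
  · rw [← ClassSplit.splitClassCount_conj _ _ a, hz, splitClassCount_eq hn _ _ hdet]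
    have hq : p ^ (f / r) - 1 ∣ p ^ f - 1 := by
      have := Nat.sub_dvd_pow_sub_pow (p ^ (f / r)) 1 r
      rwa [one_pow, ← pow_mul, Nat.div_mul_cancel hdvd] at this
    rw [units_range_eq F₀ j (E := (p ^ f - 1) / (p ^ (f / r) - 1))
      (by rw [hF₀, hF]; exact Nat.mul_div_cancel' hq)]
    refine index_sup_range_pow ?_
    rw [hF]
    exact Nat.div_dvd_of_dvd hq

end CfsgLib.Known.AutPSL
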