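import Cfsg.Agent.Lib.Known.AutPSL.Structure
import Cfsg.Agent.Lib.Known.Descent
import Cfsg.Agent.Lib.Known.ClassSplit

/-!
# Field and graph-field automorphisms of `PSL n F`
-/

set_option autoImplicit false

open Matrix

namespace CfsgLib.Known.AutPSL

variable {n : ℕ} {F : Type*} [Field F]

theorem semilin_one_mul (σ : F ≃+* F) (g : GL (Fin n) F) :
    semilin 1 σ * semilin g (RingEquiv.refl F) = semilin (glMap σ g) σ := by
  rw [semilin_mul, one_mul]
  rfl

theorem semilin_split (g : GL (Fin n) F) (σ : F ≃+* F) :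
    semilin g σ = innDiag n F g * semilin 1 σ := by
  rw [innDiag_apply, semilin_mul, map_one, mul_one]
  rfl

/-- Standard field automorphisms as a homomorphism. -/
def fieldHom (n : ℕ) (F : Type*) [Field F] : (F ≃+* F) →* MulAut (PSL n F) where
  toFun σ := semilin 1 σ
  map_one' := semilin_one
  map_mul' σ τ := by
    rw [semilin_mul, map_one, mul_one]
    rfl

theorem fieldHom_apply (σ : F ≃+* F) : fieldHom n F σ = semilin 1 σ := rfl

theorem fieldHom_injective (hn : 2 ≤ n) : Function.Injective (fieldHom n F) :=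
  (injective_iff_map_eq_one _).2 fun σ h => ((semilin_eq_one_iff hn 1 σ).1 h).1

theorem fieldHom_iota (σ : F ≃+* F) : Commute (fieldHom n F σ) iota := by
  have h : glIota (1 : GL (Fin n) F) = 1 := by
    apply Units.ext
    show ((((1 : GL (Fin n) F))⁻¹ : GL (Fin n) F) : Matrix (Fin n) (Fin n) F)ᵀ = 1
    rw [inv_one, Units.val_one, transpose_one]
  show semilin 1 σ * iota = iota * semilin 1 σ
  rw [iota_semilin, h]

theorem semilin_pow (g : GL (Fin n) F) (σ : F ≃+* F) (k : ℕ) :
    ∃ N : GL (Fin n) F, (N : Matrix (Fin n) (Fin n) F) =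
        Descent.normMat (g : Matrix (Fin n) (Fin n) F) σ k ∧
      semilin g σ ^ k = semilin N (σ ^ k) := by
  induction k with
  | zero => exact ⟨1, rfl, by rw [pow_zero, pow_zero]; exact semilin_one.symm⟩
  | succ k ih =>
    obtain ⟨N, hN, hp⟩ := ih
    refine ⟨g * glMap σ N, by rw [Units.val_mul, coe_glMap, hN]; rfl, ?_⟩
    rw [pow_succ', hp, semilin_mul, pow_succ' σ k]
    rfl

theorem glMap_one_iff (σ : F ≃+* F) (g : GL (Fin n) F) :
    glMap σ g = g ↔ (g : Matrix (Fin n) (Fin n) F).map σ = (g : Matrix (Fin n) (Fin n) F) :=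
  Units.ext_iff

theorem innDiag_comm_fieldHom (g : GL (Fin n) F) (σ : F ≃+* F) (hn : 2 ≤ n) :
    innDiag n F g * fieldHom n F σ = fieldHom n F σ * innDiag n F g ↔
      ∃ c : F, (g : Matrix (Fin n) (Fin n) F).map σ = c • (g : Matrix (Fin n) (Fin n) F) := by
  rw [innDiag_apply, fieldHom_apply, semilin_one_mul, ← innDiag_apply, ← semilin_split,
    ← mkAut_false, ← mkAut_false, mkAut_eq_iff hn (fun _ => ⟨rfl, rfl⟩)]
  simp

theorem isConj_fieldGraph {hn : 2 ≤ n} [Fintype F] (x : MulAut (PSL n F)) :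
    (Cfsg.IsFieldAutClassPSL x →
      ∃ (a : MulAut (PSL n F)) (σ : F ≃+* F), σ ≠ RingEquiv.refl F ∧ a * x * a⁻¹ = fieldHom n F σ) ∧
    (Cfsg.IsGraphFieldAutClassPSL x → 3 ≤ n ∧
      ∃ (a : MulAut (PSL n F)) (σ : F ≃+* F), σ ≠ RingEquiv.refl F ∧
        a * x * a⁻¹ = fieldHom n F σ * iota) := by
  refine ⟨?_, ?_⟩
  · rintro ⟨a, σ, hσ, h⟩
    exact ⟨a, σ, hσ, (isStdFieldAutPSL_iff σ _).1 h⟩
  · rintro ⟨h3, a, φ, γ, σ, hσ, hφ, hγ, h⟩
    exact ⟨h3, a, σ, hσ, by rw [h, (isStdFieldAutPSL_iff σ _).1 hφ, (isInverseTransposeAutPSL_iff _).1 hγ]; rfl⟩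

variable [Fintype F]

theorem mkAut_split (g : GL (Fin n) F) (σ : F ≃+* F) (e : Bool) :
    mkAut g σ e = innDiag n F g * fieldHom n F σ * (if e then iota else 1) := by
  rw [mkAut, semilin_split]
  rfl

theorem inndiag_normal (hn : 2 ≤ n) : ((innDiag n F).range).Normal := by
  obtain ⟨θ, hθ⟩ := exists_fieldGraph_hom (F := F) hn
  suffices h : (innDiag n F).range = θ.ker by rw [h]; infer_instance
  ext β
  constructor
  · rintro ⟨g, rfl⟩
    rw [MonoidHom.mem_ker, innDiag_apply, ← mkAut_false, hθ g _ _ (fun _ => rfl)]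
    rfl
  · intro hβ
    obtain ⟨g, σ, e, rfl, he⟩ := exists_mkAut hn β
    rw [MonoidHom.mem_ker, hθ g σ e he, Prod.mk_eq_one] at hβ
    obtain ⟨hσ, he'⟩ := hβ
    have : e = false := by
      cases e
      · rfl
      · exact absurd he' (by decide)
    subst this hσ
    exact ⟨g, (mkAut_false g _).symm⟩

theorem inn_le_inndiag : Cfsg.Inn (PSL n F) ≤ (innDiag n F).range := by
  rintro _ ⟨x, rfl⟩
  obtain ⟨s, rfl⟩ := proj_surjective x
  exact ⟨_, (conj_eq_semilin s).symm⟩

theorem comap_inn (hn : 2 ≤ n) :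
    (Cfsg.Inn (PSL n F)).comap (innDiag n F) =
      ((powMonoidHom n : Fˣ →* Fˣ).range).comap GeneralLinearGroup.det := by
  ext g
  rw [Subgroup.mem_comap, innDiag_apply, ← mkAut_false, mem_inn_iff hn _ _ _ (fun _ => rfl),
    Subgroup.mem_comap, MonoidHom.mem_range]
  simp [eq_comm]

/-- The number of classes in terms of determinants of the centralizer. -/
theorem splitClassCount_eq (hn : 2 ≤ n) (x : MulAut (PSL n F)) (D : Subgroup Fˣ)
    (hD : ((Subgroup.centralizer {x}).comap (innDiag n F)).map GeneralLinearGroup.det ⊔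
      (powMonoidHom n : Fˣ →* Fˣ).range = D) :
    Cfsg.splitClassCount (Cfsg.inndiagPSL n F) (Cfsg.Inn (PSL n F)) x = D.index := by
  haveI : Nonempty (Fin n) := ⟨⟨0, by omega⟩⟩
  rw [inndiagPSL_eq, ClassSplit.splitClassCount_eq_index _ _ inn_le_inndiag, comap_inn hn]
  have hker : (GeneralLinearGroup.det : GL (Fin n) F →* Fˣ).ker ≤
      (powMonoidHom n : Fˣ →* Fˣ).range.comap GeneralLinearGroup.det ⊔
        (Subgroup.centralizer {x}).comap (innDiag n F) := fun g hg =>
    Subgroup.mem_sup_left (Subgroup.mem_comap.2 (by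
      rw [MonoidHom.mem_ker.1 hg]; exact Subgroup.one_mem _))
  rw [ClassSplit.index_eq_index_map GeneralLinearGroup.det GeneralLinearGroup.det_surjective _ hker,
    Subgroup.map_sup, Subgroup.map_comap_eq_self_of_surjective GeneralLinearGroup.det_surjective,
    sup_comm, hD]

/-- The fixed field of an automorphism of order `r`. -/
theorem exists_fixed_field {p f r : ℕ} [Fact p.Prime] (hF : Fintype.card F = p ^ f) (hf : 1 ≤ f)
    (σ : F ≃+* F) (hord : orderOf σ = r) :
    r ∣ f ∧ Nat.card (σ.toRingHom.eqLocusField (RingHom.id F)) = p ^ (f / r) := by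
  classical
  haveI : Finite (F ≃+* F) := Finite.of_injective (fun τ => (τ : F → F)) DFunLike.coe_injective
  have hdvd : r ∣ f := hord ▸ (card_ringAut hF hf).1 ▸ orderOf_dvd_natCard σ
  refine ⟨hdvd, ?_⟩
  let act : MulSemiringAction (Subgroup.zpowers σ) F :=
    MulSemiringAction.compHom F (Subgroup.zpowers σ).subtype
  haveI : Fintype (Subgroup.zpowers σ) := Fintype.ofFinite _
  haveI : @FaithfulSMul (Subgroup.zpowers σ) F act.toSMul :=
    ⟨fun {a b} h => Subtype.ext (RingEquiv.ext h)⟩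
  have hrank := FixedPoints.finrank_eq_card (Subgroup.zpowers σ) F
  rw [Fintype.card_eq_nat_card, Nat.card_zpowers, hord] at hrank
  set L := FixedPoints.subfield (Subgroup.zpowers σ) F
  have hset : (L : Set F) = (σ.toRingHom.eqLocusField (RingHom.id F) : Set F) := by
    ext a
    refine ⟨fun h => h ⟨σ, Subgroup.mem_zpowers σ⟩, fun h τ => ?_⟩
    obtain ⟨τ, hτ⟩ := τ
    show τ a = a
    have h2 : Subgroup.zpowers σ ≤ MulAction.stabilizer (F ≃+* F) a :=
      Subgroup.zpowers_le.2 (show σ a = a from h)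
    exact h2 hτ
  have hL : Nat.card L = Nat.card (σ.toRingHom.eqLocusField (RingHom.id F)) :=
    Nat.card_congr (Equiv.setCongr hset)
  rw [← hL]
  have hc := Module.natCard_eq_pow_finrank (K := L) (V := F)
  rw [hrank, Nat.card_eq_fintype_card, hF] at hc
  obtain ⟨e, rfl⟩ := hdvd
  have hr : 0 < r := by
    rw [← hord]; exact orderOf_pos σ
  rw [Nat.mul_div_cancel_left _ hr]
  exact (Nat.pow_left_injective hr.ne' (by show Nat.card L ^ r = (p ^ e) ^ r; rw [← hc, ← pow_mul, mul_comm e r]))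

end CfsgLib.Known.AutPSL
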