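import Cfsg.Agent.Lib.Known.AutPSL.GraphTargets
import Cfsg.Agent.Lib.Classical.CharTwo.SymOrth

/-!
# The isometry groups of the symmetric and alternating forms in characteristic two
-/

set_option autoImplicit false
set_option linter.unusedSectionVars false

open Matrix

namespace CfsgLib.Known.AutPSL.Graph

open CfsgLib.Classical
open LinearMap (BilinForm)

variable {n : ℕ} {F : Type*} [Field F]

theorem formFun_one (u v : Fin n → F) : formFun (1 : Matrix (Fin n) (Fin n) F) u v = u ⬝ᵥ v := by
  rw [formFun, one_mulVec]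

theorem formStab_one_equiv :
    Nonempty (formStab (1 : Matrix (Fin n) (Fin n) F) ≃* Iso F (fun u v : Fin n → F => u ⬝ᵥ v)) :=
  ⟨(preservingEquivIso _).trans (MulEquiv.subgroupCongr (by
    ext g
    simp only [mem_Iso, formFun_one]))⟩

theorem formStab_J_equiv (m : ℕ) :
    Nonempty (formStab (Matrix.J (Fin m) F) ≃* Matrix.symplecticGroup (Fin m) F) :=
  ⟨(Symp.symplecticEquivSpGL m F).symm⟩

variable [CharP F 2] [Fintype F]

/-- The sum of the coordinates. -/
noncomputable def coordSum : (Fin n → F) →ₗ[F] F := Matrix.toBilin' (1 : Matrix (Fin n) (Fin n) F) 1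

theorem coordSum_apply (v : Fin n → F) : coordSum v = ∑ i, v i := by
  rw [coordSum, toBilin'_eq_formFun, formFun_one, CharTwo.one_dot]

theorem coordSum_one : coordSum (1 : Fin n → F) = (n : F) := by
  simp [coordSum_apply]

theorem formStab_one_odd {m : ℕ} (hn : n = 2 * m + 1) :
    Nonempty (formStab (1 : Matrix (Fin n) (Fin n) F) ≃* Matrix.symplecticGroup (Fin m) F) := by
  obtain ⟨a⟩ := formStab_one_equiv (n := n) (F := F)
  have h1 : (n : F) = 1 := by
    rw [hn]; push_cast; rw [CharTwo.two_eq_zero, zero_mul, zero_add]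
  let f : (Fin n → F) → (Fin n → F) → F := fun u v => u ⬝ᵥ v
  let W : Submodule F (Fin n → F) := F ∙ (1 : Fin n → F)
  let U : Submodule F (Fin n → F) := LinearMap.ker coordSum
  have hU : ∀ u ∈ U, ∑ i, u i = (0 : F) := fun u hu => (coordSum_apply u).symm.trans hu
  have hWU : IsCompl W U := by
    constructor
    · rw [Submodule.disjoint_def]
      intro x hx hx'
      obtain ⟨c, rfl⟩ := Submodule.mem_span_singleton.1 hx
      have : coordSum (c • (1 : Fin n → F)) = 0 := hx'
      rw [map_smul, coordSum_one, h1, smul_eq_mul, mul_one] at this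
      rw [this, zero_smul]
    · rw [Submodule.codisjoint_iff_exists_add_eq]
      intro v
      refine ⟨coordSum v • 1, v - coordSum v • 1,
        Submodule.smul_mem _ _ (Submodule.mem_span_singleton_self _), ?_, by abel⟩
      show coordSum (v - coordSum v • 1) = 0
      rw [map_sub, map_smul, coordSum_one, h1, smul_eq_mul, mul_one, sub_self]
  have hperp : ∀ (w : W) (u : U), (w : Fin n → F) ⬝ᵥ u = 0 := by
    rintro ⟨w, hw⟩ ⟨u, hu⟩
    obtain ⟨c, rfl⟩ := Submodule.mem_span_singleton.1 hw
    rw [smul_dotProduct, CharTwo.one_dot, hU u hu, smul_zero]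
  have hadd : ∀ (w w' : W) (u u' : U), f ((w : Fin n → F) + u) ((w' : Fin n → F) + u') =
      f w w' + f u u' := by
    intro w w' u u'
    simp only [f, add_dotProduct, dotProduct_add, hperp w u', dotProduct_comm (u : Fin n → F) w',
      hperp w' u, add_zero, zero_add]
  have hpres : ∀ g ∈ Iso F f, (∀ x, x ∈ W ↔ g x ∈ W) → ∀ u ∈ U, g u ∈ U := by
    intro g hg _ u hu
    show coordSum (g u) = 0
    rw [coordSum_apply, CharTwo.iso_dot_sum ⟨g, hg⟩ u, hU u hu]
  have htop : isoFix F f (W : Set (Fin n → F)) = ⊤ := by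
    rw [eq_top_iff]
    intro g _ x hx
    obtain ⟨c, rfl⟩ := Submodule.mem_span_singleton.1 hx
    rw [map_smul, CharTwo.iso_dot_one g]
  let B : BilinForm F U := (Matrix.toBilin' (1 : Matrix (Fin n) (Fin n) F)).restrict U
  have hB : ∀ u v : U, B u v = (u : Fin n → F) ⬝ᵥ v := fun u v => by
    show Matrix.toBilin' 1 (u : Fin n → F) v = _
    rw [toBilin'_eq_formFun, formFun_one]
  have hA : B.IsAlt := fun u => by
    rw [hB, CharTwo.dot_self, hU u u.2, zero_pow two_ne_zero]
  have hnd' : ∀ x : U, (∀ y, B x y = 0) → x = 0 := fun x hx => by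
    refine Subtype.ext (dotProduct_eq_zero _ fun v => ?_)
    obtain ⟨w, u, rfl⟩ := exists_decomp hWU v
    rw [dotProduct_add, dotProduct_comm, hperp, ← hB, hx, add_zero]
  have hnd : B.Nondegenerate :=
    ⟨hnd', fun x hx => hnd' x fun y => by rw [hB, dotProduct_comm, ← hB]; exact hx y⟩
  have hd : Module.finrank F U = 2 * m := by
    have h := Submodule.finrank_add_eq_of_isCompl hWU
    have h10 : (1 : Fin n → F) ≠ 0 := fun h => one_ne_zero (α := F)
      (by simpa using congrFun h ⟨0, by omega⟩)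
    rw [finrank_span_singleton h10, Module.finrank_fin_fun] at h
    omega
  obtain ⟨e, he⟩ := Symp.exists_isometry hA hnd (Symp.sympBil_isAlt m F)
    (Symp.sympBil_nondegenerate m F) (hd.trans (Symp.finrank_sympSpace m F).symm)
  exact ⟨(((a.trans Subgroup.topEquiv.symm).trans (MulEquiv.subgroupCongr htop.symm)).trans
    (isoFixEquiv hWU hadd hpres).symm).trans
      ((isoCongrEq (f := restr f U) (f' := fun u v => Symp.sympBil m F u v) e
        fun u v => by rw [he, hB]; rfl).trans (Symp.symplecticEquiv m F).symm)⟩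

theorem tr_one_injective {V : Type*} [AddCommGroup V] [Module F V] {B : BilinForm F V}
    (hA : B.IsAlt) (hB : B.Nondegenerate) {v w : V} (hv : v ≠ 0)
    (h : Symp.tr hA w 1 = Symp.tr hA v 1) : w = v := by
  have hx : ∀ x, B x w • w = B x v • v := fun x => by
    have := congrArg (fun g : Symp.Sp B => (g : V ≃ₗ[F] V) x) h
    simpa [Symp.tr_apply] using this
  obtain ⟨x, hxv⟩ : ∃ x, B x v ≠ 0 := by
    by_contra hc
    push Not at hc
    exact hv (hB.2 v hc)
  have hvw : v = (B x w / B x v) • w := by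
    rw [div_eq_inv_mul, ← smul_smul, hx, smul_smul, inv_mul_cancel₀ hxv, one_smul]
  set b := B x w / B x v
  have hw : w ≠ 0 := fun h0 => hv (by rw [hvw, h0, smul_zero])
  obtain ⟨y, hyw⟩ : ∃ y, B y w ≠ 0 := by
    by_contra hc
    push Not at hc
    exact hw (hB.2 w hc)
  have h2 := hx y
  rw [hvw, map_smul, smul_smul, smul_eq_mul] at h2
  have h3 : B y w = B y w * (b * b) := by
    have h5 : (B y w - b * B y w * b) • w = 0 := by rw [sub_smul, ← h2, sub_self]
    linear_combination (smul_eq_zero.1 h5).resolve_right hw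
  have hb : b = 1 := eq_one_of_sq_charTwo (mul_left_cancel₀ hyw (by rw [← h3, mul_one]))
  rw [hvw, hb, one_smul]

theorem formStab_one_even {m : ℕ} (hm : 1 ≤ m) (hn : n = 2 * m) :
    ∃ t : Matrix.symplecticGroup (Fin m) F,
      Cfsg.IsTransvection (t : Matrix (Fin m ⊕ Fin m) (Fin m ⊕ Fin m) F) ∧
      Nonempty (formStab (1 : Matrix (Fin n) (Fin n) F) ≃*
        ↥(Subgroup.centralizer ({t} : Set (Matrix.symplecticGroup (Fin m) F)))) := by
  obtain ⟨a⟩ := formStab_one_equiv (n := n) (F := F)
  have h0 : (n : F) = 0 := CharTwo.natCast_card_even hn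
  let B : BilinForm F (Fin n → F) :=
    Matrix.toBilin' (1 : Matrix (Fin n) (Fin n) F) + LinearMap.BilinForm.linMulLin coordSum coordSum
  have hB : ∀ u v, B u v = u ⬝ᵥ v + coordSum u * coordSum v := fun u v => by
    simp [B, toBilin'_eq_formFun, formFun_one]
  have hA : B.IsAlt := fun v => by
    rw [hB, CharTwo.dot_self, coordSum_apply, sq, CharTwo.add_self_eq_zero]
  have hnd' : ∀ x, (∀ y, B x y = 0) → x = 0 := fun x hx => by
    have h : x + coordSum x • (1 : Fin n → F) = 0 := dotProduct_eq_zero _ fun y => by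
      rw [add_dotProduct, smul_dotProduct, CharTwo.one_dot, ← coordSum_apply, smul_eq_mul, ← hB, hx]
    have h' := congrArg coordSum h
    rw [map_add, map_smul, coordSum_one, h0, smul_zero, add_zero, map_zero] at h'
    rwa [h', zero_smul, add_zero] at h
  have hnd : B.Nondegenerate :=
    ⟨hnd', fun x hx => hnd' x fun y => by
      rw [hB, dotProduct_comm, mul_comm, ← hB]; exact hx y⟩
  obtain ⟨e, he⟩ := Symp.exists_isometry hA hnd (Symp.sympBil_isAlt m F)
    (Symp.sympBil_nondegenerate m F)
    ((Module.finrank_fin_fun F).trans (hn.trans (Symp.finrank_sympSpace m F).symm))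
  set f : (Fin n → F) → (Fin n → F) → F := fun u v => u ⬝ᵥ v with hf
  have hle : Iso F f ≤ Iso F (fun u v => B u v) := fun g hg u v => by
    simp only [hB, coordSum_apply, CharTwo.iso_dot_sum ⟨g, hg⟩]
    rw [show g u ⬝ᵥ g v = u ⬝ᵥ v from hg u v]
  set ε : Iso F (fun u v => B u v) ≃* Symp.Sp (Symp.sympBil m F) :=
    isoCongrEq (f' := fun u v => Symp.sympBil m F u v) e he with hε
  set v : Fin m ⊕ Fin m → F := e 1 with hv
  have h10 : (1 : Fin n → F) ≠ 0 := fun h => one_ne_zero (α := F)
    (by simpa using congrFun h ⟨0, by omega⟩)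
  have hv0 : v ≠ 0 := fun h => h10 (e.injective (by rw [← hv, h, map_zero]))
  set T := Symp.tr (Symp.sympBil_isAlt m F) v 1
  refine ⟨(Symp.symplecticEquiv m F).symm T, ?_, ?_⟩
  · rw [Symp.symplecticEquiv_symm_tr]
    have hJv : Matrix.J (Fin m) F *ᵥ v ≠ 0 := fun h =>
      hv0 (Matrix.eq_zero_of_mulVec_eq_zero (Symp.det_J_ne_zero m F) h)
    refine ⟨?_, ?_⟩
    · rw [Cfsg.sympTransvection, one_smul, add_sub_cancel_left]
      refine le_antisymm (rank_vecMulVec_le _ _) (Nat.one_le_iff_ne_zero.2 fun h => ?_)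
      rw [Matrix.rank, Submodule.finrank_eq_zero, LinearMap.range_eq_bot] at h
      obtain ⟨j, hj⟩ := Function.ne_iff.1 hJv
      obtain ⟨i, hi⟩ := Function.ne_iff.1 hv0
      have := congrFun (LinearMap.congr_fun h (Pi.single j 1)) i
      rw [Matrix.mulVecLin_apply, Matrix.mulVec_single_one] at this
      exact mul_ne_zero hi hj (by simpa [vecMulVec_apply] using this)
    · rw [Cfsg.sympTransvection, one_smul, add_sub_cancel_left, vecMulVec_mul_vecMulVec]
      have : Matrix.J (Fin m) F *ᵥ v ⬝ᵥ v = 0 := by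
        rw [dotProduct_comm]; exact isAltMat_J m v
      simp [this]
  · let Φ : Iso F f →* Matrix.symplecticGroup (Fin m) F :=
      ((Symp.symplecticEquiv m F).symm.toMonoidHom.comp ε.toMonoidHom).comp (Subgroup.inclusion hle)
    have hΦ : Function.Injective Φ :=
      ((Symp.symplecticEquiv m F).symm.injective.comp ε.injective).comp
        (Subgroup.inclusion_injective hle)
    have hcomm : ∀ g : Iso F (fun u v => B u v),
        ε g * T = T * ε g ↔ (g : (Fin n → F) ≃ₗ[F] (Fin n → F)) 1 = 1 := by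
      intro g
      have happ : ((ε g : Symp.Sp (Symp.sympBil m F)) :
          (Fin m ⊕ Fin m → F) ≃ₗ[F] (Fin m ⊕ Fin m → F)) v =
          e ((g : (Fin n → F) ≃ₗ[F] (Fin n → F)) 1) := by
        show e ((g : (Fin n → F) ≃ₗ[F] (Fin n → F)) (e.symm (e 1))) = _
        rw [e.symm_apply_apply]
      rw [← mul_inv_eq_iff_eq_mul, Symp.conj_tr, happ]
      refine ⟨fun h => e.injective ?_, fun h => by rw [h]⟩
      exact tr_one_injective (Symp.sympBil_isAlt m F) (Symp.sympBil_nondegenerate m F) hv0 h
    refine ⟨a.trans ((MonoidHom.ofInjective hΦ).trans (MulEquiv.subgroupCongr ?_))⟩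
    ext x
    rw [Subgroup.mem_centralizer_singleton_iff]
    constructor
    · rintro ⟨g, rfl⟩
      have hg : (g : (Fin n → F) ≃ₗ[F] (Fin n → F)) 1 = 1 := CharTwo.iso_dot_one g
      have h := (hcomm (Subgroup.inclusion hle g)).2 hg
      show (Symp.symplecticEquiv m F).symm (ε (Subgroup.inclusion hle g)) *
        (Symp.symplecticEquiv m F).symm T = _
      rw [← map_mul, h, map_mul]
      rfl
    · intro hx
      obtain ⟨y, rfl⟩ := (Symp.symplecticEquiv m F).symm.surjective x
      obtain ⟨g, rfl⟩ := ε.surjective y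
      rw [← map_mul, ← map_mul] at hx
      have hg := (hcomm g).1 ((Symp.symplecticEquiv m F).symm.injective hx)
      have hsum : ∀ u, coordSum ((g : (Fin n → F) ≃ₗ[F] (Fin n → F)) u) = coordSum u := fun u => by
        have h : B ((g : (Fin n → F) ≃ₗ[F] (Fin n → F)) u)
            ((g : (Fin n → F) ≃ₗ[F] (Fin n → F)) 1) = B u 1 := g.2 u 1
        rw [hg] at h
        simp only [hB, coordSum_one, h0, mul_zero, add_zero, dotProduct_comm _ (1 : Fin n → F),
          CharTwo.one_dot, ← coordSum_apply] at h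
        exact h
      have hmem : (g : (Fin n → F) ≃ₗ[F] (Fin n → F)) ∈ Iso F f := fun u w => by
        have h : B ((g : (Fin n → F) ≃ₗ[F] (Fin n → F)) u)
            ((g : (Fin n → F) ≃ₗ[F] (Fin n → F)) w) = B u w := g.2 u w
        rw [hB, hB, hsum, hsum] at h
        exact add_right_cancel h
      exact ⟨⟨_, hmem⟩, rfl⟩

end CfsgLib.Known.AutPSL.Graph
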