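import Cfsg.Agent.Lib.Known.AutPSL.FieldCent
import Cfsg.Agent.Lib.Classical.Iso

/-!
# Graph automorphisms of `PSL n F` and bilinear forms

The automorphism `innDiag S * iota` is an involution iff the matrix `S` is symmetric or skew; its
centralizer among inner-diagonal automorphisms is the similitude group of `S` modulo scalars.
-/

set_option autoImplicit false

open Matrix

namespace CfsgLib.Known.AutPSL.Graph

variable {n : ℕ} {F : Type*} [Field F]

/-- The graph automorphism attached to an invertible matrix. -/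
noncomputable def graphAut (S : GL (Fin n) F) : MulAut (PSL n F) := innDiag n F S * iota

theorem graphAut_eq_mkAut (S : GL (Fin n) F) :
    graphAut S = mkAut S (RingEquiv.refl F) true := (mkAut_true _ _).symm

theorem innDiag_mul_graphAut (g S : GL (Fin n) F) :
    innDiag n F g * graphAut S = graphAut (g * S) := by
  rw [graphAut, graphAut, map_mul, mul_assoc]

theorem iota_mul_innDiag (h : GL (Fin n) F) :
    iota * innDiag n F h = innDiag n F (glIota h) * iota :=
  iota_semilin h _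

theorem graphAut_mul_innDiag (S h : GL (Fin n) F) :
    graphAut S * innDiag n F h = graphAut (S * glIota h) := by
  rw [graphAut, graphAut, map_mul, mul_assoc, mul_assoc, iota_mul_innDiag]

theorem graphAut_mul_self (S : GL (Fin n) F) :
    graphAut S * graphAut S = innDiag n F (S * glIota S) := by
  show graphAut S * (innDiag n F S * iota) = _
  rw [← mul_assoc, graphAut_mul_innDiag, graphAut, mul_assoc, iota_iota, mul_one]

@[simp] theorem coe_glIota (g : GL (Fin n) F) :
    (glIota g : Matrix (Fin n) (Fin n) F) = ((g⁻¹ : GL (Fin n) F) : Matrix (Fin n) (Fin n) F)ᵀ := rfl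

theorem glIota_mul (g h : GL (Fin n) F) : glIota (g * h) = glIota g * glIota h := by
  ext1
  rw [Units.val_mul, coe_glIota, coe_glIota, coe_glIota, _root_.mul_inv_rev, Units.val_mul,
    transpose_mul]

theorem glIota_glIota (g : GL (Fin n) F) : glIota (glIota g) = g := by
  ext1
  show ((g : Matrix (Fin n) (Fin n) F)ᵀ)ᵀ = _
  rw [transpose_transpose]

/-- The inverse transpose as a homomorphism. -/
noncomputable def glIotaHom : GL (Fin n) F →* GL (Fin n) F := MonoidHom.mk' glIota glIota_mul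

@[simp] theorem glIotaHom_apply (g : GL (Fin n) F) : glIotaHom g = glIota g := rfl

theorem coe_glIota_inv (g : GL (Fin n) F) :
    (glIota g⁻¹ : Matrix (Fin n) (Fin n) F) = (g : Matrix (Fin n) (Fin n) F)ᵀ := by
  rw [coe_glIota, inv_inv]

theorem smul_coe_ne_zero (hn : 1 ≤ n) {S S' : GL (Fin n) F} {c : F}
    (h : (S' : Matrix (Fin n) (Fin n) F) = c • (S : Matrix (Fin n) (Fin n) F)) : c ≠ 0 := by
  haveI : Nonempty (Fin n) := ⟨⟨0, hn⟩⟩
  rintro rfl
  rw [zero_smul] at h
  exact S'.ne_zero h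

theorem graphAut_eq_iff (hn : 3 ≤ n) (S S' : GL (Fin n) F) :
    graphAut S = graphAut S' ↔
      ∃ c : Fˣ, (S' : Matrix (Fin n) (Fin n) F) = (c : F) • (S : Matrix (Fin n) (Fin n) F) := by
  rw [graphAut_eq_mkAut, graphAut_eq_mkAut, mkAut_eq_iff (by omega) fun h => absurd h (by omega)]
  constructor
  · rintro ⟨-, -, c, hc⟩
    exact ⟨Units.mk0 c (smul_coe_ne_zero (by omega) hc), hc⟩
  · rintro ⟨c, hc⟩
    exact ⟨rfl, rfl, c, hc⟩

theorem conj_graphAut (g S : GL (Fin n) F) :
    innDiag n F g * graphAut S * (innDiag n F g)⁻¹ = graphAut (g * S * glIota g⁻¹) := by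
  rw [← map_inv, innDiag_mul_graphAut, graphAut_mul_innDiag]

theorem coe_conj (g S : GL (Fin n) F) :
    ((g * S * glIota g⁻¹ : GL (Fin n) F) : Matrix (Fin n) (Fin n) F) =
      (g : Matrix (Fin n) (Fin n) F) * (S : Matrix (Fin n) (Fin n) F) *
        (g : Matrix (Fin n) (Fin n) F)ᵀ := by
  rw [Units.val_mul, Units.val_mul, coe_glIota_inv]

/-- Two matrices are similar as forms. -/
def SimForm (S S' : Matrix (Fin n) (Fin n) F) : Prop :=
  ∃ (g : GL (Fin n) F) (c : Fˣ),
    S' = (c : F) • ((g : Matrix (Fin n) (Fin n) F) * S * (g : Matrix (Fin n) (Fin n) F)ᵀ)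

theorem isConjUnder_graphAut_iff (hn : 3 ≤ n) (S S' : GL (Fin n) F) :
    Cfsg.IsConjUnder (Cfsg.inndiagPSL n F) (graphAut S) (graphAut S') ↔
      SimForm (S : Matrix (Fin n) (Fin n) F) (S' : Matrix (Fin n) (Fin n) F) := by
  rw [inndiagPSL_eq]
  constructor
  · rintro ⟨_, ⟨g, rfl⟩, h⟩
    rw [conj_graphAut, eq_comm, graphAut_eq_iff hn, coe_conj] at h
    obtain ⟨c, hc⟩ := h
    exact ⟨g, c, hc⟩
  · rintro ⟨g, c, hc⟩
    refine ⟨_, ⟨g, rfl⟩, ?_⟩
    rw [conj_graphAut, eq_comm, graphAut_eq_iff hn, coe_conj]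
    exact ⟨c, hc⟩

theorem graphAut_sq_iff [Fintype F] (hn : 3 ≤ n) (S : GL (Fin n) F) :
    graphAut S * graphAut S = 1 ↔
      (S : Matrix (Fin n) (Fin n) F)ᵀ = (S : Matrix (Fin n) (Fin n) F) ∨
        (S : Matrix (Fin n) (Fin n) F)ᵀ = -(S : Matrix (Fin n) (Fin n) F) := by
  haveI : Nonempty (Fin n) := ⟨⟨0, by omega⟩⟩
  rw [graphAut_mul_self, innDiag_eq_one_iff (by omega), Units.val_mul, coe_glIota]
  set A := (S : Matrix (Fin n) (Fin n) F) with hA
  set A' := ((S⁻¹ : GL (Fin n) F) : Matrix (Fin n) (Fin n) F)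
  have hinv : A'ᵀ * Aᵀ = 1 := by
    rw [← transpose_mul, hA, Units.mul_inv, transpose_one]
  have hinv' : Aᵀ * A'ᵀ = 1 := mul_eq_one_comm.1 hinv
  constructor
  · rintro ⟨c, hc⟩
    have h1 : A = c • Aᵀ := by
      have := congrArg (· * Aᵀ) hc
      simpa [mul_assoc, hinv] using this
    have h2 : Aᵀ = c • A := by
      have := congrArg Matrix.transpose h1
      rwa [transpose_smul, transpose_transpose] at this
    have h3 : (c * c - 1) • A = 0 := by
      rw [sub_smul, one_smul, ← smul_smul, ← h2, ← h1, sub_self]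
    have h4 : c * c = 1 := sub_eq_zero.1 ((smul_eq_zero.1 h3).resolve_right S.ne_zero)
    rcases mul_self_eq_one_iff.1 h4 with rfl | rfl
    · exact Or.inl (by rw [h2, one_smul])
    · exact Or.inr (by rw [h2, neg_one_smul])
  · rintro (h | h)
    · refine ⟨1, ?_⟩
      rw [one_smul, ← hinv', h]
    · refine ⟨-1, ?_⟩
      rw [neg_one_smul, ← hinv', h, neg_mul, neg_neg]

theorem graphAut_class [Fintype F] (hn : 3 ≤ n) (S : GL (Fin n) F)
    (hS : (S : Matrix (Fin n) (Fin n) F)ᵀ = (S : Matrix (Fin n) (Fin n) F) ∨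
      (S : Matrix (Fin n) (Fin n) F)ᵀ = -(S : Matrix (Fin n) (Fin n) F)) :
    Cfsg.IsGraphAutClassPSL (graphAut S) ∧ orderOf (graphAut S) = 2 := by
  refine ⟨⟨hn, _, _, (isInnerDiagonalAutPSL_iff _).2 ⟨S, rfl⟩,
    (isInverseTransposeAutPSL_iff _).2 rfl, rfl⟩, orderOf_eq_prime ?_ ?_⟩
  · rw [sq, (graphAut_sq_iff hn S).2 hS]
  · intro h
    rw [graphAut_eq_mkAut, ← semilin_one, ← mkAut_false,
      mkAut_eq_iff (by omega) fun h' => absurd h' (by omega)] at h
    exact Bool.noConfusion h.2.1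

theorem exists_graphAut [Fintype F] {γ : MulAut (PSL n F)} (hγ : Cfsg.IsGraphAutClassPSL γ)
    (hγ2 : orderOf γ = 2) : 3 ≤ n ∧ ∃ S : GL (Fin n) F, γ = graphAut S ∧
      ((S : Matrix (Fin n) (Fin n) F)ᵀ = (S : Matrix (Fin n) (Fin n) F) ∨
        (S : Matrix (Fin n) (Fin n) F)ᵀ = -(S : Matrix (Fin n) (Fin n) F)) := by
  obtain ⟨hn, δ, ι', hδ, hι, rfl⟩ := hγ
  obtain ⟨S, rfl⟩ := (isInnerDiagonalAutPSL_iff _).1 hδ
  rw [(isInverseTransposeAutPSL_iff _).1 hι] at hγ2 ⊢
  refine ⟨hn, S, rfl, (graphAut_sq_iff hn S).1 ?_⟩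
  rw [← sq]
  exact orderOf_dvd_iff_pow_eq_one.1 (dvd_of_eq hγ2)

theorem comm_graphAut_iff (hn : 3 ≤ n) (g S : GL (Fin n) F) :
    innDiag n F g * graphAut S = graphAut S * innDiag n F g ↔
      ∃ c : Fˣ, (g : Matrix (Fin n) (Fin n) F) * (S : Matrix (Fin n) (Fin n) F) *
        (g : Matrix (Fin n) (Fin n) F)ᵀ = (c : F) • (S : Matrix (Fin n) (Fin n) F) := by
  rw [← mul_inv_eq_iff_eq_mul, conj_graphAut, eq_comm, graphAut_eq_iff hn, coe_conj]

/-! ### Groups attached to a matrix -/

section Forms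

set_option linter.unusedSectionVars false

variable {ι : Type} [Fintype ι] [DecidableEq ι]

/-- The bilinear function of a matrix. -/
def formFun (A : Matrix ι ι F) (u v : ι → F) : F := u ⬝ᵥ A *ᵥ v

/-- The similitudes of the form of `A`. -/
def formSim (A : Matrix ι ι F) : Subgroup (GL ι F) := Cfsg.Geo.similarityGroup (formFun A)

/-- The isometries of the form of `A`. -/
def formStab (A : Matrix ι ι F) : Subgroup (GL ι F) :=
  Cfsg.preserving (Units.coeHom (Matrix ι ι F)) (formFun A)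

theorem formFun_mulVec (A g : Matrix ι ι F) (u v : ι → F) :
    formFun A (g *ᵥ u) (g *ᵥ v) = formFun (gᵀ * A * g) u v := by
  rw [formFun, formFun, ← mulVec_mulVec, ← mulVec_mulVec, dotProduct_mulVec u, vecMul_transpose]

theorem formFun_ext {A B : Matrix ι ι F} : (∀ u v, formFun A u v = formFun B u v) ↔ A = B := by
  refine ⟨fun h => Matrix.ext fun i j => ?_, fun h u v => by rw [h]⟩
  simpa [formFun, single_dotProduct, mulVec_single_one] using h (Pi.single i 1) (Pi.single j 1)

theorem formFun_smul (c : F) (A : Matrix ι ι F) (u v : ι → F) :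
    formFun (c • A) u v = c * formFun A u v := by
  rw [formFun, formFun, smul_mulVec, dotProduct_smul, smul_eq_mul]

theorem mem_formSim_iff (A : Matrix ι ι F) (g : GL ι F) :
    g ∈ formSim A ↔ ∃ c : Fˣ,
      (g : Matrix ι ι F)ᵀ * A * (g : Matrix ι ι F) = (c : F) • A := by
  refine exists_congr fun c => ?_
  rw [← formFun_ext]
  simp only [formFun_smul, formFun_mulVec]

theorem mem_formStab_iff (A : Matrix ι ι F) (g : GL ι F) :
    g ∈ formStab A ↔ (g : Matrix ι ι F)ᵀ * A * (g : Matrix ι ι F) = A := by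
  rw [← formFun_ext]
  show (∀ u v, formFun A ((g : Matrix ι ι F) *ᵥ u) ((g : Matrix ι ι F) *ᵥ v) = formFun A u v) ↔ _
  simp only [formFun_mulVec]

/-- Reindexing of invertible matrices. -/
noncomputable def glReindex {κ : Type} [Fintype κ] [DecidableEq κ] (e : ι ≃ κ) :
    GL ι F ≃* GL κ F :=
  Units.mapEquiv (Matrix.reindexAlgEquiv F F e).toMulEquiv

@[simp] theorem coe_glReindex {κ : Type} [Fintype κ] [DecidableEq κ] (e : ι ≃ κ) (g : GL ι F) :
    (glReindex e g : Matrix κ κ F) = (g : Matrix ι ι F).submatrix e.symm e.symm := rfl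

theorem form_reindex_iff {κ : Type} [Fintype κ] [DecidableEq κ] (e : ι ≃ κ) (A : Matrix ι ι F)
    (g : GL ι F) (c : F) :
    (glReindex e g : Matrix κ κ F)ᵀ * A.submatrix e.symm e.symm * (glReindex e g : Matrix κ κ F) =
        c • A.submatrix e.symm e.symm ↔
      (g : Matrix ι ι F)ᵀ * A * (g : Matrix ι ι F) = c • A := by
  rw [coe_glReindex, transpose_submatrix, submatrix_mul_equiv, submatrix_mul_equiv,
    show c • A.submatrix e.symm e.symm = (c • A).submatrix e.symm e.symm from rfl]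
  refine ⟨fun h => ?_, fun h => by rw [h]⟩
  have := congrArg (fun B : Matrix κ κ F => B.submatrix e e) h
  simpa [submatrix_submatrix] using this

end Forms

theorem glIota_form_iff (g S : GL (Fin n) F) (c : Fˣ) :
    (glIota g : Matrix (Fin n) (Fin n) F) * (S : Matrix (Fin n) (Fin n) F) *
        (glIota g : Matrix (Fin n) (Fin n) F)ᵀ = (c : F) • (S : Matrix (Fin n) (Fin n) F) ↔
      (g : Matrix (Fin n) (Fin n) F)ᵀ * (S : Matrix (Fin n) (Fin n) F) *
        (g : Matrix (Fin n) (Fin n) F) =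
          ((c⁻¹ : Fˣ) : F) • (S : Matrix (Fin n) (Fin n) F) := by
  rw [coe_glIota, transpose_transpose]
  set G := (g : Matrix (Fin n) (Fin n) F) with hG
  set G' := ((g⁻¹ : GL (Fin n) F) : Matrix (Fin n) (Fin n) F)
  set A := (S : Matrix (Fin n) (Fin n) F)
  have h1 : G' * G = 1 := Units.inv_mul g
  have h2 : G * G' = 1 := Units.mul_inv g
  have h1' : Gᵀ * G'ᵀ = 1 := by rw [← transpose_mul, h1, transpose_one]
  have h2' : G'ᵀ * Gᵀ = 1 := by rw [← transpose_mul, h2, transpose_one]
  constructor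
  · intro h
    have h3 := congrArg (fun X => ((c⁻¹ : Fˣ) : F) • (Gᵀ * X * G)) h
    simp only [Matrix.mul_smul, Matrix.smul_mul, smul_smul, Units.inv_mul, one_smul] at h3
    rw [← h3]
    congr 1
    simp only [← mul_assoc, h1', one_mul]
    rw [mul_assoc, h1, mul_one]
  · intro h
    have h3 := congrArg (fun X => (c : F) • (G'ᵀ * X * G')) h
    simp only [Matrix.mul_smul, Matrix.smul_mul, smul_smul, Units.mul_inv, one_smul] at h3
    rw [← h3]
    congr 1
    simp only [← mul_assoc, h2', one_mul]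
    rw [mul_assoc, h2, mul_one]

/-- The centralizer of a graph automorphism as a projective similitude group. -/
theorem graph_cent_equiv [Fintype F] (hn : 3 ≤ n) {ι : Type} [Fintype ι] [DecidableEq ι] (e : ι ≃ Fin n)
    (A : Matrix ι ι F) (S : GL (Fin n) F)
    (hS : (S : Matrix (Fin n) (Fin n) F) = A.submatrix e.symm e.symm) (H : Subgroup (GL ι F))
    (hH : H = formSim A) :
    Nonempty (↥(Cfsg.inndiagPSL n F ⊓ Subgroup.centralizer {graphAut S}) ≃* Cfsg.projQuot H) := by
  subst hH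
  haveI : Nonempty (Fin n) := ⟨⟨0, by omega⟩⟩
  refine cent_equiv_of_param (graphAut S) ((Cfsg.Geo.scalars ι F).subgroupOf (formSim A))
    ((glIotaHom.comp (glReindex e).toMonoidHom).comp (formSim A).subtype)
    (fun h => ?_) (fun h => ?_) fun g hg => ?_
  · rw [comm_graphAut_iff hn]
    obtain ⟨c, hc⟩ := (mem_formSim_iff A _).1 h.2
    refine ⟨c⁻¹, ?_⟩
    rw [show ((glIotaHom.comp (glReindex e).toMonoidHom).comp (formSim A).subtype) h =
        glIota (glReindex e (h : GL ι F)) from rfl, glIota_form_iff, inv_inv, hS]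
    exact (form_reindex_iff e A _ _).2 hc
  · rw [innDiag_eq_one_iff (by omega), Subgroup.mem_subgroupOf, Cfsg.Geo.mem_scalars_iff,
      show ((glIotaHom.comp (glReindex e).toMonoidHom).comp (formSim A).subtype) h =
        glIota (glReindex e (h : GL ι F)) from rfl]
    have key : ∀ (x : GL (Fin n) F) (c : Fˣ), (x : Matrix (Fin n) (Fin n) F) = (c : F) • 1 →
        (glIota x : Matrix (Fin n) (Fin n) F) = ((c⁻¹ : Fˣ) : F) • 1 := by
      intro x c hx
      have : ((x⁻¹ : GL (Fin n) F) : Matrix (Fin n) (Fin n) F) = ((c⁻¹ : Fˣ) : F) • 1 := by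
        refine Units.inv_eq_of_mul_eq_one_right ?_
        rw [hx, Matrix.smul_mul, Matrix.mul_smul, smul_smul, Units.mul_inv, one_smul, one_mul]
      rw [coe_glIota, this, transpose_smul, transpose_one]
    constructor
    · rintro ⟨c, hc⟩
      have h1 : (glIota (glReindex e (h : GL ι F)) : Matrix (Fin n) (Fin n) F) =
          c • ((1 : GL (Fin n) F) : Matrix (Fin n) (Fin n) F) := by simpa using hc
      obtain ⟨u, rfl⟩ : ∃ u : Fˣ, (u : F) = c :=
        ⟨Units.mk0 c (smul_coe_ne_zero (by omega) h1), rfl⟩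
      refine ⟨u⁻¹, ?_⟩
      have h2 := key _ u hc
      rw [glIota_glIota, coe_glReindex] at h2
      have h3 := congrArg (fun B : Matrix (Fin n) (Fin n) F => B.submatrix e e) h2
      simpa [submatrix_submatrix, submatrix_smul] using h3
    · rintro ⟨c, hc⟩
      refine ⟨((c⁻¹ : Fˣ) : F), key _ c ?_⟩
      rw [coe_glReindex, hc, submatrix_smul]
      simp
  · obtain ⟨c, hc⟩ := (comm_graphAut_iff hn g S).1 hg
    refine ⟨⟨(glReindex e).symm (glIota g), ?_⟩, ?_⟩
    · rw [mem_formSim_iff]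
      refine ⟨c⁻¹, (form_reindex_iff e A _ _).1 ?_⟩
      rw [MulEquiv.apply_symm_apply, ← hS]
      exact (glIota_form_iff (glIota g) S c).1 (by rwa [glIota_glIota])
    · show innDiag n F (glIota (glReindex e ((glReindex e).symm (glIota g)))) = _
      rw [MulEquiv.apply_symm_apply, glIota_glIota]

end CfsgLib.Known.AutPSL.Graph
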