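import Cfsg.Agent.Lib.Known.AutPSL.GraphMain

/-!
# Splitting of the classes of involutory graph automorphisms of `PSL n F`
-/

set_option autoImplicit false
set_option linter.unusedSectionVars false

open Matrix

namespace CfsgLib.Known.AutPSL.Graph

open QuadraticMap (polar polarBilin)
open CfsgLib.Classical

variable {n : ℕ} {F : Type*} [Field F] [Fintype F]

/-- The determinants of the centralizer of `x`, together with the `n`-th powers. -/
noncomputable def detGroup (x : MulAut (PSL n F)) : Subgroup Fˣ :=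
  ((Subgroup.centralizer {x}).comap (innDiag n F)).map GeneralLinearGroup.det ⊔
    (powMonoidHom n : Fˣ →* Fˣ).range

theorem detGroup_eq_of {x : MulAut (PSL n F)} {D : Subgroup Fˣ}
    (hpow : (powMonoidHom n : Fˣ →* Fˣ).range ≤ D)
    (hle : ∀ g : GL (Fin n) F, innDiag n F g * x = x * innDiag n F g →
      GeneralLinearGroup.det g ∈ D)
    (hge : ∀ u ∈ D, u ∈ detGroup x) : detGroup x = D := by
  refine le_antisymm (sup_le ?_ hpow) hge
  rintro _ ⟨g, hg, rfl⟩
  exact hle g ((mem_cent_iff x g).1 hg)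

theorem det_mem_detGroup {x : MulAut (PSL n F)} (g : GL (Fin n) F)
    (hg : innDiag n F g * x = x * innDiag n F g) : GeneralLinearGroup.det g ∈ detGroup x :=
  Subgroup.mem_sup_left ⟨g, (mem_cent_iff x g).2 hg, rfl⟩

theorem det_sq_eq (hn : 3 ≤ n) {g S : GL (Fin n) F}
    (hg : innDiag n F g * graphAut S = graphAut S * innDiag n F g) :
    ∃ c : Fˣ, GeneralLinearGroup.det g ^ 2 = c ^ n := by
  obtain ⟨c, hc⟩ := (comm_graphAut_iff hn g S).1 hg
  refine ⟨c, Units.ext ?_⟩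
  have h := congrArg Matrix.det hc
  rw [det_mul, det_mul, det_transpose, det_smul, Fintype.card_fin] at h
  have hS : (S : Matrix (Fin n) (Fin n) F).det ≠ 0 := (GeneralLinearGroup.det S).ne_zero
  rw [Units.val_pow_eq_pow_val, Units.val_pow_eq_pow_val, GeneralLinearGroup.val_det_apply]
  exact mul_right_cancel₀ hS (by linear_combination h)

theorem detGroup_pow_n (hn : 3 ≤ n) (S : GL (Fin n) F) (h : Odd n ∨ CharP F 2) :
    detGroup (graphAut S) = (powMonoidHom n : Fˣ →* Fˣ).range := by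
  refine detGroup_eq_of le_rfl (fun g hg => ?_) fun u hu => Subgroup.mem_sup_right hu
  obtain ⟨c, hc⟩ := det_sq_eq hn hg
  set u := GeneralLinearGroup.det g
  rcases h with ⟨k, hk⟩ | h2
  · refine ⟨u * (c⁻¹) ^ k, ?_⟩
    rw [powMonoidHom_apply, mul_pow, ← pow_mul, mul_comm k n, pow_mul, inv_pow, ← hc]
    rw [show u ^ n = u * (u ^ 2) ^ k by rw [← pow_mul, ← pow_succ', hk], inv_pow,
      mul_assoc, mul_inv_cancel, mul_one]
  · haveI := h2
    obtain ⟨d, hd⟩ := exists_sq_charTwo c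
    refine ⟨d, Units.ext (CharTwo.sq_injective ?_)⟩
    show (((d ^ n : Fˣ)) : F) ^ 2 = (u : F) ^ 2
    rw [Units.val_pow_eq_pow_val, ← pow_mul, mul_comm n 2, pow_mul, sq (d : F), hd,
      ← Units.val_pow_eq_pow_val, ← Units.val_pow_eq_pow_val, hc]

theorem det_alt {g S : GL (Fin n) F} {m : ℕ} (hnm : n = 2 * m)
    (hS : IsAltMat (S : Matrix (Fin n) (Fin n) F)) (c : Fˣ)
    (hc : (g : Matrix (Fin n) (Fin n) F) * (S : Matrix (Fin n) (Fin n) F) *
      (g : Matrix (Fin n) (Fin n) F)ᵀ = (c : F) • (S : Matrix (Fin n) (Fin n) F)) :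
    GeneralLinearGroup.det g = c ^ m := by
  obtain ⟨m', hm', hd⟩ := Quad.Semisimple.det_sympSys_isometry
    (B := Matrix.toBilin' (S : Matrix (Fin n) (Fin n) F))
    (fun v => (toBilin'_eq_formFun _ v v).trans (hS v)) (nondeg_of_gl S)
    (Matrix.toLin' (g : Matrix (Fin n) (Fin n) F)ᵀ) (c : F) (fun x y => by
      rw [Matrix.toLin'_apply, Matrix.toLin'_apply, toBilin'_eq_formFun, toBilin'_eq_formFun,
        formFun_mulVec, transpose_transpose, hc, formFun_smul])
  rw [Module.finrank_fin_fun] at hm'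
  obtain rfl : m' = m := by omega
  rw [LinearMap.det_toLin', det_transpose] at hd
  exact Units.ext (by rw [GeneralLinearGroup.val_det_apply, hd, Units.val_pow_eq_pow_val])

theorem detGroup_alt (hn : 3 ≤ n) {m : ℕ} (hnm : n = 2 * m) (S : GL (Fin n) F)
    (hS : IsAltMat (S : Matrix (Fin n) (Fin n) F)) :
    detGroup (graphAut S) = (powMonoidHom m : Fˣ →* Fˣ).range := by
  refine detGroup_eq_of ?_ (fun g hg => ?_) fun u hu => ?_
  · rintro _ ⟨u, rfl⟩
    exact ⟨u ^ 2, by rw [powMonoidHom_apply, powMonoidHom_apply, ← pow_mul, hnm]⟩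
  · obtain ⟨c, hc⟩ := (comm_graphAut_iff hn g S).1 hg
    exact ⟨c, (det_alt hnm hS c hc).symm⟩
  · obtain ⟨c, rfl⟩ := hu
    have hS' : IsAltMat (glSmul c S : Matrix (Fin n) (Fin n) F) := fun v => by
      rw [coe_glSmul, smul_mulVec, dotProduct_smul, hS v, smul_zero]
    obtain ⟨g, hg⟩ := congr_alt (glSmul c S) S hS' hS
    rw [coe_glSmul] at hg
    rw [powMonoidHom_apply, ← det_alt hnm hS c hg.symm]
    exact det_mem_detGroup g ((comm_graphAut_iff hn g S).2 ⟨c, hg.symm⟩)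

theorem exists_neg_det_isometry (h2 : (2 : F) ≠ 0) (hn : 1 ≤ n) (S : GL (Fin n) F)
    (hS : (S : Matrix (Fin n) (Fin n) F)ᵀ = (S : Matrix (Fin n) (Fin n) F)) :
    ∃ h : GL (Fin n) F, (h : Matrix (Fin n) (Fin n) F) * (S : Matrix (Fin n) (Fin n) F) *
        (h : Matrix (Fin n) (Fin n) F)ᵀ = (S : Matrix (Fin n) (Fin n) F) ∧
      GeneralLinearGroup.det h = -1 := by
  have hna := not_isAlt_of_symm h2 hn S hS
  simp only [IsAltMat, not_forall] at hna
  obtain ⟨v, hv⟩ := hna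
  set A := (S : Matrix (Fin n) (Fin n) F)
  set a := v ⬝ᵥ A *ᵥ v with ha
  set M : Matrix (Fin n) (Fin n) F := 1 + vecMulVec (-(2 / a) • (A *ᵥ v)) v with hM
  have hd : M.det = -1 := by
    rw [hM, vecMulVec_eq Unit, det_one_add_replicateCol_mul_replicateRow, dotProduct_smul, ← ha,
      smul_eq_mul, neg_mul, div_mul_cancel₀ _ hv]
    ring
  refine ⟨GeneralLinearGroup.mkOfDetNeZero M (by rw [hd]; simp), ?_, Units.ext ?_⟩
  · show M * A * Mᵀ = A
    rw [hM, transpose_add, transpose_one, transpose_vecMulVec, add_mul, one_mul, vecMulVec_mul,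
      mul_add, mul_one, add_mul, mul_vecMulVec, vecMulVec_mul_vecMulVec]
    have hvA : v ᵥ* A = A *ᵥ v := by rw [← mulVec_transpose, hS]
    rw [hvA]
    ext i j
    simp only [Matrix.add_apply, Matrix.smul_apply, vecMulVec_apply, Pi.smul_apply, smul_eq_mul]
    rw [dotProduct_comm, ← ha]
    have hkey : a * a⁻¹ = 1 := mul_inv_cancel₀ hv
    linear_combination (4 * a⁻¹ * (A *ᵥ v) i * (A *ᵥ v) j) * hkey
  · rw [GeneralLinearGroup.val_det_apply, Units.val_neg, Units.val_one]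
    exact hd

theorem detGroup_symm (h2 : (2 : F) ≠ 0) (hn : 3 ≤ n) (hne : Even n) (S : GL (Fin n) F)
    (hS : (S : Matrix (Fin n) (Fin n) F)ᵀ = (S : Matrix (Fin n) (Fin n) F)) :
    detGroup (graphAut S) = ((powMonoidHom n : Fˣ →* Fˣ).range).comap (powMonoidHom 2) := by
  refine detGroup_eq_of ?_ (fun g hg => ?_) fun u hu => ?_
  · rintro _ ⟨u, rfl⟩
    exact ⟨u ^ 2, by simp only [powMonoidHom_apply, ← pow_mul, mul_comm]⟩
  · obtain ⟨c, hc⟩ := det_sq_eq hn hg
    exact ⟨c, hc.symm⟩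
  · obtain ⟨c, hc⟩ := hu
    rw [powMonoidHom_apply, powMonoidHom_apply] at hc
    have hd : (glSmul c S : Matrix (Fin n) (Fin n) F).det =
        ((c ^ n : Fˣ) : F) * (S : Matrix (Fin n) (Fin n) F).det := by
      rw [coe_glSmul, det_smul, Fintype.card_fin, Units.val_pow_eq_pow_val]
    obtain ⟨g, hg⟩ := congr_symm_of_det h2 (by omega) (glSmul c S) S
      (by rw [coe_glSmul, transpose_smul, hS]) hS
      ⟨(u : F) * (S : Matrix (Fin n) (Fin n) F).det, by
        rw [hd, hc, Units.val_pow_eq_pow_val]; ring⟩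
    rw [coe_glSmul] at hg
    have hgc := (comm_graphAut_iff hn g S).2 ⟨c, hg.symm⟩
    have h := congrArg Matrix.det hg
    rw [det_mul, det_mul, det_transpose, det_smul, Fintype.card_fin,
      ← Units.val_pow_eq_pow_val, hc, Units.val_pow_eq_pow_val] at h
    have hS0 : (S : Matrix (Fin n) (Fin n) F).det ≠ 0 := (GeneralLinearGroup.det S).ne_zero
    have hsq : (g : Matrix (Fin n) (Fin n) F).det ^ 2 = (u : F) ^ 2 :=
      mul_right_cancel₀ hS0 (by linear_combination -h)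
    rcases sq_eq_sq_iff_eq_or_eq_neg.1 hsq with h1 | h1
    · rw [show u = GeneralLinearGroup.det g from Units.ext h1.symm]
      exact det_mem_detGroup g hgc
    · obtain ⟨h, hh, hhd⟩ := exists_neg_det_isometry h2 (by omega) S hS
      have hu : u = GeneralLinearGroup.det g * GeneralLinearGroup.det h := by
        refine Units.ext ?_
        rw [hhd, Units.val_mul, GeneralLinearGroup.val_det_apply, h1, Units.val_neg, Units.val_one]
        ring
      rw [hu]
      exact Subgroup.mul_mem _ (det_mem_detGroup g hgc) (det_mem_detGroup h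
        ((comm_graphAut_iff hn h S).2 ⟨1, by rw [hh, Units.val_one, one_smul]⟩))

theorem index_comap_sq (hodd : Odd (Fintype.card F)) (hne : Even n) :
    (((powMonoidHom n : Fˣ →* Fˣ).range).comap (powMonoidHom 2)).index =
      Nat.gcd n (Fintype.card F - 1) / 2 := by
  rw [Subgroup.index_comap]
  have hle : (powMonoidHom n : Fˣ →* Fˣ).range ≤ (powMonoidHom 2 : Fˣ →* Fˣ).range := by
    obtain ⟨k, rfl⟩ := hne
    rintro _ ⟨u, rfl⟩
    exact ⟨u ^ k, by simp only [powMonoidHom_apply, ← pow_mul, mul_two]⟩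
  have h := Subgroup.relIndex_mul_index hle
  rw [index_powMonoidHom_range, index_powMonoidHom_range] at h
  have h2 : Nat.gcd 2 (Fintype.card F - 1) = 2 := by
    rw [Nat.gcd_eq_left_iff_dvd]
    obtain ⟨k, hk⟩ := hodd
    exact ⟨k, by omega⟩
  rw [h2] at h
  rw [← h, Nat.mul_div_cancel _ two_pos]

/-! ### The symplectic and orthogonal centralizers are not isomorphic -/

section Card

variable {ι : Type} [Fintype ι] [DecidableEq ι]

theorem card_projQuot (H : Subgroup (GL ι F)) :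
    ∃ d, d ∣ Fintype.card F - 1 ∧ Nat.card H = Nat.card (Cfsg.projQuot H) * d := by
  refine ⟨_, ?_, Subgroup.card_eq_card_quotient_mul_card_subgroup _⟩
  rw [← CfsgLib.Classical.card_units_field (F := F)]
  refine dvd_trans (Subgroup.card_comap_dvd_of_injective (Cfsg.Geo.scalars ι F) H.subtype
    Subtype.val_injective) ?_
  exact Subgroup.card_range_dvd _

theorem card_formSim_dvd {A : Matrix ι ι F} (hA : A ≠ 0) :
    Nat.card (formSim A) ∣ Nat.card (formStab A) * (Fintype.card F - 1) := by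
  classical
  choose ν hν using fun g : formSim A => (mem_formSim_iff A g).1 g.2
  have huniq : ∀ (g : formSim A) (c : Fˣ),
      ((g : GL ι F) : Matrix ι ι F)ᵀ * A * ((g : GL ι F) : Matrix ι ι F) = (c : F) • A → c = ν g := fun g c hc => by
    have h : ((c : F) - ν g) • A = 0 := by rw [sub_smul, ← hc, ← hν, sub_self]
    exact Units.ext (sub_eq_zero.1 ((smul_eq_zero.1 h).resolve_right hA))
  let φ : formSim A →* Fˣ := MonoidHom.mk' ν fun g h => (huniq _ _ (by
    rw [Subgroup.coe_mul, Units.val_mul, transpose_mul, Units.val_mul]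
    calc ((h : GL ι F) : Matrix ι ι F)ᵀ * ((g : GL ι F) : Matrix ι ι F)ᵀ * A *
          (((g : GL ι F) : Matrix ι ι F) * ((h : GL ι F) : Matrix ι ι F))
        = ((h : GL ι F) : Matrix ι ι F)ᵀ * (((g : GL ι F) : Matrix ι ι F)ᵀ * A *
            ((g : GL ι F) : Matrix ι ι F)) * ((h : GL ι F) : Matrix ι ι F) := by
          simp only [mul_assoc]
      _ = _ := by rw [hν, Matrix.mul_smul, Matrix.smul_mul, hν, smul_smul])).symm
  rw [← Subgroup.card_mul_index φ.ker, Subgroup.index_ker,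
    ← CfsgLib.Classical.card_units_field (F := F)]
  refine Nat.mul_dvd_mul ?_ (Subgroup.card_subgroup_dvd_card _)
  refine Subgroup.card_dvd_of_injective
    ((((formSim A).subtype).comp φ.ker.subtype).codRestrict (formStab A) fun g => ?_)
    fun g h hgh => Subtype.ext (Subtype.ext (congrArg (fun x : formStab A => (x : GL ι F)) hgh))
  rw [mem_formStab_iff]
  have := hν g.1
  rwa [show ν g.1 = 1 from g.2, Units.val_one, one_smul] at this

theorem formStab_qGram (h2 : (2 : F) ≠ 0) (Q : QuadraticForm F (ι → F)) :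
    formStab (qGram Q) = Cfsg.isometryGroup F ⇑Q := by
  ext g
  show (∀ u v, formFun (qGram Q) ((g : Matrix ι ι F) *ᵥ u) ((g : Matrix ι ι F) *ᵥ v) =
      formFun (qGram Q) u v) ↔
    ∀ u v : ι → F, Q ((g : Matrix ι ι F) *ᵥ u) = Q u
  constructor
  · intro h u _
    have h1 := h u u
    rw [formFun_qGram, formFun_qGram, Quad.polar_self', Quad.polar_self'] at h1
    exact mul_left_cancel₀ h2 h1
  · intro h u v
    rw [formFun_qGram, formFun_qGram, QuadraticMap.polar, QuadraticMap.polar, ← mulVec_add,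
      h _ 0, h _ 0, h _ 0]

theorem pow_dvd_card_PGSp {m : ℕ} :
    Fintype.card F ^ (m ^ 2) ∣ Nat.card (Cfsg.PGSp m F) * (Fintype.card F - 1) := by
  have hle : Cfsg.spGL m F ≤ Cfsg.GSp m F := fun g hg => ⟨1, fun u v => by
    rw [Units.val_one, one_mul]; exact hg u v⟩
  have h1 : Fintype.card F ^ (m ^ 2) ∣ Nat.card (Cfsg.spGL m F) := by
    rw [← Nat.card_congr (Symp.symplecticEquivSpGL m F).toEquiv, Symp.card_symplecticGroup]
    exact dvd_mul_right _ _
  obtain ⟨d, hd, hcard⟩ := card_projQuot (Cfsg.GSp m F)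
  have h2 := h1.trans (Subgroup.card_dvd_of_le hle)
  rw [hcard] at h2
  exact h2.trans (Nat.mul_dvd_mul_left _ hd)

theorem not_iso_PGSp (h2 : (2 : F) ≠ 0) {m : ℕ} {Q : QuadraticForm F (ι → F)}
    (hQ : (qGram Q).det ≠ 0) [Nonempty ι] {L : ℕ}
    (hcard : Nat.card (Quad.OQ Q) = Fintype.card F ^ (m * (m - 1)) * L)
    (hm : 1 ≤ m) (hL : ∀ p, p.Prime → p ∣ Fintype.card F → ¬ p ∣ L)
    (h2p : ∀ p, p.Prime → p ∣ Fintype.card F → ¬ p ∣ Fintype.card F - 1) :
    ¬ Nonempty (Cfsg.PGO F ⇑Q ≃* Cfsg.PGSp m F) := by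
  rintro ⟨e⟩
  set q := Fintype.card F with hq
  have hA : qGram Q ≠ 0 := fun h => hQ (by rw [h, Matrix.det_zero])
  obtain ⟨d, -, hd⟩ := card_projQuot (Cfsg.Geo.quadSimilarityGroup (F := F) ⇑Q)
  have h1 : Nat.card (Cfsg.PGO F ⇑Q) ∣ q ^ (m * (m - 1)) * L * (q - 1) := by
    rw [← hcard, ← Quad.card_isometryGroup_eq Q rfl, ← formStab_qGram h2]
    refine Dvd.dvd.trans ?_ (card_formSim_dvd hA)
    rw [← formSim_qGram h2, hd]
    exact dvd_mul_right _ _
  rw [Nat.card_congr e.toEquiv] at h1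
  have h3 := (pow_dvd_card_PGSp (F := F) (m := m)).trans (Nat.mul_dvd_mul_right h1 (q - 1))
  rw [← hq, show m ^ 2 = m * (m - 1) + m from by
      obtain ⟨k, rfl⟩ : ∃ k, m = k + 1 := ⟨m - 1, by omega⟩
      rw [Nat.add_sub_cancel]; ring,
    pow_add, mul_assoc, mul_assoc] at h3
  have hq1 : 1 < q := Fintype.one_lt_card
  obtain ⟨p, hp, hpq⟩ := Nat.exists_prime_and_dvd (n := q) (by omega)
  have h4 := (dvd_trans hpq (dvd_pow_self q (by omega : m ≠ 0))).trans
    ((Nat.mul_dvd_mul_iff_left (pow_pos (by omega) _)).1 h3)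
  rcases hp.dvd_mul.1 h4 with h5 | h5
  · exact hL p hp hpq h5
  · rcases hp.dvd_mul.1 h5 with h6 | h6 <;> exact h2p p hp hpq h6

theorem not_dvd_pow_sub_one {q p : ℕ} (hp : p.Prime) (hpq : p ∣ q) (hq : 1 ≤ q) {k : ℕ}
    (hk : k ≠ 0) : ¬ p ∣ q ^ k - 1 := fun h => by
  have h1 := Nat.dvd_sub (hpq.trans (dvd_pow_self q hk)) h
  rw [Nat.sub_sub_self (Nat.one_le_pow _ _ hq)] at h1
  exact hp.ne_one (Nat.dvd_one.1 h1)

theorem not_dvd_pow_add_one {q p : ℕ} (hp : p.Prime) (hpq : p ∣ q) {k : ℕ} (hk : k ≠ 0) :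
    ¬ p ∣ q ^ k + 1 := fun h =>
  hp.ne_one (Nat.dvd_one.1 ((Nat.dvd_add_right (hpq.trans (dvd_pow_self q hk))).1 h))

end Card

theorem not_iso_of_symm (hodd : Odd (Fintype.card F)) (hn : 3 ≤ n) {m : ℕ} (hnm : n = 2 * m)
    (S : GL (Fin n) F) (hS : (S : Matrix (Fin n) (Fin n) F)ᵀ = (S : Matrix (Fin n) (Fin n) F)) :
    ¬ Nonempty (↥(Cfsg.inndiagPSL n F ⊓ Subgroup.centralizer {graphAut S}) ≃* Cfsg.PGSp m F) := by
  rintro ⟨e⟩
  have h2 := two_ne_zero_of_odd_card hodd
  set q := Fintype.card F with hq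
  have hq1 : 1 ≤ q := Fintype.card_pos
  have hp2 : ∀ p, p.Prime → p ∣ q → ¬ p ∣ 2 := fun p hp hpq h => by
    rw [(Nat.prime_dvd_prime_iff_eq hp Nat.prime_two).1 h] at hpq
    exact Nat.not_even_iff_odd.2 hodd (even_iff_two_dvd.2 hpq)
  have hprod : ∀ k p, p.Prime → p ∣ q →
      ¬ p ∣ ∏ i ∈ Finset.range k, (q ^ (2 * (i + 1)) - 1) := fun k p hp hpq h => by
    obtain ⟨i, -, hi⟩ := (Prime.dvd_finsetProd_iff hp.prime _).1 h
    exact not_dvd_pow_sub_one hp hpq hq1 (by omega) hi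
  have h2p : ∀ p, p.Prime → p ∣ q → ¬ p ∣ q - 1 := fun p hp hpq h =>
    not_dvd_pow_sub_one hp hpq hq1 one_ne_zero (by rwa [pow_one])
  obtain ⟨k, rfl⟩ : ∃ k, m = k + 1 := ⟨m - 1, by omega⟩
  obtain ⟨a, b, hab⟩ := Quad.exists_anisotropic_binary (F := F) h2
  let eJ : (Fin (k + 1) ⊕ Fin (k + 1)) ≃ Fin n := Fintype.equivFinOfCardEq (by simp; omega)
  let eM : ((Fin k ⊕ Fin k) ⊕ Fin 2) ≃ Fin n := Fintype.equivFinOfCardEq (by simp; omega)
  have hdP := det_qGram_ne_zero (Quad.qPlus_nondeg (F := F) (k + 1))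
  have hdM := det_qGram_ne_zero (Quad.qMinus_nondeg hab k)
  obtain ⟨P, hP⟩ := exists_reindexed eJ hdP
  obtain ⟨M, hM⟩ := exists_reindexed eM hdM
  have hPM : ¬ IsSquare ((P : Matrix (Fin n) (Fin n) F).det * (M : Matrix (Fin n) (Fin n) F).det) := by
    rw [hP, hM, det_submatrix_equiv_self, det_submatrix_equiv_self, det_qPlus_qMinus]
    exact discr_nonsquare h2 hab
  rcases classify_symm_even h2 (by omega) S P M hS (reindexed_symm eJ (transpose_qGram _) hP)
    (reindexed_symm eM (transpose_qGram _) hM) hPM with h | h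
  · obtain ⟨f⟩ := cent_equiv_of_simForm hn eJ hP h (formSim_qGram h2 _)
    refine not_iso_PGSp h2 hdP (L := 2 * (q ^ (k + 1) - 1) *
      ∏ i ∈ Finset.range k, (q ^ (2 * (i + 1)) - 1)) ?_ (by omega) ?_ h2p ⟨f.symm.trans e⟩
    · rw [Quad.card_OQ_qPlus hq.symm, Nat.add_sub_cancel, ← hq]; ring
    · intro p hp hpq hd
      rcases hp.dvd_mul.1 hd with hd | hd
      · rcases hp.dvd_mul.1 hd with hd | hd
        · exact hp2 p hp hpq hd
        · exact not_dvd_pow_sub_one hp hpq hq1 (by omega) hd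
      · exact hprod k p hp hpq hd
  · obtain ⟨f⟩ := cent_equiv_of_simForm hn eM hM h (formSim_qGram h2 _)
    refine not_iso_PGSp h2 hdM (L := 2 * (q ^ (k + 1) + 1) *
      ∏ i ∈ Finset.range k, (q ^ (2 * (i + 1)) - 1)) ?_ (by omega) ?_ h2p ⟨f.symm.trans e⟩
    · rw [Quad.card_OQ_qMinus hq.symm _ hab, Nat.add_sub_cancel, ← hq]; ring
    · intro p hp hpq hd
      rcases hp.dvd_mul.1 hd with hd | hd
      · rcases hp.dvd_mul.1 hd with hd | hd
        · exact hp2 p hp hpq hd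
        · exact not_dvd_pow_add_one hp hpq (by omega) hd
      · exact hprod k p hp hpq hd

theorem class_splitting {p f : ℕ} [Fact p.Prime] (hF : Fintype.card F = p ^ f) (hf : 1 ≤ f)
    (hn : 3 ≤ n) (γ : MulAut (PSL n F)) (hγ : Cfsg.IsGraphAutClassPSL γ) (hγ2 : orderOf γ = 2) :
    ((Even n ∧ Odd p ∧ Nonempty (↥(Cfsg.inndiagPSL n F ⊓ Subgroup.centralizer {γ}) ≃*
        Cfsg.PGSp (n / 2) F)) →
      Cfsg.splitClassCount (Cfsg.inndiagPSL n F) (Cfsg.Inn (PSL n F)) γ =
        Nat.gcd (n / 2) (p ^ f - 1)) ∧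
    ((Even n ∧ Odd p ∧ ¬ Nonempty (↥(Cfsg.inndiagPSL n F ⊓ Subgroup.centralizer {γ}) ≃*
        Cfsg.PGSp (n / 2) F)) →
      Cfsg.splitClassCount (Cfsg.inndiagPSL n F) (Cfsg.Inn (PSL n F)) γ =
        Nat.gcd n (p ^ f - 1) / 2) ∧
    (¬ (Even n ∧ Odd p) →
      Cfsg.splitClassCount (Cfsg.inndiagPSL n F) (Cfsg.Inn (PSL n F)) γ =
        Nat.gcd n (p ^ f - 1)) := by
  obtain ⟨-, S, rfl, hS⟩ := exists_graphAut hγ hγ2
  rw [splitClassCount_eq (by omega) (graphAut S) (detGroup (graphAut S)) rfl, ← hF]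
  have hodd : Odd p → Odd (Fintype.card F) := fun h => by rw [hF]; exact h.pow
  refine ⟨?_, ?_, fun h => ?_⟩
  · rintro ⟨⟨m, hm⟩, hp, he⟩
    obtain rfl : n = m + m := hm
    have hdiv : (m + m) / 2 = m := by omega
    rw [hdiv] at he ⊢
    rcases hS with hS | hS
    · exact absurd he (not_iso_of_symm (hodd hp) hn (by omega) S hS)
    · rw [detGroup_alt hn (by omega : m + m = 2 * m) S
        (isAlt_of_skew (two_ne_zero_of_odd_card (hodd hp)) hS), index_powMonoidHom_range]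
  · rintro ⟨⟨m, hm⟩, hp, he⟩
    obtain rfl : n = m + m := hm
    have hdiv : (m + m) / 2 = m := by omega
    rw [hdiv] at he
    have h2 := two_ne_zero_of_odd_card (hodd hp)
    rcases hS with hS | hS
    · rw [detGroup_symm h2 hn ⟨m, rfl⟩ S hS, index_comap_sq (hodd hp) ⟨m, rfl⟩]
    · exfalso
      refine he ?_
      let eJ : (Fin m ⊕ Fin m) ≃ Fin (m + m) := Fintype.equivFinOfCardEq (by simp)
      obtain ⟨J, hJ⟩ := exists_reindexed eJ (Symp.det_J_ne_zero m F)
      have hJa : IsAltMat (J : Matrix (Fin (m + m)) (Fin (m + m)) F) := by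
        rw [hJ]; exact isAltMat_submatrix _ (isAltMat_J _)
      exact cent_equiv_of_simForm hn eJ hJ (simForm_alt S J (isAlt_of_skew h2 hS) hJa) (formSim_J m)
  · rw [detGroup_pow_n hn S ?_, index_powMonoidHom_range]
    by_cases hne : Even n
    · right
      have hp : p = 2 := ((Fact.out : p.Prime).eq_two_or_odd').resolve_right fun h' => h ⟨hne, h'⟩
      subst hp
      exact charP_of_card hF hf
    · exact Or.inl (Nat.not_even_iff_odd.1 hne)

end CfsgLib.Known.AutPSL.Graph
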