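import Cfsg.Agent.Lib.Known.AutPSL.GraphClasses
import Cfsg.Agent.Lib.Classical.Quad.StandardForms
import Cfsg.Agent.Lib.Classical.Quad.OmegaIndex

/-!
# The standard forms as matrices, and their graph automorphisms
-/

set_option autoImplicit false
set_option linter.unusedSectionVars false

open Matrix

namespace CfsgLib.Known.AutPSL.Graph

open QuadraticMap (polar polarBilin)
open CfsgLib.Classical

variable {n : ℕ} {F : Type*} [Field F] {ι : Type} [Fintype ι] [DecidableEq ι]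

/-- The Gram matrix of the polar of a quadratic form in the standard basis. -/
noncomputable def qGram (Q : QuadraticForm F (ι → F)) : Matrix ι ι F :=
  LinearMap.BilinForm.toMatrix (Pi.basisFun F ι) (polarBilin Q)

theorem formFun_qGram (Q : QuadraticForm F (ι → F)) (u v : ι → F) :
    formFun (qGram Q) u v = polar Q u v := by
  rw [← toBilin'_eq_formFun, qGram, LinearMap.BilinForm.toMatrix_basisFun,
    Matrix.toBilin'_toMatrix']
  rfl

theorem transpose_qGram (Q : QuadraticForm F (ι → F)) : (qGram Q)ᵀ = qGram Q := by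
  rw [← formFun_ext]
  intro u v
  rw [formFun_transpose, formFun_qGram, formFun_qGram, QuadraticMap.polar_comm]

theorem det_qGram_ne_zero {Q : QuadraticForm F (ι → F)} (hQ : (polarBilin Q).Nondegenerate) :
    (qGram Q).det ≠ 0 :=
  (LinearMap.BilinForm.nondegenerate_iff_det_ne_zero _).1 hQ

theorem formSim_qGram (h2 : (2 : F) ≠ 0) (Q : QuadraticForm F (ι → F)) :
    Cfsg.Geo.quadSimilarityGroup (F := F) ⇑Q = formSim (qGram Q) := by
  ext g
  refine exists_congr fun c => ⟨fun h u v => ?_, fun h v => ?_⟩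
  · rw [formFun_qGram, formFun_qGram, QuadraticMap.polar, QuadraticMap.polar, ← mulVec_add,
      h, h, h]
    ring
  · have h1 := h v v
    rw [formFun_qGram, formFun_qGram, Quad.polar_self', Quad.polar_self'] at h1
    exact mul_left_cancel₀ h2 (by linear_combination h1)

theorem exists_reindexed (e : ι ≃ Fin n) {A : Matrix ι ι F} (hA : A.det ≠ 0) :
    ∃ S : GL (Fin n) F, (S : Matrix (Fin n) (Fin n) F) = A.submatrix e.symm e.symm :=
  ⟨GeneralLinearGroup.mkOfDetNeZero (A.submatrix e.symm e.symm)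
    (by rwa [det_submatrix_equiv_self]), rfl⟩

theorem isAltMat_submatrix {κ : Type} [Fintype κ] [DecidableEq κ] (e : κ ≃ ι) {A : Matrix ι ι F}
    (hA : IsAltMat A) : IsAltMat (A.submatrix e e) := by
  intro v
  rw [submatrix_mulVec_equiv]
  have := hA (v ∘ e.symm)
  rw [dotProduct] at this ⊢
  rw [← this, ← Equiv.sum_comp e (fun i => (v ∘ e.symm) i * (A *ᵥ (v ∘ e.symm)) i)]
  simp

theorem formSim_J (m : ℕ) : Cfsg.GSp m F = formSim (Matrix.J (Fin m) F) := rfl

theorem isAltMat_J (m : ℕ) : IsAltMat (Matrix.J (Fin m) F) := fun v => by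
  have h := Symp.sympBil_isAlt m F v
  rwa [Symp.sympBil_apply] at h

theorem cent_equiv_of_simForm [Fintype F] (hn : 3 ≤ n) (e : ι ≃ Fin n) {A : Matrix ι ι F}
    {S₀ S : GL (Fin n) F} (hS₀ : (S₀ : Matrix (Fin n) (Fin n) F) = A.submatrix e.symm e.symm)
    (h : SimForm (S₀ : Matrix (Fin n) (Fin n) F) (S : Matrix (Fin n) (Fin n) F))
    {H : Subgroup (GL ι F)} (hH : H = formSim A) :
    Nonempty (↥(Cfsg.inndiagPSL n F ⊓ Subgroup.centralizer {graphAut S}) ≃* Cfsg.projQuot H) := by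
  obtain ⟨a⟩ := cent_equiv_of_isConjUnder (by omega) (isConjUnder_of_simForm hn h)
  obtain ⟨b⟩ := graph_cent_equiv hn e A S₀ hS₀ H hH
  exact ⟨a.symm.trans b⟩

/-- A projective group which splits as scalars times a subgroup without scalars. -/
theorem projQuot_split (H K : Subgroup (GL ι F)) (hKH : K ≤ H)
    (hK : ∀ g ∈ K, g ∈ Cfsg.Geo.scalars ι F → g = 1)
    (hdec : ∀ g ∈ H, ∃ k ∈ K, g * k⁻¹ ∈ Cfsg.Geo.scalars ι F) :
    Nonempty (Cfsg.projQuot H ≃* K) := by
  let φ : K →* Cfsg.projQuot H :=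
    (QuotientGroup.mk' ((Cfsg.Geo.scalars ι F).subgroupOf H)).comp (Subgroup.inclusion hKH)
  refine ⟨(MulEquiv.ofBijective φ ⟨?_, ?_⟩).symm⟩
  · rw [injective_iff_map_eq_one]
    intro k hk
    exact Subtype.ext (hK _ k.2 (Subgroup.mem_subgroupOf.1 ((QuotientGroup.eq_one_iff (Subgroup.inclusion hKH k)).1 hk)))
  · intro x
    obtain ⟨g, rfl⟩ := QuotientGroup.mk'_surjective _ x
    obtain ⟨k, hk, hs⟩ := hdec g g.2
    refine ⟨⟨k, hk⟩, ?_⟩
    refine (QuotientGroup.eq).2 (Subgroup.mem_subgroupOf.2 ?_)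
    show k⁻¹ * (g : GL ι F) ∈ Cfsg.Geo.scalars ι F
    have := (Cfsg.Geo.scalars_normal (ι := ι) (F := F)).conj_mem _ hs k⁻¹
    simpa [mul_assoc] using this

theorem exists_sq_charTwo [Finite F] [CharP F 2] (c : Fˣ) : ∃ d : Fˣ, (d : F) * d = c := by
  obtain ⟨b, hb⟩ := FiniteField.isSquare_of_char_two (ringChar.eq F 2) (c : F)
  exact ⟨Units.mk0 b (fun h => c.ne_zero (by rw [hb, h, mul_zero])), hb.symm⟩

theorem eq_one_of_sq_charTwo [CharP F 2] {c : F} (h : c * c = 1) : c = 1 :=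
  CharTwo.sq_injective (by simp only [sq]; rw [h, one_mul])

theorem projQuot_formSim_charTwo [Finite F] [CharP F 2] [Nonempty ι] {A : Matrix ι ι F}
    (hA : A ≠ 0) : Nonempty (Cfsg.projQuot (formSim A) ≃* formStab A) := by
  refine projQuot_split _ _ (fun g hg => (mem_formSim_iff A g).2 ⟨1, by
    rw [Units.val_one, one_smul]; exact (mem_formStab_iff A g).1 hg⟩) (fun g hg hs => ?_)
    fun g hg => ?_
  · obtain ⟨c, hc⟩ := (Cfsg.Geo.mem_scalars_iff g).1 hs
    have h := (mem_formStab_iff A g).1 hg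
    rw [hc, transpose_smul, transpose_one, Matrix.smul_mul, one_mul, Matrix.mul_smul, mul_one,
      smul_smul] at h
    have h' : ((c : F) * c - 1) • A = 0 := by rw [sub_smul, one_smul, h, sub_self]
    have hc1 := eq_one_of_sq_charTwo (sub_eq_zero.1 ((smul_eq_zero.1 h').resolve_right hA))
    ext1
    rw [hc, hc1, one_smul, Units.val_one]
  · obtain ⟨c, hc⟩ := (mem_formSim_iff A g).1 hg
    obtain ⟨d, hd⟩ := exists_sq_charTwo c
    let z : GL ι F := Units.map (Matrix.scalar ι : F →+* Matrix ι ι F).toMonoidHom d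
    have hz : ((z⁻¹ : GL ι F) : Matrix ι ι F) = ((d⁻¹ : Fˣ) : F) • 1 := by
      simp [z, Matrix.smul_one_eq_diagonal]
    refine ⟨z⁻¹ * g, (mem_formStab_iff A _).2 ?_, ?_⟩
    · rw [Units.val_mul, hz, Matrix.smul_mul, one_mul, transpose_smul, Matrix.smul_mul,
        Matrix.smul_mul, Matrix.mul_smul, hc, smul_smul, smul_smul, ← hd,
        show ((d⁻¹ : Fˣ) : F) * ((d⁻¹ : Fˣ) : F) * ((d : F) * d) =
          (((d⁻¹ : Fˣ) : F) * d) * (((d⁻¹ : Fˣ) : F) * d) by ring, Units.inv_mul, one_mul, one_smul]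
    · rw [_root_.mul_inv_rev, inv_inv, mul_inv_cancel_left]
      exact ⟨d, rfl⟩

theorem projQuot_quad_charTwo [Finite F] [CharP F 2] [Nonempty ι] {Q : QuadraticForm F (ι → F)}
    {v₀ : ι → F} (hv₀ : Q v₀ ≠ 0) :
    Nonempty (Cfsg.PGO F ⇑Q ≃* Cfsg.isometryGroup F ⇑Q) := by
  refine projQuot_split _ _ (fun g hg => ⟨1, fun v => by
    rw [Units.val_one, one_mul]; exact hg v v⟩) (fun g hg hs => ?_) fun g hg => ?_
  · obtain ⟨c, hc⟩ := (Cfsg.Geo.mem_scalars_iff g).1 hs
    have h : Q ((g : Matrix ι ι F) *ᵥ v₀) = Q v₀ := hg v₀ v₀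
    rw [hc, smul_mulVec, one_mulVec, Quad.apply_smul] at h
    have hc1 := eq_one_of_sq_charTwo ((mul_left_eq_self₀.1 h).resolve_right hv₀)
    ext1
    rw [hc, hc1, one_smul, Units.val_one]
  · obtain ⟨c, hc⟩ := hg
    obtain ⟨d, hd⟩ := exists_sq_charTwo c
    let z : GL ι F := Units.map (Matrix.scalar ι : F →+* Matrix ι ι F).toMonoidHom d
    have hz : ((z⁻¹ : GL ι F) : Matrix ι ι F) = ((d⁻¹ : Fˣ) : F) • 1 := by
      simp [z, Matrix.smul_one_eq_diagonal]
    refine ⟨z⁻¹ * g, fun v _ => ?_, ?_⟩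
    · show Q (((z⁻¹ * g : GL ι F) : Matrix ι ι F) *ᵥ v) = Q v
      rw [Units.val_mul, hz, Matrix.smul_mul, one_mul, smul_mulVec, Quad.apply_smul, hc, ← hd,
        show ((d⁻¹ : Fˣ) : F) * ((d⁻¹ : Fˣ) : F) * ((d : F) * d * Q v) =
          (((d⁻¹ : Fˣ) : F) * d) * (((d⁻¹ : Fˣ) : F) * d) * Q v by ring, Units.inv_mul, one_mul,
        one_mul]
    · rw [_root_.mul_inv_rev, inv_inv, mul_inv_cancel_left]
      exact ⟨d, rfl⟩

end CfsgLib.Known.AutPSL.Graph
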