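import Cfsg.Agent.Lib.Known.AutPSL.RootImage
import Cfsg.Agent.Lib.Classical.SLGroup

/-!
# The automorphism group of `PSL n F`

Every automorphism is `semilin g σ` or (for `n ≥ 3`) `semilin g σ * iota`, uniquely up to scalars
in `g`.
-/

set_option autoImplicit false

open Matrix

namespace CfsgLib.Known.AutPSL

variable {n : ℕ} {F : Type*} [Field F]

/-- The standard basis vectors. -/
def bv (i : Fin n) : Fin n → F := Pi.single i 1

theorem bv_ne_zero (i : Fin n) : (bv i : Fin n → F) ≠ 0 := fun h => by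
  simpa [bv] using congrFun h i

theorem bv_dot_bv {i j : Fin n} (h : i ≠ j) : (bv j : Fin n → F) ⬝ᵥ bv i = 0 := by
  simp [bv, h.symm]

theorem smul_bv_dot {i j : Fin n} (h : i ≠ j) (c : F) : (c • bv j : Fin n → F) ⬝ᵥ bv i = 0 := by
  rw [smul_dotProduct, bv_dot_bv h, smul_zero]

theorem not_par_bv {i j : Fin n} (h : i ≠ j) : ¬ Par (bv i : Fin n → F) (bv j) := by
  rintro ⟨c, hc⟩
  simpa [bv, h.symm] using congrFun hc j

theorem proj_transvection {i j : Fin n} (hij : i ≠ j) (c : F) :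
    proj n F (Matrix.SpecialLinearGroup.transvection hij c) = P (bv i) (c • bv j) := by
  rw [P_of (smul_bv_dot hij c)]
  congr 1
  refine Subtype.ext ?_
  rw [SpecialLinearGroup.transvection_coe, coe_tvSL]
  exact congrArg _ (vecMulVec_single i j c).symm

theorem aut_ext (hn : 2 ≤ n) {α β : MulAut (PSL n F)}
    (h : ∀ (i j : Fin n) (c : F), i ≠ j → α (P (bv i) (c • bv j)) = β (P (bv i) (c • bv j))) :
    α = β := by
  haveI : Nontrivial (Fin n) := Fin.nontrivial_iff_two_le.2 hn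
  refine mulAut_ext fun s => ?_
  have htop := CfsgLib.Classical.closure_transvection_eq_top
    (((α : PSL n F →* PSL n F).eqLocus (β : PSL n F →* PSL n F)).comap (proj n F))
    fun i j hij c => by
      show α (proj n F _) = β (proj n F _)
      rw [proj_transvection hij c]
      exact h i j c hij
  exact htop.ge (Subgroup.mem_top s)

theorem vecMul_glIota (g : GL (Fin n) F) (v : Fin n → F) :
    v ᵥ* ((g⁻¹ : GL (Fin n) F) : Matrix (Fin n) (Fin n) F) =
      (glIota g : Matrix (Fin n) (Fin n) F) *ᵥ v :=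
  (mulVec_transpose _ _).symm

variable [Fintype F]

theorem exists_transvection (hn : 2 ≤ n) (β : MulAut (PSL n F)) {a φ : Fin n → F} (ha : a ≠ 0)
    (hφ : φ ≠ 0) (h : φ ⬝ᵥ a = 0) :
    ∃ b ψ : Fin n → F, b ≠ 0 ∧ ψ ≠ 0 ∧ ψ ⬝ᵥ b = 0 ∧ β (P a φ) = P b ψ := by
  obtain ⟨b, ψ, hb, hψ, hdot, himg⟩ := root_image hn β ha hφ h
  obtain ⟨d, hd⟩ := himg 1
  rw [one_smul] at hd
  have hd0 : d ≠ 0 := by
    rintro rfl
    rw [zero_smul, P_zero_right, EmbeddingLike.map_eq_one_iff, P_eq_one_iff hn h] at hd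
    exact hd.elim ha hφ
  exact ⟨b, d • ψ, hb, smul_ne_zero hd0 hψ, by rw [smul_dotProduct, hdot, smul_zero], hd⟩

theorem adj_image (hn : 3 ≤ n) (β : MulAut (PSL n F)) {a φ a' φ' b ψ b' ψ' : Fin n → F}
    (hφ : φ ≠ 0) (hd : φ ⬝ᵥ a = 0) (ha' : a' ≠ 0) (hφ' : φ' ≠ 0) (hd' : φ' ⬝ᵥ a' = 0)
    (hb : b ≠ 0) (hψ' : ψ' ≠ 0) (hψ : ψ ⬝ᵥ b = 0) (hψd' : ψ' ⬝ᵥ b' = 0) (hψ0 : ψ ≠ 0)
    (h₁ : β (P a φ) = P b ψ) (h₂ : β (P a' φ') = P b' ψ') (hpar : Par a a' ∨ Par φ φ') :
    Par b b' ∨ Par ψ ψ' := by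
  obtain ⟨e, η, he, hprod⟩ : ∃ e η : Fin n → F, η ⬝ᵥ e = 0 ∧ P a φ * (P a' φ')⁻¹ = P e η := by
    rcases hpar with ⟨c, rfl⟩ | ⟨c, rfl⟩
    · have hc : c ≠ 0 := fun h => ha' (by rw [h, zero_smul])
      have h0 : φ' ⬝ᵥ a = 0 := by
        rw [dotProduct_smul, smul_eq_mul, mul_eq_zero] at hd'
        exact hd'.resolve_left hc
      have h0' : (-(c • φ')) ⬝ᵥ a = 0 := by
        rw [neg_dotProduct, smul_dotProduct, h0, smul_zero, neg_zero]
      refine ⟨a, φ + -(c • φ'), by rw [add_dotProduct, hd, h0', add_zero], ?_⟩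
      rw [P_smul_left _ _ _ h0, P_inv (by rw [smul_dotProduct, h0, smul_zero]), P_mul_right hd h0']
    · have hc : c ≠ 0 := fun h => hφ' (by rw [h, zero_smul])
      have h0 : φ ⬝ᵥ a' = 0 := by
        rw [smul_dotProduct, smul_eq_mul, mul_eq_zero] at hd'
        exact hd'.resolve_left hc
      have h0' : φ ⬝ᵥ ((-c) • a') = 0 := by rw [dotProduct_smul, h0, smul_zero]
      refine ⟨a + (-c) • a', φ, by rw [dotProduct_add, hd, h0', add_zero], ?_⟩
      rw [P_inv hd', show -(c • φ) = (-c) • φ from (neg_smul c φ).symm, ← P_smul_left _ _ _ h0,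
        P_mul_left hd h0']
  obtain ⟨e', η', he', himg⟩ : ∃ e' η' : Fin n → F, η' ⬝ᵥ e' = 0 ∧ β (P e η) = P e' η' := by
    by_cases hez : e = 0 ∨ η = 0
    · exact ⟨b, 0, by simp, by rw [(P_eq_one_iff (by omega) he).2 hez, map_one, P_zero_right]⟩
    · push Not at hez
      obtain ⟨x, y, -, -, hxy, hh⟩ := exists_transvection (by omega) β hez.1 hez.2 he
      exact ⟨x, y, hxy, hh⟩
  have := congrArg β hprod
  rw [map_mul, map_inv, h₁, h₂, himg] at this
  exact (par_of_mul_inv_eq hn hψ hψd' he' hb hψ' this).imp_right fun h => h.symm hψ0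

theorem sameRoot (hn : 2 ≤ n) (β : MulAut (PSL n F)) {a φ a' φ' b ψ b' ψ' : Fin n → F}
    (ha : a ≠ 0) (hφ : φ ≠ 0) (hd : φ ⬝ᵥ a = 0) (ha' : a' ≠ 0) (hφ' : φ' ≠ 0) (hd' : φ' ⬝ᵥ a' = 0)
    (hb : b ≠ 0) (hψ : ψ ≠ 0) (hψd : ψ ⬝ᵥ b = 0)
    (h₁ : β (P a φ) = P b ψ) (h₂ : β (P a' φ') = P b' ψ') (hbb : Par b b') (hψψ : Par ψ ψ') :
    Par a a' ∧ Par φ φ' := by
  obtain ⟨x, rfl⟩ := hbb
  obtain ⟨y, rfl⟩ := hψψ
  rw [P_smul_left _ _ _ (by rw [smul_dotProduct, hψd, smul_zero]), smul_smul] at h₂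
  obtain ⟨e, η, he0, hη0, he, himg⟩ := root_image hn β⁻¹ hb hψ hψd
  obtain ⟨d₁, hd₁⟩ := himg 1
  obtain ⟨d₂, hd₂⟩ := himg (x * y)
  rw [one_smul, ← h₁, MulAut.inv_apply_self,
    P_eq_iff hn hd (by rw [smul_dotProduct, he, smul_zero])] at hd₁
  rw [← h₂, MulAut.inv_apply_self,
    P_eq_iff hn hd' (by rw [smul_dotProduct, he, smul_zero])] at hd₂
  obtain ⟨p1, p2⟩ := vecMulVec_eq_iff_par ha hφ hd₁
  obtain ⟨q1, q2⟩ := vecMulVec_eq_iff_par ha' hφ' hd₂
  have hd10 : d₁ ≠ 0 := fun h => by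
    rw [h, zero_smul, vecMulVec_zero, vecMulVec_eq_zero] at hd₁
    exact hd₁.elim ha hφ
  have hd20 : d₂ ≠ 0 := fun h => by
    rw [h, zero_smul, vecMulVec_zero, vecMulVec_eq_zero] at hd₂
    exact hd₂.elim ha' hφ'
  refine ⟨p1.trans (q1.symm he0), (p2.trans (Par.trans ⟨d₂ / d₁, ?_⟩ (q2.symm (smul_ne_zero hd20 hη0))))⟩
  rw [smul_smul, div_mul_cancel₀ _ hd10]

/-- `β` stabilises each root group of the standard frame. -/
def Framed (β : MulAut (PSL n F)) : Prop :=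
  ∀ (i j : Fin n) (c : F), i ≠ j → ∃ d : F, β (P (bv i) (c • bv j)) = P (bv i) (d • bv j)

theorem exists_framed_of_dual (β : MulAut (PSL n F)) (a φ : Fin n → Fin n → F)
    (hoff : ∀ i j, i ≠ j → φ j ⬝ᵥ a i = 0) (hdiag : ∀ i, φ i ⬝ᵥ a i ≠ 0)
    (himg : ∀ (i j : Fin n) (c : F), i ≠ j → ∃ d : F, β (P (bv i) (c • bv j)) = P (a i) (d • φ j)) :
    ∃ h : GL (Fin n) F, Framed (semilin h (RingEquiv.refl F) * β) := by
  classical
  set M : Matrix (Fin n) (Fin n) F := Matrix.of fun k i => a i k with hM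
  set N : Matrix (Fin n) (Fin n) F := Matrix.of fun i k => φ i k / (φ i ⬝ᵥ a i) with hN
  have hNM : N * M = 1 := by
    ext i j
    rw [Matrix.mul_apply]
    simp only [hN, hM, Matrix.of_apply, div_mul_eq_mul_div, ← Finset.sum_div]
    rw [show (∑ k, φ i k * a j k) = φ i ⬝ᵥ a j from rfl]
    rcases eq_or_ne i j with rfl | hij
    · rw [div_self (hdiag i), Matrix.one_apply_eq]
    · rw [hoff j i hij.symm, zero_div, Matrix.one_apply_ne hij]
  refine ⟨⟨N, M, hNM, mul_eq_one_comm.1 hNM⟩, fun i j c hij => ?_⟩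
  obtain ⟨d, hd⟩ := himg i j c hij
  refine ⟨d * (φ j ⬝ᵥ a j), ?_⟩
  rw [MulAut.mul_apply, hd, semilin_P]
  congr 1
  · show N *ᵥ (⇑(RingEquiv.refl F) ∘ a i) = bv i
    funext k
    have h1 : (N *ᵥ (⇑(RingEquiv.refl F) ∘ a i)) k = (N * M) k i := rfl
    rw [h1, hNM, Matrix.one_apply]
    simp [bv, Pi.single_apply]
  · show (d • φ j) ᵥ* M = (d * (φ j ⬝ᵥ a j)) • bv j
    funext k
    rw [smul_vecMul, Pi.smul_apply, show (φ j ᵥ* M) k = φ j ⬝ᵥ a k from rfl, Pi.smul_apply,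
      smul_eq_mul, smul_eq_mul]
    rcases eq_or_ne j k with rfl | hjk
    · simp [bv]
    · rw [hoff k j hjk.symm]
      simp [bv, hjk.symm]

theorem exists_ne_ne (hn : 3 ≤ n) (i j : Fin n) : ∃ k, k ≠ i ∧ k ≠ j :=
  CfsgLib.Classical.exists_third hn i j

/-- Connectedness of the graph on ordered pairs. -/
theorem pair_const (hn : 3 ≤ n) {T : Sort*} (Φ : Fin n → Fin n → T)
    (hrow : ∀ i j k, i ≠ j → i ≠ k → j ≠ k → Φ i j = Φ i k)
    (hcol : ∀ i j k, i ≠ j → k ≠ j → i ≠ k → Φ i j = Φ k j)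
    (i j k l : Fin n) (hij : i ≠ j) (hkl : k ≠ l) : Φ i j = Φ k l := by
  have hrow' : ∀ i j k, i ≠ j → i ≠ k → Φ i j = Φ i k := fun i j k h h' =>
    if e : j = k then by rw [e] else hrow i j k h h' e
  have hcol' : ∀ i j k, i ≠ j → k ≠ j → Φ i j = Φ k j := fun i j k h h' =>
    if e : i = k then by rw [e] else hcol i j k h h' e
  rcases eq_or_ne j k with rfl | hjk
  · obtain ⟨m, hmi, hmj⟩ := exists_ne_ne hn i j
    exact ((hrow' i j m hij hmi.symm).trans (hcol' i m j hmi.symm hmj.symm)).trans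
      (hrow' j m l hmj.symm hkl)
  · exact (hcol' i j k hij hjk.symm).trans (hrow' k j l hjk.symm hkl)

theorem exists_framed_three (hn : 3 ≤ n) (β : MulAut (PSL n F)) :
    ∃ h : GL (Fin n) F, Framed (semilin h (RingEquiv.refl F) * β) ∨
      Framed (semilin h (RingEquiv.refl F) * (iota * β)) := by
  classical
  have hex : ∀ i j : Fin n, i ≠ j → ∃ b ψ : Fin n → F,
      b ≠ 0 ∧ ψ ≠ 0 ∧ ψ ⬝ᵥ b = 0 ∧ β (P (bv i) (bv j)) = P b ψ := fun i j hij =>
    exists_transvection (by omega) β (bv_ne_zero i) (bv_ne_zero j) (bv_dot_bv hij)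
  choose! α ψ hα hψ hdot himg using hex
  -- row edges are of exactly one type, column edges too; disjoint pairs are not adjacent
  have hsame : ∀ i j k l, i ≠ j → k ≠ l → (i, j) ≠ (k, l) →
      ¬ (Par (α i j) (α k l) ∧ Par (ψ i j) (ψ k l)) := by
    rintro i j k l hij hkl hne ⟨h1, h2⟩
    obtain ⟨p1, p2⟩ := sameRoot (by omega) β (bv_ne_zero i) (bv_ne_zero j) (bv_dot_bv hij)
      (bv_ne_zero k) (bv_ne_zero l) (bv_dot_bv hkl) (hα i j hij) (hψ i j hij) (hdot i j hij)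
      (himg i j hij) (himg k l hkl) h1 h2
    apply hne
    rw [Prod.mk.injEq]
    exact ⟨by_contra fun h => not_par_bv h p1, by_contra fun h => not_par_bv h p2⟩
  have hadj : ∀ i j k l, i ≠ j → k ≠ l → (i = k ∨ j = l) →
      Par (α i j) (α k l) ∨ Par (ψ i j) (ψ k l) := fun i j k l hij hkl h =>
    adj_image hn β (bv_ne_zero j) (bv_dot_bv hij) (bv_ne_zero k) (bv_ne_zero l) (bv_dot_bv hkl)
      (hα i j hij) (hψ k l hkl) (hdot i j hij) (hdot k l hkl) (hψ i j hij) (himg i j hij)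
      (himg k l hkl) (h.imp (fun e => by rw [e]; exact Par.refl _) (fun e => by rw [e]; exact Par.refl _))
  have hnadj : ∀ i j k l, i ≠ j → k ≠ l → i ≠ k → j ≠ l →
      ¬ (Par (α i j) (α k l) ∨ Par (ψ i j) (ψ k l)) := by
    intro i j k l hij hkl hik hjl h
    rcases adj_image hn β⁻¹ (hψ i j hij) (hdot i j hij) (hα k l hkl) (hψ k l hkl) (hdot k l hkl)
      (bv_ne_zero i) (bv_ne_zero l) (bv_dot_bv hij) (bv_dot_bv hkl) (bv_ne_zero j)
      (by rw [← himg i j hij, MulAut.inv_apply_self]) (by rw [← himg k l hkl, MulAut.inv_apply_self])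
      h with h' | h'
    · exact not_par_bv hik h'
    · exact not_par_bv hjl h'
  -- the type of the row edges at `(i, j)`
  have hflip : ∀ i j k l, i ≠ j → i ≠ k → j ≠ k → l ≠ j → l ≠ i →
      (Par (α i j) (α i k) ↔ Par (ψ i j) (ψ l j)) := by
    intro i j k l hij hik hjk hlj hli
    constructor
    · intro hC
      rcases hadj i j l j hij hlj (Or.inr rfl) with h | h
      · exact absurd (Or.inl ((hC.symm (hα i k hik)).trans h)) (hnadj i k l j hik hlj hli.symm hjk.symm)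
      · exact h
    · intro hD
      rcases hadj i j i k hij hik (Or.inl rfl) with h | h
      · exact h
      · exact absurd (Or.inr ((h.symm (hψ i k hik)).trans hD)) (hnadj i k l j hik hlj hli.symm hjk.symm)
  let T : Fin n → Fin n → Prop := fun i j => ∀ k, i ≠ k → j ≠ k → Par (α i j) (α i k)
  have hTrow : ∀ i j k, i ≠ j → i ≠ k → j ≠ k → (T i j ↔ Par (α i j) (α i k)) := by
    intro i j k hij hik hjk
    refine ⟨fun h => h k hik hjk, fun h m him hjm => ?_⟩
    exact (hflip i j m k hij him hjm (Ne.symm hjk) (Ne.symm hik)).2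
      ((hflip i j k k hij hik hjk (Ne.symm hjk) (Ne.symm hik)).1 h)
  have hTcol : ∀ i j k, i ≠ j → k ≠ j → i ≠ k → (T i j ↔ Par (ψ i j) (ψ k j)) := by
    intro i j k hij hkj hik
    exact (hTrow i j k hij hik hkj.symm).trans (hflip i j k k hij hik hkj.symm hkj hik.symm)
  have hconst : ∀ i j k l, i ≠ j → k ≠ l → (T i j ↔ T k l) := fun i j k l hij hkl =>
    iff_of_eq (pair_const hn T
      (fun i j k hij hik hjk => propext ((hTrow i j k hij hik hjk).trans (Iff.trans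
        ⟨fun h => h.symm (hα i k hik), fun h => h.symm (hα i j hij)⟩ (hTrow i k j hik hij hjk.symm).symm)))
      (fun i j k hij hkj hik => propext ((hTcol i j k hij hkj hik).trans (Iff.trans
        ⟨fun h => h.symm (hψ k j hkj), fun h => h.symm (hψ i j hij)⟩ (hTcol k j i hkj hij hik.symm).symm)))
      i j k l hij hkl)
  -- it suffices to treat the case where rows have common centres
  suffices main : ∀ (γ : MulAut (PSL n F)) (A Φ : Fin n → Fin n → Fin n → F),
      (∀ i j, i ≠ j → A i j ≠ 0 ∧ Φ i j ≠ 0 ∧ Φ i j ⬝ᵥ A i j = 0 ∧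
        γ (P (bv i) (bv j)) = P (A i j) (Φ i j)) →
      (∀ i j k, i ≠ j → i ≠ k → Par (A i j) (A i k)) →
      (∀ i j k, i ≠ j → k ≠ j → Par (Φ i j) (Φ k j)) →
      ∃ h : GL (Fin n) F, Framed (semilin h (RingEquiv.refl F) * γ) by
    by_cases hT : ∃ i j, i ≠ j ∧ T i j
    · obtain ⟨i₀, j₀, h₀, hT₀⟩ := hT
      obtain ⟨h, hh⟩ := main β α ψ (fun i j hij => ⟨hα i j hij, hψ i j hij, hdot i j hij, himg i j hij⟩)
        (fun i j k hij hik => if e : j = k then e ▸ Par.refl _ else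
          (hTrow i j k hij hik e).1 ((hconst _ _ _ _ h₀ hij).1 hT₀))
        (fun i j k hij hkj => if e : i = k then e ▸ Par.refl _ else
          (hTcol i j k hij hkj e).1 ((hconst _ _ _ _ h₀ hij).1 hT₀))
      exact ⟨h, Or.inl hh⟩
    · push Not at hT
      have hnot : ∀ i j, i ≠ j → ¬ T i j := fun i j hij h => hT i j hij h
      obtain ⟨h, hh⟩ := main (iota * β) ψ (fun i j => -α i j)
        (fun i j hij => ⟨hψ i j hij, neg_ne_zero.2 (hα i j hij),
          by rw [neg_dotProduct, dotProduct_comm, hdot i j hij, neg_zero],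
          by rw [MulAut.mul_apply, himg i j hij, iota_P]⟩)
        (fun i j k hij hik => if e : j = k then e ▸ Par.refl _ else
          (hadj i j i k hij hik (Or.inl rfl)).resolve_left
            fun h => hnot i j hij ((hTrow i j k hij hik e).2 h))
        (fun i j k hij hkj => if e : i = k then e ▸ Par.refl _ else by
          obtain ⟨c, hc⟩ := (hadj i j k j hij hkj (Or.inr rfl)).resolve_right
            fun h => hnot i j hij ((hTcol i j k hij hkj e).2 h)
          exact ⟨c, by rw [hc, smul_neg]⟩)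
      exact ⟨h, Or.inr hh⟩
  intro γ A Φ hspec hA hΦ
  have hne : ∀ i : Fin n, ∃ j, i ≠ j := fun i => by
    obtain ⟨j, hj, -⟩ := exists_ne_ne hn i i
    exact ⟨j, hj.symm⟩
  choose s hs using hne
  refine exists_framed_of_dual γ (fun i => A i (s i)) (fun j => Φ (s j) j) ?_ ?_ ?_
  · intro i j hij
    obtain ⟨c, hc⟩ := hA i j (s i) hij (hs i)
    obtain ⟨d, hd⟩ := hΦ i j (s j) hij (hs j).symm
    show Φ (s j) j ⬝ᵥ A i (s i) = 0
    rw [hc, hd, smul_dotProduct, dotProduct_smul, (hspec i j hij).2.2.1, smul_zero, smul_zero]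
  · intro i h0
    have hs' := (hs i).symm
    obtain ⟨e, η, he, hη, hde, himg'⟩ := exists_transvection (by omega) γ⁻¹
      (hspec i (s i) (hs i)).1 (hspec (s i) i hs').2.1 h0
    have key : ∀ j, i ≠ j → (Par (bv i) e ∨ Par (bv j) η) ∧ (Par (bv j) e ∨ Par (bv i) η) := by
      intro j hij
      obtain ⟨hA1, hP1, hd1, hi1⟩ := hspec i j hij
      obtain ⟨hA2, hP2, hd2, hi2⟩ := hspec j i hij.symm
      constructor
      · exact adj_image hn γ⁻¹ hP1 hd1 (hspec i (s i) (hs i)).1 (hspec (s i) i hs').2.1 h0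
          (bv_ne_zero i) hη (bv_dot_bv hij) hde (bv_ne_zero j)
          (by rw [← hi1, MulAut.inv_apply_self]) himg' (Or.inl (hA i j (s i) hij (hs i)))
      · exact adj_image hn γ⁻¹ hP2 hd2 (hspec i (s i) (hs i)).1 (hspec (s i) i hs').2.1 h0
          (bv_ne_zero j) hη (bv_dot_bv hij.symm) hde (bv_ne_zero i)
          (by rw [← hi2, MulAut.inv_apply_self]) himg' (Or.inr (hΦ j i (s i) hij.symm hs'))
    obtain ⟨j, hji, -⟩ := exists_ne_ne hn i i
    obtain ⟨k, hki, hkj⟩ := exists_ne_ne hn i j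
    have h1 : Par (bv i) e := by
      rcases (key j hji.symm).1 with h | h
      · exact h
      rcases (key k hki.symm).1 with h' | h'
      · exact h'
      exact absurd (h.trans (h'.symm hη)) (not_par_bv hkj.symm)
    have h2 : Par (bv i) η := by
      rcases (key j hji.symm).2 with h | h
      · exact absurd (h1.trans (h.symm he)) (not_par_bv hji.symm)
      · exact h
    obtain ⟨c, rfl⟩ := h1
    obtain ⟨d, rfl⟩ := h2
    rw [smul_dotProduct, dotProduct_smul] at hde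
    simp only [bv, single_dotProduct, Pi.single_eq_same, mul_one, smul_eq_mul, mul_eq_zero] at hde
    rcases hde with h | h
    · exact hη (by rw [h, zero_smul])
    · exact he (by rw [h, zero_smul])
  · intro i j c hij
    obtain ⟨b, χ, hb, hχ, hbχ, hall⟩ := root_image (by omega) γ (bv_ne_zero i) (bv_ne_zero j) (bv_dot_bv hij)
    obtain ⟨hA1, hP1, hd1, hi1⟩ := hspec i j hij
    obtain ⟨d₁, hd₁⟩ := hall 1
    rw [one_smul, hi1, P_eq_iff (by omega) hd1 (by rw [smul_dotProduct, hbχ, smul_zero])] at hd₁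
    obtain ⟨p1, p2⟩ := vecMulVec_eq_iff_par hA1 hP1 hd₁
    obtain ⟨x, rfl⟩ := ((hA i j (s i) hij (hs i)).symm (hspec i (s i) (hs i)).1).trans p1
    obtain ⟨d, hd⟩ := hall c
    have hd10 : d₁ ≠ 0 := fun h => by
      rw [h, zero_smul, vecMulVec_zero, vecMulVec_eq_zero] at hd₁
      exact hd₁.elim hA1 hP1
    obtain ⟨y, hy⟩ := ((hΦ i j (s j) hij (hs j).symm).symm (hspec (s j) j (hs j).symm).2.1).trans p2
    have hχe : χ = (d₁⁻¹ * y) • Φ (s j) j := by
      rw [← smul_smul, ← hy, smul_smul, inv_mul_cancel₀ hd10, one_smul]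
    have hx0 : x ≠ 0 := fun h => hb (by rw [h, zero_smul])
    have hdot' : χ ⬝ᵥ A i (s i) = 0 := by
      rw [dotProduct_smul, smul_eq_mul, mul_eq_zero] at hbχ
      exact hbχ.resolve_left hx0
    refine ⟨x * (d * (d₁⁻¹ * y)), ?_⟩
    rw [hd, P_smul_left _ _ _ (by rw [smul_dotProduct, hdot', smul_zero]), hχe, smul_smul, smul_smul, mul_assoc]

theorem par_of_orth_two {a φ ψ : Fin 2 → F} (ha : a ≠ 0) (hφ : φ ≠ 0) (h₁ : φ ⬝ᵥ a = 0)
    (h₂ : ψ ⬝ᵥ a = 0) : Par φ ψ := by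
  simp only [dotProduct, Fin.sum_univ_two] at h₁ h₂
  have hdet : φ 0 * ψ 1 = φ 1 * ψ 0 := by
    by_cases ha0 : a 0 = 0
    · have ha1 : a 1 ≠ 0 := fun h => ha (funext fun i => by fin_cases i <;> assumption)
      rw [ha0, mul_zero, zero_add, mul_eq_zero] at h₁ h₂
      rw [h₁.resolve_right ha1, h₂.resolve_right ha1]; ring
    · apply mul_right_cancel₀ ha0
      linear_combination (ψ 1) * h₁ - (φ 1) * h₂
  by_cases h0 : φ 0 = 0
  · have h1 : φ 1 ≠ 0 := fun h => hφ (funext fun i => by fin_cases i <;> assumption)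
    refine ⟨ψ 1 / φ 1, funext fun i => ?_⟩
    rw [h0, zero_mul, eq_comm, mul_eq_zero] at hdet
    fin_cases i
    · simp [h0, hdet.resolve_left h1]
    · simp [div_mul_cancel₀ _ h1]
  · refine ⟨ψ 0 / φ 0, funext fun i => ?_⟩
    fin_cases i
    · simp [div_mul_cancel₀ _ h0]
    · simp only [Fin.mk_one, Fin.isValue, Pi.smul_apply, smul_eq_mul]
      field_simp
      linear_combination hdet

theorem exists_framed_two (β : MulAut (PSL 2 F)) :
    ∃ h : GL (Fin 2) F, Framed (semilin h (RingEquiv.refl F) * β) := by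
  have h01 : (0 : Fin 2) ≠ 1 := zero_ne_one
  obtain ⟨a, φ, ha, hφ, hd, himg⟩ := root_image le_rfl β (bv_ne_zero (0 : Fin 2)) (bv_ne_zero 1)
    (bv_dot_bv h01)
  obtain ⟨b, ψ, hb, hψ, hd', himg'⟩ := root_image le_rfl β (bv_ne_zero (1 : Fin 2)) (bv_ne_zero 0)
    (bv_dot_bv h01.symm)
  have hab : ¬ (Par a b ∧ Par φ ψ) := by
    rintro ⟨h1, h2⟩
    obtain ⟨c, hc⟩ := himg 1
    obtain ⟨c', hc'⟩ := himg' 1
    rw [one_smul] at hc hc'
    have hc0 : c ≠ 0 := by
      rintro rfl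
      rw [zero_smul, P_zero_right, EmbeddingLike.map_eq_one_iff,
        P_eq_one_iff le_rfl (bv_dot_bv h01)] at hc
      exact hc.elim (bv_ne_zero _) (bv_ne_zero _)
    have hp : Par (c • φ) (c' • ψ) := by
      obtain ⟨k, rfl⟩ := h2
      exact ⟨c' * k / c, by rw [smul_smul, smul_smul, div_mul_cancel₀ _ hc0]⟩
    exact not_par_bv h01 (sameRoot le_rfl β (bv_ne_zero _) (bv_ne_zero _) (bv_dot_bv h01)
      (bv_ne_zero _) (bv_ne_zero _) (bv_dot_bv h01.symm) ha (smul_ne_zero hc0 hφ)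
      (by rw [smul_dotProduct, hd, smul_zero]) hc hc' h1 hp).1
  have hab1 : ¬ Par a b := by
    intro h
    obtain ⟨k, rfl⟩ := h
    have hk : k ≠ 0 := fun h => hb (by rw [h, zero_smul])
    rw [dotProduct_smul, smul_eq_mul, mul_eq_zero] at hd'
    exact hab ⟨⟨k, rfl⟩, par_of_orth_two ha hφ hd (hd'.resolve_left hk)⟩
  refine exists_framed_of_dual β ![a, b] ![ψ, φ] ?_ ?_ ?_
  · intro i j hij
    fin_cases i <;> fin_cases j <;> simp_all
  · intro i h0
    fin_cases i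
    · change ψ ⬝ᵥ a = 0 at h0
      exact hab1 (par_of_orth_two hψ ha (by rw [dotProduct_comm]; exact h0) (by rw [dotProduct_comm]; exact hd'))
    · change φ ⬝ᵥ b = 0 at h0
      exact hab1 (par_of_orth_two hφ ha (by rw [dotProduct_comm]; exact hd) (by rw [dotProduct_comm]; exact h0))
  · intro i j c hij
    fin_cases i <;> fin_cases j <;> simp_all

end CfsgLib.Known.AutPSL
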