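import Mathlib

/-!
# Transvections and root groups of `PSL n F`
-/

set_option autoImplicit false

open Matrix

namespace CfsgLib.Known.AutPSL

variable {n : ℕ} {F : Type*} [Field F]

/-- The projective special linear group on `Fin n`. -/
abbrev PSL (n : ℕ) (F : Type*) [Field F] : Type _ := Matrix.ProjectiveSpecialLinearGroup (Fin n) F

/-- The special linear group on `Fin n`. -/
abbrev SL (n : ℕ) (F : Type*) [Field F] : Type _ := Matrix.SpecialLinearGroup (Fin n) F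

/-- The projection. -/
def proj (n : ℕ) (F : Type*) [Field F] : SL n F →* PSL n F := QuotientGroup.mk' _

theorem proj_surjective : Function.Surjective (proj n F) := QuotientGroup.mk_surjective

theorem proj_eq_iff (A B : SL n F) :
    proj n F A = proj n F B ↔ ∃ c : F, c ≠ 0 ∧
      (B : Matrix (Fin n) (Fin n) F) = c • (A : Matrix (Fin n) (Fin n) F) := by
  refine (QuotientGroup.mk'_eq_mk' _).trans ⟨?_, ?_⟩
  · rintro ⟨z, hz, rfl⟩
    obtain ⟨c, hc, hz'⟩ := Matrix.SpecialLinearGroup.mem_center_iff.1 hz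
    by_cases hn : n = 0
    · subst hn; exact ⟨1, one_ne_zero, Subsingleton.elim _ _⟩
    refine ⟨c, fun h => ?_, ?_⟩
    · rw [h, Fintype.card_fin, zero_pow hn] at hc; exact zero_ne_one hc
    · rw [Matrix.SpecialLinearGroup.coe_mul, ← hz', Matrix.scalar_apply, ← Matrix.smul_one_eq_diagonal,
        mul_smul_comm, mul_one]
  · rintro ⟨c, -, hc⟩
    refine ⟨A⁻¹ * B, ?_, by group⟩
    refine Subgroup.mem_center_iff.2 fun D => Subtype.ext ?_
    have h : ((A⁻¹ * B : SL n F) : Matrix (Fin n) (Fin n) F) = c • 1 := by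
      rw [Matrix.SpecialLinearGroup.coe_mul, hc, mul_smul_comm, ← Matrix.SpecialLinearGroup.coe_mul,
        inv_mul_cancel, Matrix.SpecialLinearGroup.coe_one]
    change (D : Matrix (Fin n) (Fin n) F) * ((A⁻¹ * B : SL n F) : Matrix (Fin n) (Fin n) F) =
      ((A⁻¹ * B : SL n F) : Matrix (Fin n) (Fin n) F) * (D : Matrix (Fin n) (Fin n) F)
    rw [h]
    simp

/-! ### Elementary matrix facts -/

theorem det_one_add_vecMulVec (a φ : Fin n → F) : (1 + vecMulVec a φ).det = 1 + φ ⬝ᵥ a := by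
  rw [vecMulVec_eq Unit, Matrix.det_one_add_replicateCol_mul_replicateRow]

/-- `1 + a φᵀ` as an element of `SL n F`. -/
def tvSL (a φ : Fin n → F) (h : φ ⬝ᵥ a = 0) : SL n F :=
  ⟨1 + vecMulVec a φ, by rw [det_one_add_vecMulVec, h, add_zero]⟩

@[simp]
theorem coe_tvSL (a φ : Fin n → F) (h : φ ⬝ᵥ a = 0) :
    (tvSL a φ h : Matrix (Fin n) (Fin n) F) = 1 + vecMulVec a φ := rfl

theorem one_add_mul_one_add (a φ b ψ : Fin n → F) :
    (1 + vecMulVec a φ) * (1 + vecMulVec b ψ) =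
      1 + vecMulVec a φ + vecMulVec b ψ + (φ ⬝ᵥ b) • vecMulVec a ψ := by
  rw [add_mul, mul_add, mul_add, one_mul, mul_one, one_mul, vecMulVec_mul_vecMulVec]
  simp only [op_smul_eq_smul, smul_vecMulVec, vecMulVec_smul]
  abel

open Classical in
/-- The transvection `1 + a φᵀ` in `PSL n F`; it is `1` if `φ a ≠ 0`. -/
noncomputable def P (a φ : Fin n → F) : PSL n F :=
  if h : φ ⬝ᵥ a = 0 then proj n F (tvSL a φ h) else 1

theorem P_of {a φ : Fin n → F} (h : φ ⬝ᵥ a = 0) : P a φ = proj n F (tvSL a φ h) := dif_pos h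

theorem P_eq_of_vecMulVec {a φ b ψ : Fin n → F} (h₁ : φ ⬝ᵥ a = 0) (h₂ : ψ ⬝ᵥ b = 0)
    (h : vecMulVec a φ = vecMulVec b ψ) : P a φ = P b ψ := by
  rw [P_of h₁, P_of h₂]
  congr 1
  exact Subtype.ext (by simp [h])

theorem P_mul {a φ b ψ : Fin n → F} {e η : Fin n → F} (h₁ : φ ⬝ᵥ a = 0) (h₂ : ψ ⬝ᵥ b = 0)
    (h₃ : η ⬝ᵥ e = 0) (hzero : φ ⬝ᵥ b = 0) (h : vecMulVec a φ + vecMulVec b ψ = vecMulVec e η) :
    P a φ * P b ψ = P e η := by
  rw [P_of h₁, P_of h₂, P_of h₃, ← map_mul]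
  congr 1
  refine Subtype.ext ?_
  rw [Matrix.SpecialLinearGroup.coe_mul, coe_tvSL, coe_tvSL, coe_tvSL, one_add_mul_one_add, hzero,
    zero_smul, add_zero, add_assoc, h]

theorem P_mul_right {a φ ψ : Fin n → F} (h₁ : φ ⬝ᵥ a = 0) (h₂ : ψ ⬝ᵥ a = 0) :
    P a φ * P a ψ = P a (φ + ψ) :=
  P_mul h₁ h₂ (by rw [add_dotProduct, h₁, h₂, add_zero]) h₁ (vecMulVec_add _ _ _).symm

theorem P_mul_left {a b φ : Fin n → F} (h₁ : φ ⬝ᵥ a = 0) (h₂ : φ ⬝ᵥ b = 0) :
    P a φ * P b φ = P (a + b) φ :=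
  P_mul h₁ h₂ (by rw [dotProduct_add, h₁, h₂, add_zero]) h₂ (add_vecMulVec _ _ _).symm

theorem P_smul_left (a φ : Fin n → F) (c : F) (h : φ ⬝ᵥ a = 0) : P (c • a) φ = P a (c • φ) :=
  P_eq_of_vecMulVec (by rw [dotProduct_smul, h, smul_zero]) (by rw [smul_dotProduct, h, smul_zero])
    (by rw [smul_vecMulVec, vecMulVec_smul])

theorem P_zero_right (a : Fin n → F) : P a 0 = 1 := by
  rw [P_of (by simp), show tvSL a (0 : Fin n → F) (by simp) = 1 from Subtype.ext (by ext; simp [vecMulVec_apply]),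
    map_one]

theorem P_inv {a φ : Fin n → F} (h : φ ⬝ᵥ a = 0) : (P a φ)⁻¹ = P a (-φ) := by
  rw [inv_eq_iff_mul_eq_one, P_mul_right h (by rw [neg_dotProduct, h, neg_zero]), add_neg_cancel,
    P_zero_right]

theorem P_eq_iff (hn : 2 ≤ n) {a φ b ψ : Fin n → F} (h₁ : φ ⬝ᵥ a = 0) (h₂ : ψ ⬝ᵥ b = 0) :
    P a φ = P b ψ ↔ vecMulVec a φ = vecMulVec b ψ := by
  refine ⟨fun h => ?_, P_eq_of_vecMulVec h₁ h₂⟩
  rw [P_of h₁, P_of h₂] at h
  obtain ⟨c, -, hc⟩ := (proj_eq_iff _ _).1 h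
  rw [coe_tvSL, coe_tvSL] at hc
  suffices hc1 : c = 1 by
    subst hc1
    rw [one_smul, add_right_inj] at hc
    exact hc.symm
  -- `vecMulVec b ψ` squares to zero
  have hN : vecMulVec b ψ * vecMulVec b ψ = 0 := by
    rw [vecMulVec_mul_vecMulVec, h₂]
    simp
  by_cases ha : a = 0
  · subst ha
    rw [zero_vecMulVec, add_zero] at hc
    have hN' : vecMulVec b ψ = (c - 1) • (1 : Matrix (Fin n) (Fin n) F) := by
      rw [sub_smul, one_smul, ← hc, add_sub_cancel_left]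
    rw [hN', smul_mul_smul_comm, mul_one, smul_eq_zero, mul_self_eq_zero, sub_eq_zero] at hN
    exact hN.resolve_right (by
      haveI : Nonempty (Fin n) := ⟨⟨0, by omega⟩⟩
      exact one_ne_zero)
  · have hv := congrArg (· *ᵥ a) hc
    simp only [add_mulVec, smul_mulVec, one_mulVec, vecMulVec_mulVec, h₁,
      op_smul_eq_smul, zero_smul, add_zero] at hv
    -- `a` is an eigenvector of the nilpotent matrix `vecMulVec b ψ`
    have h3 : (ψ ⬝ᵥ a) • b = (c - 1) • a := by rw [sub_smul, one_smul, ← hv, add_sub_cancel_left]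
    have h4 := congrArg (fun v => (ψ ⬝ᵥ v)) h3
    simp only [dotProduct_smul, smul_eq_mul, h₂, mul_zero] at h4
    rcases mul_eq_zero.1 h4.symm with h5 | h5
    · exact sub_eq_zero.1 h5
    · rw [h5, zero_smul] at h3
      exact sub_eq_zero.1 ((smul_eq_zero.1 h3.symm).resolve_right ha)

theorem P_eq_one_iff (hn : 2 ≤ n) {a φ : Fin n → F} (h : φ ⬝ᵥ a = 0) :
    P a φ = 1 ↔ a = 0 ∨ φ = 0 := by
  rw [← P_zero_right a, P_eq_iff hn h (by simp), vecMulVec_zero, vecMulVec_eq_zero]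

/-! ### Parallel vectors -/

/-- `b` is a multiple of `a`. -/
def Par (a b : Fin n → F) : Prop := ∃ c : F, b = c • a

theorem Par.refl (a : Fin n → F) : Par a a := ⟨1, (one_smul _ _).symm⟩

theorem Par.symm {a b : Fin n → F} (h : Par a b) (hb : b ≠ 0) : Par b a := by
  obtain ⟨c, rfl⟩ := h
  exact ⟨c⁻¹, by rw [inv_smul_smul₀ fun hc => hb (by rw [hc, zero_smul])]⟩

theorem Par.trans {a b c : Fin n → F} (h : Par a b) (h' : Par b c) : Par a c := by
  obtain ⟨x, rfl⟩ := h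
  obtain ⟨y, rfl⟩ := h'
  exact ⟨y * x, smul_smul _ _ _⟩

theorem exists_eq_zero_ne_zero {φ ψ : Fin n → F} (hψ : ψ ≠ 0) (h : ¬ Par ψ φ) :
    ∃ x : Fin n → F, ψ ⬝ᵥ x = 0 ∧ φ ⬝ᵥ x ≠ 0 := by
  classical
  obtain ⟨i, hi⟩ := Function.ne_iff.1 hψ
  by_contra hcon
  push Not at hcon
  refine h ⟨φ i / ψ i, funext fun j => ?_⟩
  have h0 := hcon (ψ j • Pi.single i 1 - ψ i • Pi.single j 1) (by
    simp [dotProduct_sub, dotProduct_smul, dotProduct_single]; ring)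
  simp [dotProduct_sub, dotProduct_smul, dotProduct_single] at h0
  have hi' : ψ i ≠ 0 := hi
  rw [Pi.smul_apply, smul_eq_mul]
  field_simp
  linear_combination (-1 : F) * h0

theorem exists_ne_zero_orth (hn : 3 ≤ n) (φ ψ : Fin n → F) :
    ∃ x : Fin n → F, x ≠ 0 ∧ φ ⬝ᵥ x = 0 ∧ ψ ⬝ᵥ x = 0 := by
  classical
  let T : (Fin n → F) →ₗ[F] (Fin 2 → F) := Matrix.mulVecLin (Matrix.of ![φ, ψ])
  have h := LinearMap.ker_ne_bot_of_finrank_lt (f := T) (by simp; omega)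
  obtain ⟨x, hx, hx0⟩ := Submodule.exists_mem_ne_zero_of_ne_bot h
  have hx' : T x = 0 := hx
  refine ⟨x, hx0, ?_, ?_⟩
  · simpa [T, mulVec] using congrFun hx' 0
  · simpa [T, mulVec] using congrFun hx' 1

/-- Two transvections whose quotient is a transvection have a common centre or a common axis. -/
theorem par_of_mul_inv_eq (hn : 3 ≤ n) {a φ b ψ e η : Fin n → F} (h₁ : φ ⬝ᵥ a = 0) (h₂ : ψ ⬝ᵥ b = 0)
    (h₃ : η ⬝ᵥ e = 0) (ha : a ≠ 0) (hψ0 : ψ ≠ 0)
    (h : P a φ * (P b ψ)⁻¹ = P e η) : Par a b ∨ Par ψ φ := by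
  by_contra hcon
  push Not at hcon
  obtain ⟨hab, hφψ⟩ := hcon
  rw [P_inv h₂, P_of h₁, P_of (by rw [neg_dotProduct, h₂, neg_zero]), P_of h₃, ← map_mul] at h
  obtain ⟨c, -, hc⟩ := (proj_eq_iff _ _).1 h
  rw [coe_tvSL, Matrix.SpecialLinearGroup.coe_mul, coe_tvSL, coe_tvSL, one_add_mul_one_add] at hc
  obtain ⟨x, hx0, hxφ, hxψ⟩ := exists_ne_zero_orth hn φ ψ
  have hv := congrArg (· *ᵥ x) hc
  simp only [add_mulVec, smul_mulVec, one_mulVec, vecMulVec_mulVec, hxφ, hxψ, neg_dotProduct,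
    op_smul_eq_smul, neg_zero, zero_smul, smul_zero, add_zero] at hv
  have hc1 : c = 1 := by
    have h3 : (η ⬝ᵥ x) • e = (c - 1) • x := by rw [sub_smul, one_smul, ← hv, add_sub_cancel_left]
    have h4 := congrArg (fun v => (η ⬝ᵥ v)) h3
    simp only [dotProduct_smul, smul_eq_mul, h₃, mul_zero] at h4
    rcases mul_eq_zero.1 h4.symm with h5 | h5
    · exact sub_eq_zero.1 h5
    · rw [h5, zero_smul] at h3
      exact sub_eq_zero.1 ((smul_eq_zero.1 h3.symm).resolve_right hx0)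
  subst hc1
  rw [one_smul] at hc
  have key : ∀ y : Fin n → F,
      (η ⬝ᵥ y) • e = (φ ⬝ᵥ y - (φ ⬝ᵥ b) * (ψ ⬝ᵥ y)) • a - (ψ ⬝ᵥ y) • b := by
    intro y
    have := congrArg (· *ᵥ y) hc
    simp only [add_mulVec, smul_mulVec, one_mulVec, vecMulVec_mulVec, neg_dotProduct,
      op_smul_eq_smul, smul_smul, neg_smul, dotProduct_neg, neg_mul, add_assoc,
      add_right_inj] at this
    rw [this, sub_smul, smul_neg, smul_smul]
    abel
  obtain ⟨y, hy1, hy2⟩ := exists_eq_zero_ne_zero hψ0 hφψ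
  have h5 := key y
  rw [hy1, mul_zero, sub_zero, zero_smul, sub_zero] at h5
  have hea : Par e a :=
    ⟨(η ⬝ᵥ y) / (φ ⬝ᵥ y), by rw [div_eq_inv_mul, ← smul_smul, h5, inv_smul_smul₀ hy2]⟩
  obtain ⟨i, hi⟩ := Function.ne_iff.1 hψ0
  have h6 := key (Pi.single i 1)
  simp only [dotProduct_single, mul_one] at h6
  set k := φ i - φ ⬝ᵥ b * ψ i
  have he0 : e ≠ 0 := by
    rintro rfl
    obtain ⟨z, rfl⟩ := hea
    exact ha (smul_zero _)
  have heb : Par e b := by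
    obtain ⟨z, hz⟩ := hea
    refine ⟨(k * z - η i) / ψ i, ?_⟩
    rw [hz, smul_smul] at h6
    rw [div_eq_inv_mul, ← smul_smul, sub_smul, h6, sub_sub_cancel, inv_smul_smul₀ hi]
  exact hab ((hea.symm ha).trans heb)

theorem vecMulVec_eq_iff_par {a φ b ψ : Fin n → F} (ha : a ≠ 0) (hφ : φ ≠ 0)
    (h : vecMulVec a φ = vecMulVec b ψ) : Par a b ∧ Par φ ψ := by
  obtain ⟨i, hi⟩ := Function.ne_iff.1 ha
  obtain ⟨j, hj⟩ := Function.ne_iff.1 hφ
  simp only [Pi.zero_apply] at hi hj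
  have hb : b i * ψ j ≠ 0 := by
    rw [← vecMulVec_apply b ψ i j, ← h]
    exact mul_ne_zero hi hj
  have e : ∀ k l, b k * ψ l = a k * φ l := fun k l => by
    rw [← vecMulVec_apply b ψ k l, ← h, vecMulVec_apply]
  constructor
  · refine ⟨φ j / ψ j, funext fun k => ?_⟩
    have hψj : ψ j ≠ 0 := right_ne_zero_of_mul hb
    rw [Pi.smul_apply, smul_eq_mul]
    field_simp
    linear_combination e k j
  · refine ⟨a i / b i, funext fun l => ?_⟩
    have hbi : b i ≠ 0 := left_ne_zero_of_mul hb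
    rw [Pi.smul_apply, smul_eq_mul]
    field_simp
    linear_combination e i l

/-- The commutator of two transvections. -/
theorem P_commutator {a φ b ψ : Fin n → F} (h₁ : φ ⬝ᵥ a = 0) (h₂ : ψ ⬝ᵥ b = 0) (h₃ : ψ ⬝ᵥ a = 0) :
    P a φ * P b ψ * (P a φ)⁻¹ * (P b ψ)⁻¹ = P a ((φ ⬝ᵥ b) • ψ) := by
  have h₁' : (-φ) ⬝ᵥ a = 0 := by rw [neg_dotProduct, h₁, neg_zero]
  have h₂' : (-ψ) ⬝ᵥ b = 0 := by rw [neg_dotProduct, h₂, neg_zero]
  have h₄ : ((φ ⬝ᵥ b) • ψ) ⬝ᵥ a = 0 := by rw [smul_dotProduct, h₃, smul_zero]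
  rw [P_inv h₁, P_inv h₂, P_of h₁, P_of h₂, P_of h₁', P_of h₂', P_of h₄, ← map_mul, ← map_mul,
    ← map_mul]
  congr 1
  refine Subtype.ext ?_
  simp only [Matrix.SpecialLinearGroup.coe_mul, coe_tvSL, vecMulVec_neg]
  have hAA : vecMulVec a φ * vecMulVec a φ = 0 := by rw [vecMulVec_mul_vecMulVec, h₁]; simp
  have hBB : vecMulVec b ψ * vecMulVec b ψ = 0 := by rw [vecMulVec_mul_vecMulVec, h₂]; simp
  have hBA : vecMulVec b ψ * vecMulVec a φ = 0 := by rw [vecMulVec_mul_vecMulVec, h₃]; simp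
  have hAB : vecMulVec a φ * vecMulVec b ψ = vecMulVec a ((φ ⬝ᵥ b) • ψ) := by
    rw [vecMulVec_mul_vecMulVec]
  rw [← hAB]
  generalize vecMulVec a φ = A at hAA hBA ⊢
  generalize vecMulVec b ψ = B at hBB hBA ⊢
  simp only [mul_add, add_mul, one_mul, mul_one, mul_neg, neg_mul, mul_assoc, hAA, hBB, hBA,
    mul_zero, neg_zero, add_zero, zero_add, neg_neg]
  abel

end CfsgLib.Known.AutPSL
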