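import Cfsg.Agent.Lib.Known.AutPSL.Root
import Cfsg.Prelude.Def_LieTypeDatum

/-!
# The automorphisms of `PSL n F` induced by semilinear maps and by the inverse transpose
-/

set_option autoImplicit false

open Matrix

namespace CfsgLib.Known.AutPSL

variable {n : ℕ} {F : Type*} [Field F]

theorem map_center_eq {G H : Type*} [Group G] [Group H] (e : G ≃* H) :
    (Subgroup.center G).map (e : G →* H) = Subgroup.center H := by
  ext x
  simp only [Subgroup.mem_map, Subgroup.mem_center_iff, MonoidHom.coe_coe]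
  constructor
  · rintro ⟨y, hy, rfl⟩ z
    obtain ⟨w, rfl⟩ := e.surjective z
    rw [← map_mul, hy w, map_mul]
  · intro h
    refine ⟨e.symm x, fun w => e.injective ?_, e.apply_symm_apply x⟩
    rw [map_mul, map_mul, e.apply_symm_apply, h]

/-- The map `s ↦ g σ(s) g⁻¹` of `SL n F`. -/
def slConjHom (g : GL (Fin n) F) (σ : F ≃+* F) : SL n F →* SL n F where
  toFun s := ⟨(g : Matrix (Fin n) (Fin n) F) * (s : Matrix (Fin n) (Fin n) F).map σ *
      ((g⁻¹ : GL (Fin n) F) : Matrix (Fin n) (Fin n) F), by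
    rw [Matrix.det_mul, Matrix.det_mul, mul_right_comm, ← Matrix.det_mul,
      show ((g : Matrix (Fin n) (Fin n) F) * ((g⁻¹ : GL (Fin n) F) : Matrix (Fin n) (Fin n) F)) = 1
        from Units.mul_inv g, Matrix.det_one, one_mul, ← RingEquiv.mapMatrix_apply,
      ← RingEquiv.map_det, s.2, map_one]⟩
  map_one' := Subtype.ext (by
    show (g : Matrix (Fin n) (Fin n) F) * (1 : Matrix (Fin n) (Fin n) F).map σ *
      ((g⁻¹ : GL (Fin n) F) : Matrix (Fin n) (Fin n) F) = 1
    rw [Matrix.map_one _ (map_zero σ) (map_one σ), mul_one, Units.mul_inv])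
  map_mul' s t := Subtype.ext (by
    show (g : Matrix (Fin n) (Fin n) F) *
        ((s : Matrix (Fin n) (Fin n) F) * (t : Matrix (Fin n) (Fin n) F)).map σ *
        ((g⁻¹ : GL (Fin n) F) : Matrix (Fin n) (Fin n) F) =
      (g : Matrix (Fin n) (Fin n) F) * (s : Matrix (Fin n) (Fin n) F).map σ *
        ((g⁻¹ : GL (Fin n) F) : Matrix (Fin n) (Fin n) F) *
        ((g : Matrix (Fin n) (Fin n) F) * (t : Matrix (Fin n) (Fin n) F).map σ *
        ((g⁻¹ : GL (Fin n) F) : Matrix (Fin n) (Fin n) F))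
    rw [Matrix.map_mul]
    simp only [mul_assoc, Units.inv_mul_cancel_left])

@[simp]
theorem coe_slConjHom (g : GL (Fin n) F) (σ : F ≃+* F) (s : SL n F) :
    (slConjHom g σ s : Matrix (Fin n) (Fin n) F) =
      (g : Matrix (Fin n) (Fin n) F) * (s : Matrix (Fin n) (Fin n) F).map σ *
        ((g⁻¹ : GL (Fin n) F) : Matrix (Fin n) (Fin n) F) := rfl

/-- `σ` applied to the entries of an invertible matrix. -/
def glMap (σ : F ≃+* F) : GL (Fin n) F →* GL (Fin n) F :=
  Units.map (σ.mapMatrix : Matrix (Fin n) (Fin n) F ≃+* Matrix (Fin n) (Fin n) F).toMonoidHom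

@[simp]
theorem coe_glMap (σ : F ≃+* F) (g : GL (Fin n) F) :
    (glMap σ g : Matrix (Fin n) (Fin n) F) = (g : Matrix (Fin n) (Fin n) F).map σ := rfl

theorem slConjHom_slConjHom (g h : GL (Fin n) F) (σ τ : F ≃+* F) (s : SL n F) :
    slConjHom g σ (slConjHom h τ s) = slConjHom (g * glMap σ h) (τ.trans σ) s := by
  refine Subtype.ext ?_
  simp only [coe_slConjHom, _root_.mul_inv_rev, Units.val_mul, ← map_inv, coe_glMap, Matrix.map_mul,
    Matrix.map_map, RingEquiv.coe_trans, mul_assoc]

theorem slConjHom_one (s : SL n F) : slConjHom 1 (RingEquiv.refl F) s = s :=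
  Subtype.ext (by simp)

/-- The automorphism `s ↦ g σ(s) g⁻¹` of `SL n F`. -/
def slConj (g : GL (Fin n) F) (σ : F ≃+* F) : SL n F ≃* SL n F where
  toFun := slConjHom g σ
  invFun := slConjHom (glMap σ.symm g⁻¹) σ.symm
  left_inv s := by
    rw [slConjHom_slConjHom, ← map_mul, inv_mul_cancel, map_one, RingEquiv.self_trans_symm,
      slConjHom_one]
  right_inv s := by
    rw [slConjHom_slConjHom, show glMap σ (glMap σ.symm g⁻¹) = g⁻¹ from Units.ext (by
      rw [coe_glMap, coe_glMap, Matrix.map_map, (funext σ.apply_symm_apply : (⇑σ ∘ ⇑σ.symm) = id), Matrix.map_id]),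
      mul_inv_cancel, RingEquiv.symm_trans_self, slConjHom_one]
  map_mul' := map_mul _

/-- The automorphism of `PSL n F` induced by `v ↦ g σ(v)`. -/
def semilin (g : GL (Fin n) F) (σ : F ≃+* F) : MulAut (PSL n F) :=
  QuotientGroup.congr _ _ (slConj g σ) (map_center_eq _)

theorem semilin_proj (g : GL (Fin n) F) (σ : F ≃+* F) (s : SL n F) :
    semilin g σ (proj n F s) = proj n F (slConjHom g σ s) := rfl

theorem mulAut_ext {α β : MulAut (PSL n F)} (h : ∀ s, α (proj n F s) = β (proj n F s)) : α = β :=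
  MulEquiv.ext fun x => by
    obtain ⟨s, rfl⟩ := proj_surjective x
    exact h s

theorem semilin_mul (g h : GL (Fin n) F) (σ τ : F ≃+* F) :
    semilin g σ * semilin h τ = semilin (g * glMap σ h) (τ.trans σ) :=
  mulAut_ext fun s => by
    rw [MulAut.mul_apply, semilin_proj, semilin_proj, semilin_proj, slConjHom_slConjHom]

theorem semilin_one : semilin (n := n) (1 : GL (Fin n) F) (RingEquiv.refl F) = 1 :=
  mulAut_ext fun s => by rw [semilin_proj, slConjHom_one]; rfl

theorem semilin_inv (g : GL (Fin n) F) (σ : F ≃+* F) :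
    (semilin g σ)⁻¹ = semilin (glMap σ.symm g⁻¹) σ.symm :=
  inv_eq_of_mul_eq_one_left (by
    rw [semilin_mul, ← map_mul, inv_mul_cancel, map_one, RingEquiv.self_trans_symm, semilin_one])

/-- The inverse transpose of `SL n F`. -/
def slIota : SL n F →* SL n F where
  toFun s := (s⁻¹).transpose
  map_one' := Subtype.ext (by simp [Matrix.SpecialLinearGroup.transpose])
  map_mul' s t := Subtype.ext (by
    show (((s * t)⁻¹ : SL n F) : Matrix (Fin n) (Fin n) F)ᵀ =
      ((s⁻¹ : SL n F) : Matrix (Fin n) (Fin n) F)ᵀ * ((t⁻¹ : SL n F) : Matrix (Fin n) (Fin n) F)ᵀ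
    rw [_root_.mul_inv_rev, Matrix.SpecialLinearGroup.coe_mul, Matrix.transpose_mul])

@[simp]
theorem coe_slIota (s : SL n F) :
    (slIota s : Matrix (Fin n) (Fin n) F) = ((s⁻¹ : SL n F) : Matrix (Fin n) (Fin n) F)ᵀ := rfl

theorem slIota_slIota (s : SL n F) : slIota (slIota s) = s := by
  have h : (slIota s)⁻¹ = s.transpose := by
    refine inv_eq_of_mul_eq_one_left (Subtype.ext ?_)
    show (s : Matrix (Fin n) (Fin n) F)ᵀ * ((s⁻¹ : SL n F) : Matrix (Fin n) (Fin n) F)ᵀ = 1
    rw [← Matrix.transpose_mul, ← Matrix.SpecialLinearGroup.coe_mul, inv_mul_cancel,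
      Matrix.SpecialLinearGroup.coe_one, Matrix.transpose_one]
  refine Subtype.ext ?_
  rw [coe_slIota, h]
  exact Matrix.transpose_transpose _

/-- The inverse transpose of `SL n F` as an equivalence. -/
def slIotaEquiv : SL n F ≃* SL n F where
  toFun := slIota
  invFun := slIota
  left_inv := slIota_slIota
  right_inv := slIota_slIota
  map_mul' := map_mul _

/-- The inverse-transpose automorphism of `PSL n F`. -/
def iota : MulAut (PSL n F) := QuotientGroup.congr _ _ slIotaEquiv (map_center_eq _)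

theorem iota_proj (s : SL n F) : iota (proj n F s) = proj n F (slIota s) := rfl

theorem iota_iota : (iota : MulAut (PSL n F)) * iota = 1 :=
  mulAut_ext fun s => by rw [MulAut.mul_apply, iota_proj, iota_proj, slIota_slIota]; rfl

theorem iota_inv : (iota : MulAut (PSL n F))⁻¹ = iota := inv_eq_of_mul_eq_one_left iota_iota

/-- The inverse transpose of an invertible matrix. -/
noncomputable def glIota (g : GL (Fin n) F) : GL (Fin n) F where
  val := ((g⁻¹ : GL (Fin n) F) : Matrix (Fin n) (Fin n) F)ᵀ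
  inv := (g : Matrix (Fin n) (Fin n) F)ᵀ
  val_inv := by rw [← Matrix.transpose_mul, Units.mul_inv, Matrix.transpose_one]
  inv_val := by rw [← Matrix.transpose_mul, Units.inv_mul, Matrix.transpose_one]

theorem iota_semilin (g : GL (Fin n) F) (σ : F ≃+* F) :
    iota * semilin g σ = semilin (glIota g) σ * iota := by
  refine mulAut_ext fun s => ?_
  simp only [MulAut.mul_apply, semilin_proj, iota_proj]
  congr 1
  refine Subtype.ext ?_
  have h : ((slConjHom g σ s)⁻¹ : SL n F) = slConjHom g σ s⁻¹ := (map_inv _ _).symm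
  rw [coe_slIota, h, coe_slConjHom, coe_slConjHom, coe_slIota, Matrix.transpose_mul,
    Matrix.transpose_mul, Matrix.transpose_map, mul_assoc]
  rfl

/-! ### The action on transvections -/

theorem map_comp_dotProduct (σ : F ≃+* F) (φ a : Fin n → F) :
    (σ ∘ φ) ⬝ᵥ (σ ∘ a) = σ (φ ⬝ᵥ a) := by
  simp [dotProduct, map_sum]

theorem semilin_P (g : GL (Fin n) F) (σ : F ≃+* F) (a φ : Fin n → F) :
    semilin g σ (P a φ) =
      P ((g : Matrix (Fin n) (Fin n) F) *ᵥ (σ ∘ a))
        ((σ ∘ φ) ᵥ* ((g⁻¹ : GL (Fin n) F) : Matrix (Fin n) (Fin n) F)) := by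
  have key : ((σ ∘ φ) ᵥ* ((g⁻¹ : GL (Fin n) F) : Matrix (Fin n) (Fin n) F)) ⬝ᵥ
      ((g : Matrix (Fin n) (Fin n) F) *ᵥ (σ ∘ a)) = σ (φ ⬝ᵥ a) := by
    rw [← dotProduct_mulVec, mulVec_mulVec, Units.inv_mul, one_mulVec, map_comp_dotProduct]
  by_cases h : φ ⬝ᵥ a = 0
  · rw [P_of h, semilin_proj, P_of (by rw [key, h, map_zero])]
    congr 1
    refine Subtype.ext ?_
    rw [coe_slConjHom, coe_tvSL, coe_tvSL, Matrix.map_add _ (map_add σ), Matrix.map_one _ (map_zero σ) (map_one σ),
      show (vecMulVec a φ).map σ = vecMulVec (σ ∘ a) (σ ∘ φ) from by ext i j; simp [vecMulVec_apply],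
      mul_add, add_mul, mul_one, Units.mul_inv, ← vecMulVec_mul, ← mul_vecMulVec]
  · rw [P, dif_neg h, map_one, P, dif_neg (by rwa [key, map_eq_zero])]

theorem iota_P (a φ : Fin n → F) : iota (P a φ) = P φ (-a) := by
  by_cases h : φ ⬝ᵥ a = 0
  · have h' : (-a) ⬝ᵥ φ = 0 := by rw [neg_dotProduct, dotProduct_comm, h, neg_zero]
    rw [P_of h, iota_proj, P_of h']
    congr 1
    refine Subtype.ext ?_
    have hi : ((tvSL a φ h)⁻¹ : SL n F) = tvSL a (-φ) (by rw [neg_dotProduct, h, neg_zero]) := by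
      refine inv_eq_of_mul_eq_one_right (Subtype.ext ?_)
      rw [Matrix.SpecialLinearGroup.coe_mul, coe_tvSL, coe_tvSL, one_add_mul_one_add, h]
      simp [vecMulVec_neg]
    rw [coe_slIota, hi, coe_tvSL, coe_tvSL, transpose_add, transpose_one, transpose_vecMulVec,
      neg_vecMulVec, vecMulVec_neg]
  · rw [P, dif_neg h, map_one, P, dif_neg]
    rwa [neg_dotProduct, neg_eq_zero, dotProduct_comm]

/-! ### Link with the predicates of the problem -/

theorem isInducedBySemilinearPSL_iff (g : GL (Fin n) F) (σ : F ≃+* F) (β : MulAut (PSL n F)) :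
    Cfsg.IsInducedBySemilinearPSL g σ β ↔ β = semilin g σ := by
  constructor
  · intro h
    exact mulAut_ext fun s => h s (slConjHom g σ s) rfl
  · rintro rfl s s' hs
    rw [show s' = slConjHom g σ s from Subtype.ext hs]
    rfl

theorem isStdFieldAutPSL_iff (σ : F ≃+* F) (β : MulAut (PSL n F)) :
    Cfsg.IsStdFieldAutPSL σ β ↔ β = semilin 1 σ := by
  constructor
  · intro h
    exact mulAut_ext fun s => h s (slConjHom 1 σ s) (by simp)
  · rintro rfl s s' hs
    rw [show s' = slConjHom 1 σ s from Subtype.ext (by simpa using hs)]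
    rfl

theorem isInnerDiagonalAutPSL_iff (β : MulAut (PSL n F)) :
    Cfsg.IsInnerDiagonalAutPSL β ↔ ∃ g : GL (Fin n) F, β = semilin g (RingEquiv.refl F) := by
  refine exists_congr fun g => ⟨fun h => ?_, ?_⟩
  · exact mulAut_ext fun s => h s (slConjHom g (RingEquiv.refl F) s) (by simp)
  · rintro rfl s s' hs
    rw [show s' = slConjHom g (RingEquiv.refl F) s from Subtype.ext (by simpa using hs)]
    rfl

theorem isInverseTransposeAutPSL_iff (β : MulAut (PSL n F)) :
    Cfsg.IsInverseTransposeAutPSL β ↔ β = iota := by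
  constructor
  · intro h
    exact mulAut_ext fun s => h s (slIota s) rfl
  · rintro rfl s s' hs
    rw [show s' = slIota s from Subtype.ext hs]
    rfl

theorem conj_eq_semilin (x : SL n F) :
    MulAut.conj (proj n F x) = semilin (Matrix.SpecialLinearGroup.toGL x) (RingEquiv.refl F) := by
  refine mulAut_ext fun s => ?_
  rw [semilin_proj, MulAut.conj_apply, ← map_inv, ← map_mul, ← map_mul]
  congr 1

end CfsgLib.Known.AutPSL
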